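import Cfsg.Agent.Lib.Char.Complete
import Cfsg.Agent.Lib.Char.Central
import Mathlib.GroupTheory.PGroup
import Mathlib.RingTheory.IntegralClosure.IntegrallyClosed

/-!
# Characters under a coprime action of a p-group (Glauberman correspondence, p-group case)

`A` is a p-group acting on `G` by automorphisms, `ι : C →* G` is injective with image the fixed
point subgroup. For an invariant irreducible character the restriction to `C` has exactly one
constituent of multiplicity prime to `p`; this is a bijection, and the multiplicity is `±1 mod p`.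

The proof only uses congruences modulo `p` in the algebraic integers: a sum over `G` of an
invariant integral function is congruent to the sum over the fixed points, applied to
`|G| χ(x) χ(y) = χ(1) ∑ g, χ(x g y g⁻¹)`.
-/

namespace CfsgLib.CharAction

open scoped ComplexConjugate
open Module

/-- Congruence modulo `p` in the algebraic integers, for complex numbers. -/
def CongMod (p : ℕ) (x y : ℂ) : Prop := ∃ a : ℂ, IsIntegral ℤ a ∧ x - y = (p : ℂ) * a

namespace CongMod

variable {p : ℕ} {x y z c : ℂ}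

theorem refl (x : ℂ) : CongMod p x x := ⟨0, isIntegral_zero, by simp⟩

theorem of_eq (h : x = y) : CongMod p x y := h ▸ refl x

theorem symm (h : CongMod p x y) : CongMod p y x := by
  obtain ⟨a, ha, h⟩ := h
  exact ⟨-a, ha.neg, by rw [mul_neg, ← h]; ring⟩

theorem trans (h₁ : CongMod p x y) (h₂ : CongMod p y z) : CongMod p x z := by
  obtain ⟨a, ha, e₁⟩ := h₁
  obtain ⟨b, hb, e₂⟩ := h₂
  exact ⟨a + b, ha.add hb, by rw [mul_add, ← e₁, ← e₂]; ring⟩

theorem mul_left (hc : IsIntegral ℤ c) (h : CongMod p x y) : CongMod p (c * x) (c * y) := by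
  obtain ⟨a, ha, h⟩ := h
  exact ⟨c * a, hc.mul ha, by rw [← mul_sub, h]; ring⟩

theorem mul_right (hc : IsIntegral ℤ c) (h : CongMod p x y) : CongMod p (x * c) (y * c) := by
  simpa [mul_comm] using h.mul_left hc

theorem sum {ι : Type*} (s : Finset ι) {f g : ι → ℂ} (h : ∀ i ∈ s, CongMod p (f i) (g i)) :
    CongMod p (∑ i ∈ s, f i) (∑ i ∈ s, g i) := by
  choose! a ha e using h
  exact ⟨∑ i ∈ s, a i, IsIntegral.sum a ha,
    by rw [← Finset.sum_sub_distrib, Finset.mul_sum]; exact Finset.sum_congr rfl e⟩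

theorem prime_mul (hc : IsIntegral ℤ c) : CongMod p ((p : ℂ) * c) 0 := ⟨c, hc, by simp⟩

theorem dvd_sub_of_intCast (hp : p ≠ 0) {a b : ℤ} (h : CongMod p (a : ℂ) (b : ℂ)) :
    (p : ℤ) ∣ a - b := by
  obtain ⟨c, hc, e⟩ := h
  have hp' : (p : ℂ) ≠ 0 := Nat.cast_ne_zero.mpr hp
  have hc' : c = ((((a - b : ℤ) : ℚ) / (p : ℚ) : ℚ) : ℂ) := by
    push_cast
    rw [eq_div_iff hp', mul_comm]
    exact e.symm
  rw [hc'] at hc
  have h2 : IsIntegral ℤ (((a - b : ℤ) : ℚ) / (p : ℚ)) :=
    (isIntegral_algHom_iff ((Algebra.ofId ℚ ℂ).restrictScalars ℤ)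
      (algebraMap ℚ ℂ).injective).mp (by simpa using hc)
  obtain ⟨k, hk⟩ := IsIntegrallyClosed.isIntegral_iff.mp h2
  refine ⟨k, ?_⟩
  rw [eq_intCast, eq_div_iff (Nat.cast_ne_zero.mpr hp)] at hk
  have : ((a - b : ℤ) : ℚ) = (((p : ℤ) * k : ℤ) : ℚ) := by rw [← hk]; push_cast; ring
  exact_mod_cast this

theorem dvd_of_natCast (hp : p ≠ 0) {a : ℕ} (h : CongMod p (a : ℂ) 0) : p ∣ a := by
  have := dvd_sub_of_intCast hp (a := (a : ℤ)) (b := 0) (by simpa using h)
  simpa [Int.natCast_dvd_natCast] using this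

end CongMod

/-- A sum of an invariant integral function is congruent to the sum over the fixed points. -/
theorem congMod_sum_fixed {A X : Type*} [Group A] [Finite A] [MulAction A X] [Fintype X] {p : ℕ}
    [Fact p.Prime] (hA : IsPGroup p A) (f : X → ℂ) (hint : ∀ x, IsIntegral ℤ (f x))
    (hinv : ∀ (a : A) x, f (a • x) = f x) [DecidablePred fun x : X => ∀ a : A, a • x = x] :
    CongMod p (∑ x, f x)
      (∑ x ∈ Finset.univ.filter (fun x : X => ∀ a : A, a • x = x), f x) := by
  classical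
  let π : X → MulAction.orbitRel.Quotient A X := Quotient.mk''
  haveI : Fintype (MulAction.orbitRel.Quotient A X) := Fintype.ofFinite _
  rw [← Finset.sum_fiberwise (s := Finset.univ) (g := π),
    ← Finset.sum_fiberwise (s := Finset.univ.filter (fun x : X => ∀ a : A, a • x = x)) (g := π)]
  refine CongMod.sum _ fun q _ => ?_
  induction q using Quotient.inductionOn' with
  | h x₀ =>
    have hmem : ∀ x : X, π x = Quotient.mk'' x₀ ↔ x ∈ MulAction.orbit A x₀ := fun x =>
      Quotient.eq''.trans Iff.rfl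
    by_cases hx : ∀ a : A, a • x₀ = x₀
    · refine CongMod.of_eq (Finset.sum_congr ?_ fun _ _ => rfl)
      ext x
      simp only [Finset.mem_filter, Finset.mem_univ, true_and]
      refine ⟨fun h => ⟨?_, h⟩, fun h => h.2⟩
      obtain ⟨a, (ha : a • x₀ = x)⟩ := (hmem x).mp h
      intro b
      rw [← ha, show a • x₀ = x₀ from hx a, hx b]
    · have h0 : ∑ x ∈ (Finset.univ.filter (fun x : X => ∀ a : A, a • x = x)).filter
          (fun x => π x = Quotient.mk'' x₀), f x = 0 := by
        refine Finset.sum_eq_zero fun x hxm => absurd ?_ hx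
        simp only [Finset.mem_filter, Finset.mem_univ, true_and] at hxm
        obtain ⟨a, (ha : a • x₀ = x)⟩ := (hmem x).mp hxm.2
        intro b
        have h1 := hxm.1 a⁻¹
        rw [← ha] at h1
        simp only [inv_smul_smul] at h1
        rw [h1, ha, hxm.1 b]
      rw [h0]
      have hsum : ∑ x ∈ Finset.univ.filter (fun x : X => π x = Quotient.mk'' x₀), f x =
          (Nat.card (MulAction.orbit A x₀) : ℂ) * f x₀ := by
        rw [Finset.sum_congr rfl (g := fun _ => f x₀) (fun x hxm => ?_), Finset.sum_const,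
          nsmul_eq_mul]
        · congr 2
          rw [Nat.card_eq_fintype_card, ← Set.toFinset_card]
          congr 1
          ext x
          simp [hmem]
        · simp only [Finset.mem_filter, Finset.mem_univ, true_and] at hxm
          obtain ⟨a, ha⟩ := (hmem x).mp hxm
          rw [← ha]
          exact hinv a x₀
      rw [hsum]
      obtain ⟨n, hn⟩ := hA.card_orbit x₀
      rcases n with _ | n
      · exfalso
        rw [pow_zero, Nat.card_eq_one_iff_unique] at hn
        exact hx fun a => congrArg Subtype.val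
          (hn.1.elim ⟨a • x₀, MulAction.mem_orbit _ _⟩ ⟨x₀, MulAction.mem_orbit_self _⟩)
      · rw [hn, pow_succ', Nat.cast_mul, mul_assoc]
        exact CongMod.prime_mul ((isIntegral_algebraMap (x := (p ^ n : ℤ))).mul (hint x₀) |>
          fun h => by simpa using h)

/-- The functional equation of an irreducible character. -/
theorem apply_mul_apply {G : Type*} [Group G] [Fintype G] {χ : G → ℂ}
    (hχ : Cfsg.IsIrrCharacter G χ) (x y : G) :
    (Nat.card G : ℂ) * (χ x * χ y) = χ 1 * ∑ g : G, χ (x * (g * y * g⁻¹)) := by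
  obtain ⟨n, ρ, hρ, rfl⟩ := hχ
  obtain ⟨c, hc⟩ := Char.exists_eq_smul_of_commute ρ (∑ g : G, ρ (g * y * g⁻¹)) fun h => by
    rw [Finset.sum_mul, Finset.mul_sum]
    refine Fintype.sum_equiv (Equiv.mulLeft h⁻¹) _ _ fun g => ?_
    rw [← map_mul, ← map_mul, Equiv.coe_mulLeft]
    congr 1
    group
  have h1 := congrArg (LinearMap.trace ℂ _) hc
  rw [map_sum, map_smul, LinearMap.trace_id, smul_eq_mul] at h1
  have hconst : ∀ g : G, LinearMap.trace ℂ _ (ρ (g * y * g⁻¹)) = ρ.character y :=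
    fun g => ρ.char_conj y g
  simp only [hconst, Finset.sum_const, Finset.card_univ, nsmul_eq_mul] at h1
  have h2 := congrArg (fun f => LinearMap.trace ℂ _ (ρ x * f)) hc
  simp only [Finset.mul_sum, map_sum, mul_smul_comm, ← map_mul, map_smul, smul_eq_mul] at h2
  have hx : LinearMap.trace ℂ _ (ρ x * LinearMap.id) = ρ.character x := by
    rw [← Module.End.one_eq_id, mul_one]
    rfl
  rw [hx] at h2
  change (Nat.card G : ℂ) * (ρ.character x * ρ.character y) =
    ρ.character 1 * ∑ g : G, LinearMap.trace ℂ _ (ρ (x * (g * y * g⁻¹)))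
  rw [h2, Representation.char_one, Nat.card_eq_fintype_card]
  linear_combination ρ.character x * h1

theorem sum_irr_mul_conj {G : Type*} [Group G] [Fintype G] [DecidableEq (Cfsg.IrrCharacter G)]
    (γ δ : Cfsg.IrrCharacter G) :
    ∑ x : G, (γ : G → ℂ) x * conj ((δ : G → ℂ) x) =
      if γ = δ then (Nat.card G : ℂ) else 0 := by
  have h := Char.classInner_irr γ δ
  rw [Cfsg.classInner, inv_mul_eq_iff_eq_mul₀ (Nat.cast_ne_zero.mpr Nat.card_pos.ne')] at h
  rw [h]
  split_ifs <;> simp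

theorem degree_dvd_card {G : Type*} [Group G] [Finite G] (χ : Cfsg.IrrCharacter G) :
    ∃ d : ℕ, (χ : G → ℂ) 1 = d ∧ 0 < d ∧ d ∣ Nat.card G := by
  obtain ⟨n, ρ, hρ, h⟩ := χ.2
  exact ⟨_, h ▸ Representation.char_one ρ, CharIntegral.finrank_pos_of_irreducible ρ,
    CharIntegral.finrank_dvd_card ρ⟩

section Restrict

variable {G C : Type*} [Group G] [Group C] [Fintype C] (ι : C →* G)

/-- The multiplicity of `γ` in the restriction of `χ` along `ι`. -/
noncomputable def mult (χ : Cfsg.IrrCharacter G) (γ : Cfsg.IrrCharacter C) : ℕ :=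
  (Char.IsChar.classInner_eq_natCast (Char.IsChar.comp ι (Char.IsIrr.isCharacter χ.2))
    (Char.IsIrr.isCharacter γ.2)).choose

theorem classInner_eq_mult (χ : Cfsg.IrrCharacter G) (γ : Cfsg.IrrCharacter C) :
    Cfsg.classInner (fun c => (χ : G → ℂ) (ι c)) (γ : C → ℂ) = (mult ι χ γ : ℂ) :=
  (Char.IsChar.classInner_eq_natCast (Char.IsChar.comp ι (Char.IsIrr.isCharacter χ.2))
    (Char.IsIrr.isCharacter γ.2)).choose_spec

theorem apply_eq_sum_mult [Fintype (Cfsg.IrrCharacter C)] (χ : Cfsg.IrrCharacter G) (c : C) :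
    (χ : G → ℂ) (ι c) = ∑ γ : Cfsg.IrrCharacter C, (mult ι χ γ : ℂ) * (γ : C → ℂ) c := by
  rw [Char.classFunction_apply_eq_sum (θ := fun c => (χ : G → ℂ) (ι c))
    (Char.IsChar.isClassFunction (Char.IsChar.comp ι (Char.IsIrr.isCharacter χ.2))) c]
  simp [classInner_eq_mult]

theorem sum_apply_mul_conj (χ : Cfsg.IrrCharacter G) (γ : Cfsg.IrrCharacter C) :
    ∑ c : C, (χ : G → ℂ) (ι c) * conj ((γ : C → ℂ) c) = (Nat.card C : ℂ) * mult ι χ γ := by
  rw [← classInner_eq_mult, Cfsg.classInner,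
    mul_inv_cancel_left₀ (Nat.cast_ne_zero.mpr Nat.card_pos.ne')]

theorem mult_of_bijective [Finite G] (hι : Function.Bijective ι) (χ : Cfsg.IrrCharacter G) :
    ∃ β : Cfsg.IrrCharacter C, (β : C → ℂ) = (fun c => (χ : G → ℂ) (ι c)) ∧
      mult ι χ β = 1 ∧ ∀ γ, γ ≠ β → mult ι χ γ = 0 := by
  refine ⟨⟨_, Char.IsIrr.comp_surjective ι hι.2 χ.2⟩, rfl, ?_, fun γ hγ => ?_⟩
  · have h := classInner_eq_mult ι χ ⟨_, Char.IsIrr.comp_surjective ι hι.2 χ.2⟩
    have h' := Char.classInner_irr_self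
      (⟨_, Char.IsIrr.comp_surjective ι hι.2 χ.2⟩ : Cfsg.IrrCharacter C)
    exact Nat.cast_injective (R := ℂ) ((h.symm.trans h').trans Nat.cast_one.symm)
  · have h := classInner_eq_mult ι χ γ
    have h' := Char.classInner_irr_of_ne
      (χ := (⟨_, Char.IsIrr.comp_surjective ι hι.2 χ.2⟩ : Cfsg.IrrCharacter C)) hγ.symm
    exact Nat.cast_injective (R := ℂ) ((h.symm.trans h').trans Nat.cast_zero.symm)

end Restrict

section Main

variable {A G C : Type*} [Group A] [Group G] [Group C] [MulDistribMulAction A G]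

/-- A function on `G` fixed by the action of `A`. -/
def IsInv (A : Type*) {G : Type*} [Group A] [Group G] [MulDistribMulAction A G] (f : G → ℂ) :
    Prop :=
  ∀ (a : A) (g : G), f (a • g) = f g

/-- The action on irreducible characters. -/
@[instance_reducible]
noncomputable def charAction : MulAction A (Cfsg.IrrCharacter G) where
  smul a χ := ⟨fun g => (χ : G → ℂ) (a⁻¹ • g),
    Char.IsIrr.comp_surjective (MulDistribMulAction.toMonoidHom G a⁻¹)
      (MulAction.bijective a⁻¹).2 χ.2⟩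
  one_smul χ := Char.irr_ext fun g => by
    show (χ : G → ℂ) ((1 : A)⁻¹ • g) = _
    rw [inv_one, one_smul]
  mul_smul a b χ := Char.irr_ext fun g => by
    show (χ : G → ℂ) ((a * b)⁻¹ • g) = (χ : G → ℂ) (b⁻¹ • a⁻¹ • g)
    rw [mul_inv_rev, mul_smul]

variable [Finite A] [Fintype G] [Fintype C] {p : ℕ} [Fact p.Prime] (hA : IsPGroup p A)
  (ι : C →* G) (hι : Function.Injective ι) (hC : ∀ g : G, g ∈ ι.range ↔ ∀ a : A, a • g = g)

include hA hι hC

theorem congMod_sum (f : G → ℂ) (hint : ∀ g, IsIntegral ℤ (f g)) (hinv : IsInv A f) :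
    CongMod p (∑ g, f g) (∑ c, f (ι c)) := by
  classical
  refine (congMod_sum_fixed hA f hint hinv).trans (CongMod.of_eq ?_)
  rw [show ∑ c, f (ι c) = ∑ x ∈ Finset.univ.map ⟨ι, hι⟩, f x from by rw [Finset.sum_map]; rfl]
  refine Finset.sum_congr ?_ fun _ _ => rfl
  ext g
  simp only [Finset.mem_filter, Finset.mem_univ, true_and, Finset.mem_map,
    Function.Embedding.coeFn_mk]
  exact (hC g).symm.trans MonoidHom.mem_range

theorem card_modEq : (p : ℤ) ∣ (Nat.card G : ℤ) - Nat.card C := by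
  have h := congMod_sum hA ι hι hC (fun _ => (1 : ℂ)) (fun _ => isIntegral_one) fun _ _ => rfl
  simp only [Finset.sum_const, Finset.card_univ, nsmul_eq_mul, mul_one] at h
  exact CongMod.dvd_sub_of_intCast (Fact.out : p.Prime).ne_zero
    (by simpa [Nat.card_eq_fintype_card] using h)

variable (hp : ¬ p ∣ Nat.card G)

omit hA hC in
include hp in
theorem not_dvd_card_fixed : ¬ p ∣ Nat.card C := fun h =>
  hp (h.trans (by
    rw [show Nat.card C = Nat.card ι.range from
      Nat.card_congr (MonoidHom.ofInjective hι).toEquiv]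
    exact Subgroup.card_subgroup_dvd_card _))

variable {χ χ' : Cfsg.IrrCharacter G} (hχ : IsInv A (χ : G → ℂ)) (hχ' : IsInv A (χ' : G → ℂ))

include hp hχ

theorem dvd_mult_mul_mult {γ δ : Cfsg.IrrCharacter C} (hne : γ ≠ δ) :
    p ∣ mult ι χ γ * mult ι χ δ := by
  classical
  haveI := Fintype.ofFinite (Cfsg.IrrCharacter C)
  have hint : ∀ g, IsIntegral ℤ ((χ : G → ℂ) g) :=
    fun g => Char.IsChar.isIntegral (Char.IsIrr.isCharacter χ.2) g
  have hintC : ∀ (η : Cfsg.IrrCharacter C) c, IsIntegral ℤ (conj ((η : C → ℂ) c)) := fun η c => by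
    rw [← Char.IsIrr.map_inv η.2]
    exact Char.IsChar.isIntegral (Char.IsIrr.isCharacter η.2) _
  have key : ∀ x y : C, CongMod p
      ((Nat.card G : ℂ) * ((χ : G → ℂ) (ι x) * (χ : G → ℂ) (ι y)))
      ((χ : G → ℂ) 1 * ∑ η : Cfsg.IrrCharacter C, (mult ι χ η : ℂ) *
        ((Nat.card C : ℂ) * ((η : C → ℂ) x * (η : C → ℂ) y) / (η : C → ℂ) 1)) := by
    intro x y
    rw [apply_mul_apply χ.2]
    refine CongMod.mul_left (hint 1) ((congMod_sum hA ι hι hC
      (fun g => (χ : G → ℂ) (ι x * (g * ι y * g⁻¹))) (fun g => hint _) ?_).trans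
        (CongMod.of_eq ?_))
    · intro a g
      have hx := (hC (ι x)).mp ⟨x, rfl⟩ a
      have hy := (hC (ι y)).mp ⟨y, rfl⟩ a
      show (χ : G → ℂ) (ι x * (a • g * ι y * (a • g)⁻¹)) = _
      rw [← smul_inv']
      conv_lhs => rw [← hx, ← hy, ← smul_mul', ← smul_mul', ← smul_mul']
      exact hχ a _
    · calc ∑ c : C, (χ : G → ℂ) (ι x * (ι c * ι y * (ι c)⁻¹))
          = ∑ c : C, ∑ η : Cfsg.IrrCharacter C,
              (mult ι χ η : ℂ) * (η : C → ℂ) (x * (c * y * c⁻¹)) := by
            refine Finset.sum_congr rfl fun c _ => ?_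
            rw [← map_inv, ← map_mul, ← map_mul, ← map_mul, apply_eq_sum_mult]
        _ = ∑ η : Cfsg.IrrCharacter C,
              (mult ι χ η : ℂ) * ∑ c : C, (η : C → ℂ) (x * (c * y * c⁻¹)) := by
            rw [Finset.sum_comm]
            simp only [Finset.mul_sum]
        _ = _ := Finset.sum_congr rfl fun η _ => by
            rw [apply_mul_apply η.2, mul_div_cancel_left₀ _ (Char.IsIrr.apply_one_ne_zero η.2)]
  have h := CongMod.sum Finset.univ fun (x : C) _ => CongMod.sum Finset.univ fun (y : C) _ =>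
    (key x y).mul_right ((hintC γ x).mul (hintC δ y))
  have hL : ∑ x : C, ∑ y : C, ((Nat.card G : ℂ) * ((χ : G → ℂ) (ι x) * (χ : G → ℂ) (ι y))) *
      (conj ((γ : C → ℂ) x) * conj ((δ : C → ℂ) y)) =
      ((Nat.card G * (Nat.card C * Nat.card C) * (mult ι χ γ * mult ι χ δ) : ℕ) : ℂ) := by
    calc _ = (Nat.card G : ℂ) * ((∑ x : C, (χ : G → ℂ) (ι x) * conj ((γ : C → ℂ) x)) *
          ∑ y : C, (χ : G → ℂ) (ι y) * conj ((δ : C → ℂ) y)) := by
            rw [Finset.sum_mul_sum, Finset.mul_sum]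
            refine Finset.sum_congr rfl fun x _ => ?_
            rw [Finset.mul_sum]
            exact Finset.sum_congr rfl fun y _ => by ring
      _ = _ := by rw [sum_apply_mul_conj, sum_apply_mul_conj]; push_cast; ring
  have hR : ∑ x : C, ∑ y : C, ((χ : G → ℂ) 1 * ∑ η : Cfsg.IrrCharacter C, (mult ι χ η : ℂ) *
      ((Nat.card C : ℂ) * ((η : C → ℂ) x * (η : C → ℂ) y) / (η : C → ℂ) 1)) *
      (conj ((γ : C → ℂ) x) * conj ((δ : C → ℂ) y)) = 0 := by
    calc _ = ∑ η : Cfsg.IrrCharacter C,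
          (χ : G → ℂ) 1 * (mult ι χ η : ℂ) * (Nat.card C : ℂ) / (η : C → ℂ) 1 *
          ((∑ x : C, (η : C → ℂ) x * conj ((γ : C → ℂ) x)) *
            ∑ y : C, (η : C → ℂ) y * conj ((δ : C → ℂ) y)) := by
            simp only [Finset.mul_sum, Finset.sum_mul]
            rw [Finset.sum_comm_cycle]
            refine Finset.sum_congr rfl fun η _ => ?_
            rw [Finset.sum_comm]
            exact Finset.sum_congr rfl fun y _ => Finset.sum_congr rfl fun x _ => by ring
      _ = 0 := Finset.sum_eq_zero fun η _ => by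
            rw [sum_irr_mul_conj, sum_irr_mul_conj]
            by_cases h1 : η = γ
            · subst h1; simp [hne]
            · simp [h1]
  rw [hL, hR] at h
  have hdiv := CongMod.dvd_of_natCast (Fact.out : p.Prime).ne_zero h
  have hC' := not_dvd_card_fixed ι hι hp
  rcases (Fact.out : p.Prime).dvd_mul.mp hdiv with h1 | h1
  · rcases (Fact.out : p.Prime).dvd_mul.mp h1 with h2 | h2
    · exact absurd h2 hp
    · exact absurd ((Fact.out : p.Prime).dvd_mul.mp h2) (by tauto)
  · exact h1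

omit hp in
include hχ' in
theorem inner_congMod [Fintype (Cfsg.IrrCharacter C)] [DecidableEq (Cfsg.IrrCharacter G)] :
    (p : ℤ) ∣ (if χ = χ' then (Nat.card G : ℤ) else 0) -
      (Nat.card C : ℤ) * ∑ γ, (mult ι χ γ : ℤ) * (mult ι χ' γ : ℤ) := by
  have hint : ∀ (η : Cfsg.IrrCharacter G) g, IsIntegral ℤ ((η : G → ℂ) g) :=
    fun η g => Char.IsChar.isIntegral (Char.IsIrr.isCharacter η.2) g
  have h := congMod_sum hA ι hι hC (fun g => (χ : G → ℂ) g * conj ((χ' : G → ℂ) g))
    (fun g => (hint χ g).mul (by rw [← Char.IsIrr.map_inv χ'.2]; exact hint χ' _))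
    (fun a g => by show _ * conj _ = _ * conj _; rw [hχ a g, hχ' a g])
  rw [sum_irr_mul_conj] at h
  have h2 : ∑ c : C, (χ : G → ℂ) (ι c) * conj ((χ' : G → ℂ) (ι c)) =
      (Nat.card C : ℂ) * ∑ γ, (mult ι χ γ : ℂ) * (mult ι χ' γ : ℂ) := by
    calc _ = ∑ γ, (mult ι χ' γ : ℂ) * ∑ c : C, (χ : G → ℂ) (ι c) * conj ((γ : C → ℂ) c) := by
          simp only [apply_eq_sum_mult ι χ', map_sum, map_mul, map_natCast, Finset.mul_sum]
          rw [Finset.sum_comm]
          exact Finset.sum_congr rfl fun γ _ => Finset.sum_congr rfl fun c _ => by ring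
      _ = _ := by
          rw [Finset.mul_sum]
          exact Finset.sum_congr rfl fun γ _ => by rw [sum_apply_mul_conj]; ring
  rw [h2] at h
  refine CongMod.dvd_sub_of_intCast (Fact.out : p.Prime).ne_zero ?_
  convert h using 1
  · split_ifs <;> simp
  · push_cast; rfl

/-- **Glauberman correspondence, p-group case**: existence, uniqueness, `±1`. -/
theorem exists_correspondent :
    ∃ β : Cfsg.IrrCharacter C, (∀ γ, γ ≠ β → p ∣ mult ι χ γ) ∧
      ((mult ι χ β : ℤ) ≡ 1 [ZMOD p] ∨ (mult ι χ β : ℤ) ≡ -1 [ZMOD p]) := by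
  classical
  haveI := Fintype.ofFinite (Cfsg.IrrCharacter C)
  have hpp : Prime (p : ℤ) := Nat.prime_iff_prime_int.mp Fact.out
  have hC' : ¬ (p : ℤ) ∣ (Nat.card C : ℤ) := by
    rw [Int.natCast_dvd_natCast]; exact not_dvd_card_fixed ι hι hp
  have hsq : (p : ℤ) ∣ (∑ γ, (mult ι χ γ : ℤ) * (mult ι χ γ : ℤ)) - 1 := by
    have h1 := inner_congMod hA ι hι hC hχ hχ
    rw [if_pos rfl] at h1
    have h2 := dvd_sub (card_modEq hA ι hι hC) h1
    refine (hpp.dvd_or_dvd (a := (Nat.card C : ℤ)) ?_).resolve_left hC'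
    convert h2 using 1
    ring
  obtain ⟨β, hβ⟩ : ∃ β, ¬ p ∣ mult ι χ β := by
    by_contra hall
    push_neg at hall
    have h0 : (p : ℤ) ∣ ∑ γ, (mult ι χ γ : ℤ) * (mult ι χ γ : ℤ) :=
      Finset.dvd_sum fun γ _ => Dvd.dvd.mul_right (Int.natCast_dvd_natCast.mpr (hall γ)) _
    exact hpp.not_dvd_one (by simpa using dvd_sub h0 hsq)
  have huniq : ∀ γ, γ ≠ β → p ∣ mult ι χ γ := fun γ hγ =>
    ((Fact.out : p.Prime).dvd_mul.mp (dvd_mult_mul_mult hA ι hι hC hp hχ hγ)).resolve_right hβ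
  refine ⟨β, huniq, ?_⟩
  rw [← Finset.add_sum_erase _ _ (Finset.mem_univ β)] at hsq
  have hrest : (p : ℤ) ∣ ∑ γ ∈ Finset.univ.erase β, (mult ι χ γ : ℤ) * (mult ι χ γ : ℤ) :=
    Finset.dvd_sum fun γ hγ =>
      Dvd.dvd.mul_right (Int.natCast_dvd_natCast.mpr (huniq γ (Finset.ne_of_mem_erase hγ))) _
  have h3 : (p : ℤ) ∣ ((mult ι χ β : ℤ) - 1) * ((mult ι χ β : ℤ) + 1) := by
    have h5 := dvd_sub hsq hrest
    ring_nf at h5 ⊢
    exact h5
  rcases hpp.dvd_or_dvd h3 with h4 | h4
  · exact Or.inl (Int.ModEq.symm (Int.modEq_of_dvd h4))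
  · refine Or.inr (Int.ModEq.symm (Int.modEq_of_dvd ?_))
    simpa using h4

theorem correspondent_unique {β β' : Cfsg.IrrCharacter C} (h : ¬ p ∣ mult ι χ β)
    (h' : ¬ p ∣ mult ι χ β') : β = β' := by
  by_contra hne
  rcases (Fact.out : p.Prime).dvd_mul.mp (dvd_mult_mul_mult hA ι hι hC hp hχ hne) with h1 | h1
  exacts [h h1, h' h1]

include hχ' in
theorem correspondent_injective {β : Cfsg.IrrCharacter C} (h : ¬ p ∣ mult ι χ β)
    (h' : ¬ p ∣ mult ι χ' β) : χ = χ' := by
  classical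
  haveI := Fintype.ofFinite (Cfsg.IrrCharacter C)
  by_contra hne
  have hpp : Prime (p : ℤ) := Nat.prime_iff_prime_int.mp Fact.out
  have hC' : ¬ (p : ℤ) ∣ (Nat.card C : ℤ) := by
    rw [Int.natCast_dvd_natCast]; exact not_dvd_card_fixed ι hι hp
  have h1 := inner_congMod hA ι hι hC hχ hχ'
  rw [if_neg hne, zero_sub, dvd_neg] at h1
  have h2 := (hpp.dvd_or_dvd h1).resolve_left hC'
  rw [← Finset.add_sum_erase _ _ (Finset.mem_univ β)] at h2
  have hrest : (p : ℤ) ∣ ∑ γ ∈ Finset.univ.erase β, (mult ι χ γ : ℤ) * (mult ι χ' γ : ℤ) :=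
    Finset.dvd_sum fun γ hγ => by
      refine Dvd.dvd.mul_right (Int.natCast_dvd_natCast.mpr ?_) _
      by_contra hh
      exact Finset.ne_of_mem_erase hγ (correspondent_unique hA ι hι hC hp hχ hh h)
  rcases hpp.dvd_or_dvd ((dvd_add_left hrest).mp h2) with h3 | h3
  exacts [h (Int.natCast_dvd_natCast.mp h3), h' (Int.natCast_dvd_natCast.mp h3)]

omit hχ in
/-- Surjectivity of the correspondence. -/
theorem correspondent_surjective (β : Cfsg.IrrCharacter C) :
    ∃ η : Cfsg.IrrCharacter G, IsInv A (η : G → ℂ) ∧ ¬ p ∣ mult ι η β := by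
  classical
  haveI := Fintype.ofFinite (Cfsg.IrrCharacter G)
  letI : MulAction A (Cfsg.IrrCharacter G) := charAction
  by_contra hall
  push_neg at hall
  have hint : ∀ η : Cfsg.IrrCharacter G,
      IsIntegral ℤ ((η : G → ℂ) 1 * ((Nat.card C : ℂ) * mult ι η β)) := by
    intro η
    obtain ⟨d, hd, -, -⟩ := degree_dvd_card η
    rw [hd]
    simpa using (isIntegral_algebraMap (R := ℤ) (A := ℂ)
      (x := ((d : ℤ) * ((Nat.card C : ℤ) * (mult ι η β : ℤ)))))
  have h := congMod_sum_fixed hA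
    (fun η : Cfsg.IrrCharacter G => (η : G → ℂ) 1 * ((Nat.card C : ℂ) * mult ι η β)) hint
    (fun a η => by
      show (η : G → ℂ) (a⁻¹ • (1 : G)) * ((Nat.card C : ℂ) * mult ι (a • η) β) = _
      rw [smul_one, ← sum_apply_mul_conj, ← sum_apply_mul_conj]
      congr 1
      refine Finset.sum_congr rfl fun c _ => ?_
      show (η : G → ℂ) (a⁻¹ • ι c) * _ = _
      rw [(hC (ι c)).mp ⟨c, rfl⟩])
  have hzero : CongMod p (∑ η ∈ Finset.univ.filter
      (fun η : Cfsg.IrrCharacter G => ∀ a : A, a • η = η),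
      (η : G → ℂ) 1 * ((Nat.card C : ℂ) * mult ι η β)) 0 := by
    rw [← Finset.sum_const_zero (s := Finset.univ.filter
      (fun η : Cfsg.IrrCharacter G => ∀ a : A, a • η = η))]
    refine CongMod.sum _ fun η hη => ?_
    simp only [Finset.mem_filter, Finset.mem_univ, true_and] at hη
    obtain ⟨k, hk⟩ := hall η fun a g => by
      have := congrArg (fun φ : Cfsg.IrrCharacter G => (φ : G → ℂ) g) (hη a⁻¹)
      change (η : G → ℂ) (a⁻¹⁻¹ • g) = _ at this
      rwa [inv_inv] at this
    have := CongMod.prime_mul (p := p)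
      (((Char.IsChar.isIntegral (Char.IsIrr.isCharacter η.2) 1).mul
        (isIntegral_algebraMap (R := ℤ) (A := ℂ) (x := (Nat.card C : ℤ)))).mul
        (isIntegral_algebraMap (R := ℤ) (A := ℂ) (x := (k : ℤ))))
    convert this using 1
    rw [hk]
    push_cast
    ring
  have hLHS : ∑ η : Cfsg.IrrCharacter G, (η : G → ℂ) 1 * ((Nat.card C : ℂ) * mult ι η β) =
      (Nat.card G : ℂ) * (β : C → ℂ) 1 := by
    calc _ = ∑ c : C, conj ((β : C → ℂ) c) *
          ∑ η : Cfsg.IrrCharacter G, (η : G → ℂ) 1 * (η : G → ℂ) (ι c) := by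
          simp only [← sum_apply_mul_conj, Finset.mul_sum]
          rw [Finset.sum_comm]
          exact Finset.sum_congr rfl fun c _ => Finset.sum_congr rfl fun η _ => by ring
      _ = conj ((β : C → ℂ) 1) *
          ∑ η : Cfsg.IrrCharacter G, (η : G → ℂ) 1 * (η : G → ℂ) (ι 1) := by
          refine Finset.sum_eq_single 1 (fun c _ hc => ?_) (by simp)
          rw [Char.sum_degree_mul_apply_of_ne_one, mul_zero]
          exact fun h => hc (hι (by rw [h, map_one]))
      _ = _ := by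
          rw [map_one, ← Char.IsIrr.map_inv β.2, inv_one, mul_comm]
          simp only [← sq]
          rw [Char.sum_sq_degree]
  obtain ⟨d, hd, -, hdd⟩ := degree_dvd_card β
  have hfinal : CongMod p ((Nat.card G * d : ℕ) : ℂ) 0 := by
    push_cast
    rw [← hd, ← hLHS]
    exact h.trans hzero
  rcases (Fact.out : p.Prime).dvd_mul.mp (CongMod.dvd_of_natCast (Fact.out : p.Prime).ne_zero hfinal)
    with h1 | h1
  exacts [hp h1, not_dvd_card_fixed ι hι hp (h1.trans hdd)]

end Main

end CfsgLib.CharAction
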