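import Cfsg.Agent.Lib.Char.DefectZero
import Cfsg.Agent.Lib.Char.Brauer
import Cfsg.Agent.Lib.Blocks.Union
import Cfsg.Prelude.Def_BlockRank

/-!
# Multiples of the regular part of an irreducible character

If `p ^ a` is the `p`-part of the group order and `p ^ b` that of `χ 1`, then `p ^ c` times the
`p`-regular part of `χ` is a generalized character exactly for `c ≥ a - b`.
-/

namespace CfsgLib.CharAction

open CfsgLib.Char
open scoped ComplexConjugate
open Module

variable {G : Type*} [Group G]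

theorem pRegularPart_eq_regCut (p : ℕ) (χ : G → ℂ) : Cfsg.pRegularPart p χ = regCut p χ := by
  funext g
  by_cases h : p ∣ orderOf g <;> simp [Cfsg.pRegularPart, regCut, Cfsg.IsPRegular, h]

theorem regCut_conj (p : ℕ) {χ : G → ℂ} (hχ : Cfsg.IsClassFunction G χ) :
    Cfsg.IsClassFunction G (regCut p χ) := by
  intro g y
  simp only [regCut, hχ g y]
  rw [show orderOf (y * g * y⁻¹) = orderOf g from
    orderOf_injective (MulAut.conj y).toMonoidHom (MulAut.conj y).injective g]

theorem isCharacter_pow_regCut_restrict [Finite G] {V : Type*} [AddCommGroup V] [Module ℂ V]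
    [FiniteDimensional ℂ V] (ρ : Representation ℂ G V) [ρ.IsIrreducible] {p a b : ℕ}
    (hp : p.Prime) (ha : p ^ a ∣ Nat.card G) (ha' : ¬ p ^ (a + 1) ∣ Nat.card G) (hba : b ≤ a)
    (hdeg : p ^ b ∣ finrank ℂ V) (E : Subgroup G) (hE : Group.IsNilpotent E) :
    Cfsg.IsCharacter E (fun e : E => (p ^ (a - b) : ℕ) * regCut p ρ.character e) := by
  classical
  have : Fact p.Prime := ⟨hp⟩
  have := Fintype.ofFinite G
  have := Fintype.ofFinite (Cfsg.IrrCharacter E)
  obtain ⟨M, hM⟩ := ha
  have hMp : ¬ p ∣ M := fun ⟨j, hj⟩ => ha' ⟨j, by rw [hM, hj, pow_succ, mul_assoc]⟩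
  obtain ⟨d', hd'⟩ := hdeg
  set c₀ := p ^ (a - b) with hc₀
  have hd0 : (finrank ℂ V : ℂ) ≠ 0 := Nat.cast_ne_zero.mpr (finrank_pos_of_irreducible ρ).ne'
  let P : Sylow p E := default
  have : (P : Subgroup E).Normal := Sylow.normal_of_normalizerCondition
    (Group.normalizerCondition_of_isNilpotent (G := E)) P
  obtain ⟨Q, hQ⟩ := Subgroup.exists_right_complement'_of_coprime
    (N := (P : Subgroup E)) P.card_coprime_index
  have hcardQ : Nat.card Q = (P : Subgroup E).index := by
    have h1 := hQ.card_mul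
    rw [← (P : Subgroup E).card_mul_index] at h1
    exact Nat.eq_of_mul_eq_mul_left Nat.card_pos h1
  have hpQ : ¬ p ∣ Nat.card Q := hcardQ ▸ P.not_dvd_index
  obtain ⟨k₀, hk₀⟩ := IsPGroup.iff_card.mp P.isPGroup'
  have hcomm : ∀ x ∈ (P : Subgroup E), ∀ y : E, ¬ p ∣ orderOf y → Commute x y := by
    intro x hx y hy
    refine CfsgLib.OddLocal.commute_of_coprime_orderOf hE ?_
    have h1 : orderOf x ∣ p ^ k₀ := hk₀ ▸ Subgroup.orderOf_dvd_natCard _ hx
    exact Nat.Coprime.coprime_dvd_left h1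
      (Nat.Coprime.pow_left _ ((Nat.Prime.coprime_iff_not_dvd hp).mpr hy))
  have hQreg : ∀ y ∈ Q, ¬ p ∣ orderOf y := fun y hy hd =>
    hpQ (hd.trans (Subgroup.orderOf_dvd_natCard _ hy))
  have hregQ : ∀ y : E, ¬ p ∣ orderOf y → y ∈ Q := by
    intro y hy
    obtain ⟨⟨u, v⟩, huv⟩ := hQ.2 y
    simp only at huv
    have hc : Commute (u : E) (v : E) := hcomm u u.2 v (hQreg v v.2)
    have h1 : (u : E) ^ orderOf y * (v : E) ^ orderOf y = 1 := by
      rw [← hc.mul_pow, huv, pow_orderOf_eq_one]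
    have h2 : (u : E) ^ orderOf y = 1 := by
      have hmem : (u : E) ^ orderOf y ∈ (P : Subgroup E) ⊓ Q := by
        refine ⟨pow_mem u.2 _, ?_⟩
        show (u : E) ^ orderOf y ∈ Q
        rw [eq_inv_of_mul_eq_one_left h1]
        exact inv_mem (pow_mem v.2 _)
      rwa [disjoint_iff.mp hQ.disjoint, Subgroup.mem_bot] at hmem
    have h3 : orderOf (u : E) ∣ p ^ k₀ := hk₀ ▸ Subgroup.orderOf_dvd_natCard _ u.2
    have h4 : orderOf (u : E) = 1 := Nat.eq_one_of_dvd_coprimes
      (Nat.Coprime.pow_left k₀ ((Nat.Prime.coprime_iff_not_dvd hp).mpr hy)) h3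
      (orderOf_dvd_of_pow_eq_one h2)
    rw [orderOf_eq_one_iff] at h4
    rw [← huv, h4, one_mul]
    exact v.2
  have hcardE : Nat.card E = Nat.card (P : Subgroup E) * Nat.card Q := hQ.card_mul.symm
  have hval : ∀ y : Q, IsIntegral ℤ
      ((c₀ * M : ℕ) * ρ.character ((y : E) : G) / (Nat.card (P : Subgroup E) : ℂ)) := by
    intro y
    set z : G := ((y : E) : G)
    obtain ⟨c, hc⟩ : Nat.card (P : Subgroup E) ∣
        Nat.card (Subgroup.centralizer ({z} : Set G)) := by
      have hle : (P : Subgroup E).map E.subtype ≤ Subgroup.centralizer ({z} : Set G) := by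
        rintro _ ⟨x, hx, rfl⟩
        rw [Subgroup.mem_centralizer_singleton_iff]
        exact congrArg Subtype.val (hcomm x hx y (hQreg y y.2)).eq
      have h1 := Subgroup.card_dvd_of_le hle
      rwa [Subgroup.card_map_of_injective E.subtype_injective] at h1
    have hint := (CfsgLib.CharIntegral.isIntegral_central ρ z).mul
      ((isIntegral_natCast (R := ℤ) (d' * c)) : IsIntegral ℤ ((d' * c : ℕ) : ℂ))
    have hKc : ((Subgroup.centralizer ({z} : Set G)).index : ℂ) *
        ((Nat.card (P : Subgroup E) : ℂ) * c) = (p : ℂ) ^ a * M := by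
      have h1 := (Subgroup.centralizer ({z} : Set G)).index_mul_card
      rw [hc, hM] at h1
      exact_mod_cast h1
    have hP0 : (Nat.card (P : Subgroup E) : ℂ) ≠ 0 := Nat.cast_ne_zero.mpr Nat.card_pos.ne'
    have hd'' : (finrank ℂ V : ℂ) = (p : ℂ) ^ b * d' := by exact_mod_cast hd'
    have hpow : (p : ℂ) ^ (a - b) * (p : ℂ) ^ b = (p : ℂ) ^ a := by
      rw [← pow_add, Nat.sub_add_cancel hba]
    have heq : ((c₀ * M : ℕ) : ℂ) * ρ.character z / (Nat.card (P : Subgroup E) : ℂ) =
        ((Subgroup.centralizer ({z} : Set G)).index : ℂ) * ρ.character z / (finrank ℂ V : ℂ) *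
          ((d' * c : ℕ) : ℂ) := by
      rw [hd''] at hd0 ⊢
      rw [hc₀]
      push_cast
      rw [div_mul_eq_mul_div, div_eq_div_iff hP0 hd0]
      linear_combination (-(d' : ℂ) * ρ.character z) * hKc +
        ((M : ℂ) * ρ.character z * d') * hpow
    exact heq ▸ hint
  have hcoef : ∀ μ : Cfsg.IrrCharacter E, ∃ m : ℕ,
      Cfsg.classInner (fun e : E => (c₀ : ℂ) * regCut p ρ.character e) (μ : E → ℂ) = m := by
    intro μ
    have hres : Cfsg.IsCharacter Q (fun y : Q => ρ.character ((y : E) : G)) :=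
      IsChar.restrict Q (IsChar.restrict E (isCharacter_rep ρ))
    obtain ⟨m, hm⟩ := IsChar.classInner_eq_natCast hres
      (IsChar.restrict Q (IsIrr.isCharacter μ.2))
    have hQ0 : (Nat.card Q : ℂ) ≠ 0 := Nat.cast_ne_zero.mpr Nat.card_pos.ne'
    have hP0 : (Nat.card (P : Subgroup E) : ℂ) ≠ 0 := Nat.cast_ne_zero.mpr Nat.card_pos.ne'
    have hsum : ∑ y : Q, ρ.character ((y : E) : G) * conj ((μ : E → ℂ) (y : E)) =
        (Nat.card Q : ℂ) * m := by
      rw [← hm, Cfsg.classInner, mul_inv_cancel_left₀ hQ0]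
    have hinner : Cfsg.classInner (fun e : E => (c₀ : ℂ) * regCut p ρ.character e) (μ : E → ℂ) =
        (c₀ * m : ℕ) / (Nat.card (P : Subgroup E) : ℂ) := by
      have h1 : ∀ e : E, regCut p ρ.character (e : G) =
          Cfsg.extendByZero Q (fun y : Q => ρ.character ((y : E) : G)) e := by
        intro e
        simp only [regCut, Subgroup.orderOf_coe]
        by_cases he : p ∣ orderOf e
        · rw [if_pos he, extendByZero_of_notMem _ _ fun hq => hQreg e hq he]
        · rw [if_neg he, extendByZero_of_mem _ _ (hregQ e he)]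
      simp only [Cfsg.classInner, h1, mul_assoc (c₀ : ℂ), ← Finset.mul_sum]
      rw [sum_extendByZero_mul Q (fun y : Q => ρ.character ((y : E) : G))
        (fun e => conj ((μ : E → ℂ) e)), hsum, hcardE, Nat.cast_mul, Nat.cast_mul]
      field_simp
    have hdvd : Nat.card (P : Subgroup E) ∣ M * Nat.card Q * (c₀ * m) := by
      refine CfsgLib.CharIntegral.dvd_of_isIntegral_div Nat.card_pos.ne' ?_
      have h1 : ((M * Nat.card Q * (c₀ * m) : ℕ) : ℂ) / (Nat.card (P : Subgroup E) : ℂ) =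
          ∑ y : Q, (((c₀ * M : ℕ) : ℂ) * ρ.character ((y : E) : G) /
            (Nat.card (P : Subgroup E) : ℂ)) * conj ((μ : E → ℂ) (y : E)) := by
        rw [show ((M * Nat.card Q * (c₀ * m) : ℕ) : ℂ) = ((c₀ * M : ℕ) : ℂ) * ((Nat.card Q : ℂ) * m)
          by push_cast; ring, ← hsum, Finset.mul_sum, Finset.sum_div]
        exact Finset.sum_congr rfl fun y _ => by ring
      rw [h1]
      refine IsIntegral.sum _ fun y _ => (hval y).mul ?_
      rw [← IsIrr.map_inv μ.2]
      exact IsChar.isIntegral (IsIrr.isCharacter μ.2) _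
    have hcop : Nat.Coprime (Nat.card (P : Subgroup E)) (M * Nat.card Q) := by
      rw [hk₀]
      exact Nat.Coprime.pow_left _ (Nat.Coprime.mul_right
        ((Nat.Prime.coprime_iff_not_dvd hp).mpr hMp)
        ((Nat.Prime.coprime_iff_not_dvd hp).mpr hpQ))
    obtain ⟨k, hk⟩ := hcop.dvd_of_dvd_mul_left hdvd
    refine ⟨k, ?_⟩
    rw [hinner, hk, Nat.cast_mul]
    field_simp
  choose m hm using hcoef
  have hcf : Cfsg.IsClassFunction E (fun e : E => (c₀ : ℂ) * regCut p ρ.character e) := by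
    intro g x
    show (c₀ : ℂ) * regCut p ρ.character ((x * g * x⁻¹ : E) : G) =
      (c₀ : ℂ) * regCut p ρ.character (g : G)
    rw [Subgroup.coe_mul, Subgroup.coe_mul, Subgroup.coe_inv,
      regCut_conj p (isClassFunction_rep ρ) (g : G) (x : G)]
  rw [classFunction_eq_sum hcf]
  simp only [hm]
  exact isCharacter_natCast_sum m

/-- `p ^ c` times the regular part is a generalized character for `c + b ≥ a`. -/
theorem isGen_pow_regCut [Finite G] {p : ℕ} (hp : p.Prime) (χ : Cfsg.IrrCharacter G) {c : ℕ}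
    (hc : (Nat.card G).factorization p ≤ c + (Cfsg.charDegree (χ : G → ℂ)).factorization p) :
    Cfsg.IsGeneralizedCharacter G
      (fun g => ((p ^ c : ℕ) : ℂ) * regCut p (χ : G → ℂ) g) := by
  classical
  have := Fintype.ofFinite G
  have hdvd := CfsgLib.Blocks.charDegree_dvd_card χ
  have hpos := CfsgLib.Blocks.charDegree_pos χ
  have h1 := CfsgLib.Blocks.apply_one_eq_charDegree χ
  obtain ⟨n, ρ, hirr, hρ⟩ := χ.2
  rw [← hρ] at h1 hc hdvd hpos
  rw [← hρ]
  have hfr : Cfsg.charDegree ρ.character = finrank ℂ (Fin n → ℂ) := by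
    exact_mod_cast h1.symm.trans (Representation.char_one ρ)
  rw [hfr] at hc hdvd hpos
  set a := (Nat.card G).factorization p
  set b := (finrank ℂ (Fin n → ℂ)).factorization p
  have hba : b ≤ a :=
    (Nat.factorization_le_iff_dvd hpos.ne' Nat.card_pos.ne').2 hdvd p
  have hgen : Cfsg.IsGeneralizedCharacter G
      (fun g => ((p ^ (a - b) : ℕ) : ℂ) * regCut p ρ.character g) := by
    refine CfsgLib.Brauer.isGeneralizedCharacter_of_elementary (fun g x => ?_) fun E q hq hE => ?_
    · show _ * _ = _ * _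
      rw [regCut_conj p (isClassFunction_rep ρ) g x]
    · exact IsGen.of_isCharacter (isCharacter_pow_regCut_restrict ρ hp (Nat.ordProj_dvd _ p)
        (Nat.pow_succ_factorization_not_dvd Nat.card_pos.ne' hp) hba (Nat.ordProj_dvd _ p) E
        (CfsgLib.Char.isNilpotent_of_isElementary hq hE))
  have h := IsGen.intCast_smul ((p ^ (c - (a - b)) : ℕ) : ℤ) hgen
  have he : (p : ℂ) ^ c = (p : ℂ) ^ (c - (a - b)) * (p : ℂ) ^ (a - b) := by
    rw [← pow_add, Nat.sub_add_cancel (by omega)]
  refine (congrArg (Cfsg.IsGeneralizedCharacter G) (funext fun g => ?_)).mp h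
  simp only [Pi.smul_apply, smul_eq_mul]
  push_cast
  rw [he, mul_assoc]

/-- A generalized character vanishing on `p`-singular elements has degree divisible by the
`p`-part of the group order. -/
theorem pow_dvd_apply_one_of_vanish [Finite G] {p : ℕ} [Fact p.Prime] {θ : G → ℂ}
    (hθ : Cfsg.IsGeneralizedCharacter G θ) (hv : ∀ g, p ∣ orderOf g → θ g = 0) :
    ∃ m : ℤ, θ 1 = ((p ^ (Nat.card G).factorization p : ℕ) : ℂ) * m := by
  classical
  obtain ⟨P⟩ := (inferInstance : Nonempty (Sylow p G))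
  have := Fintype.ofFinite (P : Subgroup G)
  obtain ⟨m, hm⟩ := IsGen.exists_classInner_eq_intCast (IsGen.restrict (P : Subgroup G) hθ) IsGen.one
  refine ⟨m, ?_⟩
  have h0 : (Nat.card (P : Subgroup G) : ℂ) ≠ 0 := Nat.cast_ne_zero.2 Nat.card_pos.ne'
  rw [← Sylow.card_eq_multiplicity P, ← hm, Cfsg.classInner, mul_inv_cancel_left₀ h0,
    Finset.sum_eq_single (1 : (P : Subgroup G))]
  · simp
  · intro u _ hu
    obtain ⟨k, hk⟩ := IsPGroup.iff_orderOf.1 P.2 u
    rw [hv (u : G), zero_mul]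
    rw [Subgroup.orderOf_coe, hk]
    exact dvd_pow_self p fun e => hu (orderOf_eq_one_iff.1 (by rw [hk, e, pow_zero]))
  · exact fun h => absurd (Finset.mem_univ _) h

end CfsgLib.CharAction
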