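import Cfsg.Agent.Lib.CharAction.RegBlock
import Cfsg.Agent.Lib.Blocks.DefectNumber

/-!
# The exact power of `p` dividing the sum of the squared degrees in a block
-/

namespace CfsgLib.CharAction

open Cfsg CfsgLib.Char CfsgLib.Blocks
open scoped ComplexConjugate

variable {G : Type*} [Group G] [Fintype G] {p : ℕ} [Fact p.Prime] {M : Ideal AlgInt} [M.IsPrime]

theorem exists_degree_sq_sum_eq_unit (hM : IsPModular p M) {B : Set (IrrCharacter G)}
    (hB : IsPBlock M B) :
    ∃ U : localRing M, IsLocalRing.residue (localRing M) U ≠ 0 ∧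
      ((∑ᶠ χ ∈ B, charDegree (χ : G → ℂ) ^ 2 : ℕ) : ℂ) =
        (p : ℂ) ^ ((Nat.card G).factorization p + minDeg p B) * U := by
  classical
  have := Fintype.ofFinite (IrrCharacter G)
  set A := (Set.toFinite B).toFinset with hA
  obtain ⟨S, d, hSA, hexp, hvan⟩ := exists_projective_decomposition hM A fun x y hx hy => by
    rw [hA, ← finsum_mem_eq_finite_toFinset_sum]
    exact sum_block_regular_singular hM hB hx hy
  obtain ⟨g, hg⟩ := exists_isDefectClass (M := M) hB
  have hginv : ¬ p ∣ orderOf g⁻¹ := by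
    rw [orderOf_inv]
    exact IsDefectClass.not_dvd_orderOf hM hB hg
  have hcent : Subgroup.centralizer ({g⁻¹} : Set G) = Subgroup.centralizer ({g} : Set G) := by
    ext x
    rw [CfsgLib.Blocks.mem_centralizer_singleton, CfsgLib.Blocks.mem_centralizer_singleton,
      Commute.inv_right_iff]
  have hm₀ : minDeg p B = (Subgroup.centralizer ({g} : Set G)).index.factorization p :=
    sInf_degree_eq hM hB hg
  obtain ⟨r, hr, hrp⟩ := CfsgLib.Blocks.exists_factorization (p := p)
    (Nat.card_pos (α := G)).ne'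
  obtain ⟨k, hk, hkp⟩ := CfsgLib.Blocks.exists_factorization (p := p)
    (Subgroup.index_ne_zero_of_finite (H := Subgroup.centralizer ({g} : Set G)))
  rw [← hm₀] at hk
  set a := (Nat.card G).factorization p
  set m₀ := minDeg p B
  have hp0 : (p : ℂ) ≠ 0 := Nat.cast_ne_zero.2 hM.1.ne_zero
  have hSB : ∀ φ ∈ S, φ ∈ B := fun φ hφ => by simpa [hA] using hSA hφ
  have hq : ∀ φ ∈ S, (∑ χ ∈ A, (d χ φ : ℂ) * (χ : G → ℂ) 1) / (p ^ a : ℕ) ∈ localRing M :=
    fun φ hφ => sum_degree_div_mem hM A (fun χ => d χ φ) (hvan φ hφ)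
  have hx : ∀ φ ∈ S, ∃ x : ℕ, charDegree (φ : G → ℂ) = p ^ m₀ * x := fun φ hφ =>
    (pow_dvd_pow p (minDeg_le (hSB φ hφ))).trans (Nat.ordProj_dvd _ p)
  choose x hx using hx
  let U : localRing M := ∑ φ ∈ S.attach, (x φ.1 φ.2 : localRing M) * ⟨_, hq φ.1 φ.2⟩
  let W : localRing M := ∑ φ ∈ S.attach,
    centralCharO M φ.1 g⁻¹ * ((x φ.1 φ.2 : localRing M) * ⟨_, hq φ.1 φ.2⟩)
  have hU : ((∑ᶠ χ ∈ B, charDegree (χ : G → ℂ) ^ 2 : ℕ) : ℂ) = (p : ℂ) ^ (a + m₀) * U := by
    rw [finsum_mem_eq_finite_toFinset_sum _ (Set.toFinite B), ← hA, Nat.cast_sum,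
      Finset.sum_congr rfl fun χ (_ : χ ∈ A) => show ((charDegree (χ : G → ℂ) ^ 2 : ℕ) : ℂ) =
        (χ : G → ℂ) 1 * (χ : G → ℂ) 1 by rw [apply_one_eq_charDegree χ]; push_cast; ring,
      hexp _ _ (by simp [hM.1.ne_one]), ← Finset.sum_attach S]
    simp only [U, AddSubmonoidClass.coe_finsetSum, Finset.mul_sum, Subring.coe_mul]
    refine Finset.sum_congr rfl fun φ _ => ?_
    rw [apply_one_eq_charDegree φ.1, hx φ.1 φ.2, ← Finset.mul_sum, SubringClass.coe_natCast]
    push_cast
    rw [pow_add]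
    field_simp
  refine ⟨U, fun h0 => hg.2.1 ?_, hU⟩
  have hB0 : blockCoeff B g = (r : ℂ)⁻¹ * (k : ℂ)⁻¹ * (W : ℂ) := by
    rw [blockCoeff, finsum_mem_eq_finite_toFinset_sum _ (Set.toFinite B), ← hA,
      Finset.sum_congr rfl fun χ _ => by rw [← IsIrr.map_inv χ.2, mul_comm],
      hexp _ _ hginv, ← Finset.sum_attach S]
    simp only [W, AddSubmonoidClass.coe_finsetSum, Finset.mul_sum, Subring.coe_mul, centralCharO,
      SubringClass.coe_natCast]
    refine Finset.sum_congr rfl fun φ _ => ?_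
    rw [centralChar, hcent, hk, apply_one_eq_charDegree φ.1, hx φ.1 φ.2, hr]
    have : (r : ℂ) ≠ 0 := Nat.cast_ne_zero.2 fun h => hrp (h ▸ dvd_zero p)
    have : (k : ℂ) ≠ 0 := Nat.cast_ne_zero.2 fun h => hkp (h ▸ dvd_zero p)
    have hx0 : (x φ.1 φ.2 : ℂ) ≠ 0 := Nat.cast_ne_zero.2 fun h =>
      (charDegree_pos φ.1).ne' (by rw [hx φ.1 φ.2, h, mul_zero])
    push_cast
    simp only [mul_assoc, ← Finset.mul_sum]
    field_simp
  have hW : IsLocalRing.residue (localRing M) W = 0 := by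
    rcases S.eq_empty_or_nonempty with hS | ⟨φ₀, hφ₀⟩
    · subst hS
      simp [W]
    simp only [W, map_sum, map_mul]
    rw [Finset.sum_congr rfl fun (φ : {φ // φ ∈ S}) _ => congrArg (· * _)
      (show IsLocalRing.residue (localRing M) (centralCharO M φ.1 g⁻¹) =
          IsLocalRing.residue (localRing M) (centralCharO M φ₀ g⁻¹) from
        residue_eq_iff.2 (IsPBlock.sameBlock hB (hSB φ.1 φ.2) (hSB φ₀ hφ₀) g⁻¹)),
      ← Finset.mul_sum]
    simp only [← map_mul, ← map_sum]
    rw [map_mul]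
    exact mul_eq_zero_of_right _ h0
  have heq : blockCoeff B g =
      ((⟨_, inv_natCast_mem hM hrp⟩ * ⟨_, inv_natCast_mem hM hkp⟩ * W : localRing M) : ℂ) := hB0
  rw [heq, ← residue_eq_zero_iff, map_mul, hW, mul_zero]

theorem factorization_sum_degree_sq (hM : IsPModular p M) {B : Set (IrrCharacter G)}
    (hB : IsPBlock M B) :
    (∑ᶠ χ ∈ B, charDegree (χ : G → ℂ) ^ 2).factorization p =
      2 * (Nat.card G).factorization p - blockDefect p B := by
  obtain ⟨U, hU, h⟩ := exists_degree_sq_sum_eq_unit hM hB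
  set S := ∑ᶠ χ ∈ B, charDegree (χ : G → ℂ) ^ 2
  have hle := minDeg_le_card (p := p) (IsPBlock.nonempty hB)
  rw [blockDefect_eq_sub]
  set e := (Nat.card G).factorization p + minDeg p B with he
  suffices hs : S.factorization p = e by omega
  have hp0 : (p : ℂ) ≠ 0 := Nat.cast_ne_zero.2 hM.1.ne_zero
  have hS : S ≠ 0 := by
    intro h0
    rw [h0, Nat.cast_zero, eq_comm, mul_eq_zero] at h
    refine hU ?_
    rw [show U = 0 from Subtype.ext (h.resolve_left (pow_ne_zero _ hp0)), map_zero]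
  obtain ⟨s, hs, hsp⟩ := CfsgLib.Blocks.exists_factorization (p := p) hS
  set j := S.factorization p
  rw [hs] at h
  push_cast at h
  have hres : IsLocalRing.residue (localRing M) (s : localRing M) ≠ 0 := by
    have := charP_residueField hM
    rw [map_natCast, Ne, CharP.cast_eq_zero_iff _ p]
    exact hsp
  rcases lt_trichotomy j e with hlt | heq | hgt
  · exfalso
    refine hres ?_
    have : (s : localRing M) = (p : localRing M) ^ (e - j) * U := Subtype.ext (by
      refine mul_left_cancel₀ (pow_ne_zero j hp0) ?_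
      push_cast
      rw [h, ← mul_assoc, ← pow_add, Nat.add_sub_cancel' hlt.le])
    rw [this, map_mul, map_pow, residue_natCast_self hM, zero_pow (by omega), zero_mul]
  · exact heq
  · exfalso
    refine hU ?_
    have : U = (p : localRing M) ^ (j - e) * (s : localRing M) := Subtype.ext (by
      refine mul_left_cancel₀ (pow_ne_zero e hp0) ?_
      push_cast
      rw [← h, ← mul_assoc, ← pow_add, Nat.add_sub_cancel' hgt.le])
    rw [this, map_mul, map_pow, residue_natCast_self hM, zero_pow (by omega), zero_mul]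

end CfsgLib.CharAction
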