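import Cfsg.Agent.Lib.Blocks.DefectNumber
import Cfsg.Agent.Lib.Blocks.Kernel
import Cfsg.Agent.Lib.Char.Real
import Mathlib.LinearAlgebra.Matrix.Rank

/-!
# Blocks of a given defect and regular classes of that defect; real `2`-blocks of full defect
-/

namespace CfsgLib.CharAction

open Cfsg CfsgLib.Blocks

variable {G : Type*} [Group G] [Fintype G] {p : ℕ} [Fact p.Prime] {M : Ideal AlgInt} [M.IsPrime]
  (hM : IsPModular p M)
include hM

theorem blockCoeff_eq_zero_of_singular {B : Set (IrrCharacter G)} (hB : IsPBlock M B) {g : G}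
    (hg : p ∣ orderOf g) : blockCoeff B g = 0 := by
  classical
  have : Fintype (IrrCharacter G) := Fintype.ofFinite _
  rw [blockCoeff_eq_sum, mul_eq_zero]
  right
  rw [← sum_block_regular_singular hM hB (x := 1) (by simp [hM.1.ne_one]) (y := g⁻¹)
    (by rwa [orderOf_inv]), finsum_mem_eq_finite_toFinset_sum _ (Set.toFinite B)]
  exact Finset.sum_congr (by ext; simp) fun _ _ => rfl

theorem isPRegular_of_coeff_ne_zero {B : Set (IrrCharacter G)} (hB : IsPBlock M B) {g : G}
    (hg : (blockIdemBar M B).coeff g ≠ 0) : ¬ p ∣ orderOf g := fun hd => hg <| by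
  rw [coeff_blockIdemBar_eq_zero_iff hB, blockCoeff_eq_zero_of_singular hM hB hd]
  exact memLocalIdeal_iff_not_isUnit (z := (0 : localRing M)) |>.2 not_isUnit_zero

theorem centralizer_le_defect {B : Set (IrrCharacter G)} (hB : IsPBlock M B) {g : G}
    (hg : (blockIdemBar M B).coeff g ≠ 0) :
    (Nat.card (Subgroup.centralizer ({g} : Set G))).factorization p ≤ blockDefect p B := by
  obtain ⟨D, hD⟩ := exists_isDefectGroup (p := p) hB
  obtain ⟨T, -, hT, hTp, hTs⟩ := CfsgLib.Fusion.exists_isSylowIn_ge (p := p)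
    (bot_le : (⊥ : Subgroup G) ≤ Subgroup.centralizer ({g} : Set G)) IsPGroup.of_bot
  have h := (IsDefectGroup.defLE_of_coeff_ne_zero hM hB hD hg T hTp hT).card_dvd
  rw [(CfsgLib.Fusion.isSylowIn_iff_card hT).1 hTs, IsDefectGroup.card_eq hM hB hD] at h
  exact (Nat.pow_dvd_pow_iff_le_right (Fact.out : p.Prime).one_lt).1 h

theorem centralCharBar_eq_zero_of_small {B : Set (IrrCharacter G)} (hB : IsPBlock M B)
    {χ : IrrCharacter G} (hχ : χ ∈ B) {g : G}
    (hg : (Nat.card (Subgroup.centralizer ({g} : Set G))).factorization p < blockDefect p B) :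
    centralCharBar M χ g = 0 := by
  by_contra h
  obtain ⟨D, hD⟩ := exists_isDefectGroup (p := p) hB
  obtain ⟨T, -, hT, hTp, hTs⟩ := CfsgLib.Fusion.exists_isSylowIn_ge (p := p)
    (bot_le : (⊥ : Subgroup G) ≤ Subgroup.centralizer ({g} : Set G)) IsPGroup.of_bot
  have hd := (IsDefectGroup.subConj_of_centralCharBar_ne_zero hM hB hD hχ h (defLE_self hTs)).card_dvd
  rw [(CfsgLib.Fusion.isSylowIn_iff_card hT).1 hTs, IsDefectGroup.card_eq hM hB hD] at hd
  exact absurd ((Nat.pow_dvd_pow_iff_le_right (Fact.out : p.Prime).one_lt).1 hd) (not_le.2 hg)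

/-- The classes that matter for a block of defect `d`. -/
theorem term_eq_zero_of_not {B : Set (IrrCharacter G)} (hB : IsPBlock M B) {C : Set (IrrCharacter G)}
    (hC : IsPBlock M C) (hBC : blockDefect p B = blockDefect p C)
    {χ : IrrCharacter G} (hχ : χ ∈ C) {g : G}
    (h : ¬ (¬ p ∣ orderOf g ∧
      (Nat.card (Subgroup.centralizer ({g} : Set G))).factorization p = blockDefect p B)) :
    (blockIdemBar M B).coeff g * centralCharBar M χ g = 0 := by
  by_contra hne
  have h1 := left_ne_zero_of_mul hne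
  have h2 := centralizer_le_defect hM hB h1
  refine h ⟨isPRegular_of_coeff_ne_zero hM hB h1, le_antisymm h2 ?_⟩
  by_contra hlt
  exact right_ne_zero_of_mul hne (centralCharBar_eq_zero_of_small hM hC hχ (hBC ▸ not_le.1 hlt))

/-- Central characters at regular classes of defect `d` separate the blocks of defect `d`. -/
theorem sameBlock_of_defect_classes {d : ℕ} {χ ψ : IrrCharacter G}
    (hχ : blockDefect p (blockOf M (χ : G → ℂ)) = d) (hψ : blockDefect p (blockOf M (ψ : G → ℂ)) = d)
    (h : ∀ x : G, ¬ p ∣ orderOf x →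
      (Nat.card (Subgroup.centralizer ({x} : Set G))).factorization p = d →
      centralCharBar M χ x = centralCharBar M ψ x) :
    SameBlock M (χ : G → ℂ) (ψ : G → ℂ) := by
  classical
  have hB := isPBlock_blockOf (M := M) χ
  have hkey : omegaBar χ (blockIdemBar M (blockOf M (χ : G → ℂ))) =
      omegaBar ψ (blockIdemBar M (blockOf M (χ : G → ℂ))) := by
    refine Finset.sum_congr rfl fun C _ => ?_
    by_cases hc : ¬ p ∣ orderOf (Quotient.out C) ∧
        (Nat.card (Subgroup.centralizer ({Quotient.out C} : Set G))).factorization p = d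
    · rw [h _ hc.1 hc.2]
    · rw [term_eq_zero_of_not hM hB hB rfl (mem_blockOf_self χ) (hχ ▸ hc),
        term_eq_zero_of_not hM hB (isPBlock_blockOf ψ) (hχ.trans hψ.symm) (mem_blockOf_self ψ)
          (hχ ▸ hc)]
  rw [omegaBar_blockIdemBar hB, omegaBar_blockIdemBar hB, if_pos (mem_blockOf_self χ)] at hkey
  by_contra hn
  rw [if_neg (show ψ ∉ blockOf M (χ : G → ℂ) from hn)] at hkey
  exact one_ne_zero hkey

/-- There are at most as many blocks of defect `d` as regular classes of defect `d`. -/
theorem card_blocks_le_classes (d : ℕ) :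
    Nat.card {B : Set (IrrCharacter G) // IsPBlock M B ∧ blockDefect p B = d} ≤
      Nat.card {C : ConjClasses G // ∃ g : G, ConjClasses.mk g = C ∧ ¬ p ∣ orderOf g ∧
        (Nat.card (Subgroup.centralizer ({g} : Set G))).factorization p = d} := by
  classical
  set ι := {B : Set (IrrCharacter G) // IsPBlock M B ∧ blockDefect p B = d}
  set κ := {C : ConjClasses G // ∃ g : G, ConjClasses.mk g = C ∧ ¬ p ∣ orderOf g ∧
    (Nat.card (Subgroup.centralizer ({g} : Set G))).factorization p = d}
  have := Fintype.ofFinite ι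
  choose r hr using fun B : ι => IsPBlock.nonempty B.2.1
  let A : Matrix ι κ (Res M) := fun B C => (blockIdemBar M B.1).coeff (Quotient.out C.1)
  let W : Matrix κ ι (Res M) := fun C B => centralCharBar M (r B) (Quotient.out C.1)
  have hmul : A * W = 1 := by
    ext B B'
    rw [Matrix.mul_apply, Matrix.one_apply]
    have h1 : omegaBar (r B') (blockIdemBar M B.1) = if B = B' then 1 else 0 := by
      rw [omegaBar_blockIdemBar B.2.1]
      exact if_congr ⟨fun h => Subtype.ext (IsPBlock.eq_of_mem B.2.1 B'.2.1 h (hr B')),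
        fun h => h ▸ hr B⟩ rfl rfl
    rw [← h1]
    refine Eq.trans ?_ (Finset.sum_subset (Finset.subset_univ
      ((Finset.univ : Finset κ).map (Function.Embedding.subtype _))) fun C _ hC => ?_)
    · rw [Finset.sum_map]
      rfl
    · refine term_eq_zero_of_not hM B.2.1 B'.2.1 (B.2.2.trans B'.2.2.symm) (hr B') fun h => hC ?_
      exact Finset.mem_map.2 ⟨⟨C, Quotient.out C, Quotient.out_eq C, h.1, B.2.2 ▸ h.2⟩,
        Finset.mem_univ _, rfl⟩
  have h1 := Matrix.rank_mul_le_right A W
  rw [hmul, Matrix.rank_one] at h1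
  rw [Nat.card_eq_fintype_card, Nat.card_eq_fintype_card]
  exact h1.trans W.rank_le_card_height

omit hM in
/-- A class of odd size stable under inversion, of an element of odd order, is trivial. -/
theorem eq_one_of_isConj_inv {g : G} (hg : Odd (orderOf g)) (hc : IsConj g g⁻¹)
    (hodd : Odd (Nat.card {x : G // IsConj g x})) : g = 1 := by
  classical
  let σ : Equiv.Perm {x : G // IsConj g x} :=
    { toFun := fun x => ⟨x.1⁻¹, by
        obtain ⟨c, hc'⟩ := isConj_iff.1 x.2
        exact hc.trans (isConj_iff.2 ⟨c, by rw [← hc']; group⟩)⟩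
      invFun := fun x => ⟨x.1⁻¹, by
        obtain ⟨c, hc'⟩ := isConj_iff.1 x.2
        exact hc.trans (isConj_iff.2 ⟨c, by rw [← hc']; group⟩)⟩
      left_inv := fun x => Subtype.ext (inv_inv _)
      right_inv := fun x => Subtype.ext (inv_inv _) }
  have hσ : σ ^ 2 ^ 1 = 1 := Equiv.ext fun x => Subtype.ext (by
    show ((σ ^ 2 ^ 1) x).1 = x.1
    simp [pow_succ, σ])
  obtain ⟨x, hx⟩ := Equiv.Perm.exists_fixed_point_of_prime (p := 2) (n := 1)
    (by rw [← Nat.card_eq_fintype_card]; exact Nat.two_dvd_ne_zero.2 (Nat.odd_iff.1 hodd)) hσ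
  have hx1 : x.1⁻¹ = x.1 := congrArg Subtype.val hx
  have h2 : orderOf x.1 ∣ 2 := orderOf_dvd_of_pow_eq_one (by
    rw [sq]; nth_rewrite 1 [← hx1]; exact inv_mul_cancel _)
  obtain ⟨c, hc'⟩ := isConj_iff.1 x.2
  have h3 : orderOf x.1 = orderOf g := by
    rw [← hc']
    exact MulEquiv.orderOf_eq (MulAut.conj c) g
  rw [h3] at h2
  rcases (Nat.dvd_prime Nat.prime_two).1 h2 with h4 | h4
  · exact orderOf_eq_one_iff.1 h4
  · rw [h4] at hg
    exact absurd hg (by decide)

omit [Fact p.Prime] [Fintype G] hM in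
theorem index_centralizer_eq_card (g : G) :
    (Subgroup.centralizer ({g} : Set G)).index = Nat.card {x : G // IsConj g x} := by
  rw [Subgroup.index_eq_card]
  refine Nat.card_congr (Equiv.ofBijective
    (Quotient.lift (fun c : G => (⟨c * g * c⁻¹, isConj_iff.2 ⟨c, rfl⟩⟩ : {x : G // IsConj g x}))
      fun a b hab => Subtype.ext ?_) ⟨?_, ?_⟩)
  · have h := mem_centralizer_singleton.1 (QuotientGroup.leftRel_apply.1 hab)
    have h' : a⁻¹ * b * g = g * (a⁻¹ * b) := h
    calc a * g * a⁻¹ = a * (g * (a⁻¹ * b)) * b⁻¹ := by group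
      _ = a * (a⁻¹ * b * g) * b⁻¹ := by rw [h']
      _ = b * g * b⁻¹ := by group
  · intro a b
    induction a using Quotient.inductionOn with
    | h a =>
      induction b using Quotient.inductionOn with
      | h b =>
        intro h
        have h' : a * g * a⁻¹ = b * g * b⁻¹ := congrArg Subtype.val h
        refine Quotient.sound (QuotientGroup.leftRel_apply.2 (mem_centralizer_singleton.2 ?_))
        show a⁻¹ * b * g = g * (a⁻¹ * b)
        calc a⁻¹ * b * g = a⁻¹ * (b * g * b⁻¹) * b := by group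
          _ = a⁻¹ * (a * g * a⁻¹) * b := by rw [h']
          _ = g * (a⁻¹ * b) := by group
  · rintro ⟨x, hx⟩
    obtain ⟨c, rfl⟩ := isConj_iff.1 hx
    exact ⟨Quotient.mk'' c, rfl⟩

end CfsgLib.CharAction

namespace CfsgLib.CharAction

open Cfsg CfsgLib.Blocks

variable {G : Type*} [Group G] [Fintype G] {M : Ideal AlgInt} [M.IsPrime]

theorem centralCharBar_of_isConj (χ : IrrCharacter G) {g h : G} (hc : IsConj g h) :
    centralCharBar M χ g = centralCharBar M χ h := by
  classical
  rw [← omegaBar_classSum, ← omegaBar_classSum, show classSum (Res M) g = classSum (Res M) h from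
    MonoidAlgebra.ext (Finsupp.ext fun x => by
      rw [coeff_classSum, coeff_classSum]
      exact if_congr ⟨fun e => hc.symm.trans e, fun e => hc.trans e⟩ rfl rfl)]

theorem centralCharBar_one (χ : IrrCharacter G) : centralCharBar M χ 1 = 1 := by
  rw [centralCharBar, ← map_one (resHom M)]
  congr 1
  refine Subtype.ext ?_
  have hone : Subgroup.centralizer ({1} : Set G) = ⊤ :=
    eq_top_iff.2 fun x _ => mem_centralizer_singleton.2 (Commute.one_right x)
  show centralChar (χ : G → ℂ) 1 = 1
  rw [centralChar, hone, Subgroup.index_top, Nat.cast_one, one_mul,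
    div_self (Char.IsIrr.apply_one_ne_zero χ.2)]

variable (hM : IsPModular 2 M)
include hM

/-- For a character of odd degree, the central character at a central element symmetrical under
inversion only sees the identity. -/
theorem omegaBar_eq_coeff_one {ψ : IrrCharacter G} (hodd : ¬ 2 ∣ charDegree (ψ : G → ℂ))
    {a : MonoidAlgebra (Res M) G} (ha : IsCentralElt a)
    (hreg : ∀ g, a.coeff g ≠ 0 → ¬ 2 ∣ orderOf g)
    (hsym : ∀ g : G, ¬ 2 ∣ orderOf g →
      a.coeff g⁻¹ * centralCharBar M ψ g⁻¹ = a.coeff g * centralCharBar M ψ g) :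
    omegaBar ψ a = a.coeff 1 := by
  classical
  have : Fact (Nat.Prime 2) := ⟨Nat.prime_two⟩
  have := charP_residueField hM
  let f : ConjClasses G → Res M := fun C =>
    a.coeff (Quotient.out C) * centralCharBar M ψ (Quotient.out C)
  have hf : ∀ g : G, f (ConjClasses.mk g) = a.coeff g * centralCharBar M ψ g := by
    intro g
    have hc : IsConj g (Quotient.out (ConjClasses.mk g)) :=
      (ConjClasses.mk_eq_mk_iff_isConj.1 (Quotient.out_eq (ConjClasses.mk g))).symm
    obtain ⟨c, hc'⟩ := isConj_iff.1 hc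
    show a.coeff _ * centralCharBar M ψ _ = _
    rw [← centralCharBar_of_isConj ψ hc, ← hc', ha g c]
  show ∑ C, f C = a.coeff 1
  rw [← Finset.add_sum_erase _ f (Finset.mem_univ (ConjClasses.mk (1 : G))), hf, centralCharBar_one,
    mul_one, add_eq_left]
  refine Finset.sum_involution (fun C _ => ConjClasses.mk (Quotient.out C)⁻¹) (fun C _ => ?_)
    (fun C hmem hC hfix => ?_) (fun C hmem => ?_) (fun C _ => ?_)
  · have hC : f C = a.coeff (Quotient.out C) * centralCharBar M ψ (Quotient.out C) := rfl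
    by_cases h2 : ¬ 2 ∣ orderOf (Quotient.out C)
    · rw [hf, hsym _ h2, hC]
      exact CharTwo.add_self_eq_zero _
    · have h0 : a.coeff (Quotient.out C) = 0 := by_contra fun h => h2 (hreg _ h)
      have h1 : a.coeff (Quotient.out C)⁻¹ = 0 := by_contra fun h => h2 (by
        have := hreg _ h
        rwa [orderOf_inv] at this)
      rw [hf, hC, h0, h1, zero_mul, zero_mul, add_zero]
  · have hne : a.coeff (Quotient.out C) * centralCharBar M ψ (Quotient.out C) ≠ 0 := hC
    have hreg' := hreg _ (left_ne_zero_of_mul hne)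
    have hconj : IsConj (Quotient.out C) (Quotient.out C)⁻¹ :=
      (ConjClasses.mk_eq_mk_iff_isConj.1 (hfix.trans (Quotient.out_eq C).symm)).symm
    have hidx : Odd (Subgroup.centralizer ({Quotient.out C} : Set G)).index := by
      rw [Nat.odd_iff, ← Nat.two_dvd_ne_zero]
      intro h2
      refine right_ne_zero_of_mul hne (centralCharBar_eq_zero_of_lt hM ψ ?_)
      rw [Nat.factorization_eq_zero_of_not_dvd hodd]
      exact Nat.prime_two.factorization_pos_of_dvd Subgroup.index_ne_zero_of_finite h2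
    have h1 := eq_one_of_isConj_inv (Nat.odd_iff.2 (Nat.two_dvd_ne_zero.1 hreg')) hconj
      (index_centralizer_eq_card (Quotient.out C) ▸ hidx)
    exact (Finset.mem_erase.1 hmem).1 ((Quotient.out_eq C).symm.trans (congrArg ConjClasses.mk h1))
  · refine Finset.mem_erase.2 ⟨fun e => ?_, Finset.mem_univ _⟩
    obtain ⟨c, hc⟩ := isConj_iff.1 (ConjClasses.mk_eq_mk_iff_isConj.1 e).symm
    have h1 : Quotient.out C = 1 := by simpa [eq_comm] using hc
    exact (Finset.mem_erase.1 hmem).1 ((Quotient.out_eq C).symm.trans (congrArg ConjClasses.mk h1))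
  · show ConjClasses.mk (Quotient.out (ConjClasses.mk (Quotient.out C)⁻¹))⁻¹ = C
    have hc := ConjClasses.mk_eq_mk_iff_isConj.1 (Quotient.out_eq (ConjClasses.mk (Quotient.out C)⁻¹))
    obtain ⟨c, hc'⟩ := isConj_iff.1 hc
    refine (ConjClasses.mk_eq_mk_iff_isConj.2 ?_).trans (Quotient.out_eq C)
    have h2 := congrArg (fun z : G => z⁻¹) hc'
    exact isConj_iff.2 ⟨c, by simpa [mul_assoc] using h2⟩

end CfsgLib.CharAction

namespace CfsgLib.CharAction

open Cfsg CfsgLib.Blocks

variable {G : Type*} [Group G] [Fintype G] {M : Ideal AlgInt} [M.IsPrime]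
  (hM : IsPModular 2 M)
include hM

/-- A `2`-block with a character of odd degree, symmetrical under inversion on regular elements,
is principal. -/
theorem eq_principalBlock_of_symm {B : Set (IrrCharacter G)} (hB : IsPBlock M B)
    {χ : IrrCharacter G} (hχ : χ ∈ B) (hodd : ¬ 2 ∣ charDegree (χ : G → ℂ))
    (hcoeff : ∀ g : G, ¬ 2 ∣ orderOf g → blockCoeff B g⁻¹ = blockCoeff B g)
    (hω : ∀ g : G, ¬ 2 ∣ orderOf g → centralCharBar M χ g⁻¹ = centralCharBar M χ g) :
    B = principalBlock M G := by
  classical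
  have : Fact (Nat.Prime 2) := ⟨Nat.prime_two⟩
  set a := blockIdemBar M B with ha
  have hcent := isCentralElt_blockIdemBar (M := M) hB
  have hreg : ∀ g, a.coeff g ≠ 0 → ¬ 2 ∣ orderOf g := fun g hg =>
    isPRegular_of_coeff_ne_zero hM hB hg
  have hasym : ∀ g : G, ¬ 2 ∣ orderOf g → a.coeff g⁻¹ = a.coeff g := fun g hg => by
    simp only [ha, blockIdemBar, coeff_red, blockIdemO, coeff_ofFun, dif_pos (blockCoeff_mem hB _),
      hcoeff g hg]
  have h1 := omegaBar_eq_coeff_one hM hodd hcent hreg fun g hg => by rw [hasym g hg, hω g hg]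
  rw [omegaBar_blockIdemBar hB, if_pos hχ] at h1
  have h2 := omegaBar_eq_coeff_one hM (ψ := Char.trivChar G)
    (by
      have h3 : charDegree ((Char.trivChar G : IrrCharacter G) : G → ℂ) = 1 :=
        charDegree_eq (by rw [Char.trivChar_apply, Nat.cast_one])
      rw [h3]; decide)
    hcent hreg fun g hg => by
      rw [hasym g hg]
      congr 1
      rw [centralCharBar_eq_iff]
      have hidx : (Subgroup.centralizer ({g⁻¹} : Set G)) = Subgroup.centralizer ({g} : Set G) := by
        ext x
        rw [mem_centralizer_singleton, mem_centralizer_singleton, Commute.inv_right_iff]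
      rw [centralChar, centralChar, hidx]
      simp only [Char.trivChar_apply, sub_self]
      exact memLocalIdeal_iff_not_isUnit (z := (0 : localRing M)) |>.2 not_isUnit_zero
  rw [← h1, omegaBar_blockIdemBar hB] at h2
  by_contra hne
  rw [if_neg fun hm => hne (IsPBlock.eq_of_mem hB isPBlock_principalBlock hm
    trivChar_mem_principalBlock)] at h2
  exact zero_ne_one h2

/-- Reading the hypotheses of the criterion off a bijection of the block. -/
theorem eq_principalBlock_of_map {B : Set (IrrCharacter G)} (hB : IsPBlock M B)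
    {χ : IrrCharacter G} (hχ : χ ∈ B) (hodd : ¬ 2 ∣ charDegree (χ : G → ℂ))
    (σ : IrrCharacter G → IrrCharacter G) (hmaps : ∀ ψ ∈ B, σ ψ ∈ B)
    (hinj : Function.Injective σ)
    (hσ : ∀ (ψ : IrrCharacter G) (g : G), ψ ∈ B → ¬ 2 ∣ orderOf g →
      (σ ψ : G → ℂ) g = (ψ : G → ℂ) g⁻¹) : B = principalBlock M G := by
  classical
  have hreg : ∀ g : G, ¬ 2 ∣ orderOf g → ¬ 2 ∣ orderOf g⁻¹ := fun g hg => by rwa [orderOf_inv]
  have hone : ¬ 2 ∣ orderOf (1 : G) := by simp
  have hidx : ∀ g : G, Subgroup.centralizer ({g⁻¹} : Set G) = Subgroup.centralizer ({g} : Set G) :=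
    fun g => by
      ext x
      rw [mem_centralizer_singleton, mem_centralizer_singleton, Commute.inv_right_iff]
  refine eq_principalBlock_of_symm hM hB hχ hodd (fun g hg => ?_) fun g hg => ?_
  · have := Fintype.ofFinite (IrrCharacter G)
    rw [blockCoeff, blockCoeff]
    congr 1
    rw [finsum_mem_eq_finite_toFinset_sum _ (Set.toFinite B),
      finsum_mem_eq_finite_toFinset_sum _ (Set.toFinite B)]
    refine Finset.sum_bij (fun ψ _ => σ ψ) (fun ψ hψ => ?_) (fun a _ b _ h => hinj h) ?_ ?_
    · rw [Set.Finite.mem_toFinset] at hψ ⊢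
      exact hmaps ψ hψ
    · intro b hb
      have himg : (Set.toFinite B).toFinset.image σ = (Set.toFinite B).toFinset :=
        Finset.eq_of_subset_of_card_le (fun x hx => by
          obtain ⟨ψ, hψ, rfl⟩ := Finset.mem_image.1 hx
          rw [Set.Finite.mem_toFinset] at hψ ⊢
          exact hmaps ψ hψ) (by rw [Finset.card_image_of_injective _ hinj])
      rw [← himg] at hb
      obtain ⟨ψ, hψ, rfl⟩ := Finset.mem_image.1 hb
      exact ⟨ψ, hψ, rfl⟩
    · intro ψ hψ
      rw [Set.Finite.mem_toFinset] at hψ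
      have h1 : (σ ψ : G → ℂ) 1 = (ψ : G → ℂ) 1 := by rw [hσ ψ 1 hψ hone, inv_one]
      rw [h1, hσ ψ g hψ hg]
  · rw [sameBlock_iff.1 (IsPBlock.sameBlock hB hχ (hmaps χ hχ)) g⁻¹, centralCharBar_eq_iff,
      centralChar, centralChar, hidx, hσ χ g⁻¹ hχ (hreg g hg), inv_inv, hσ χ 1 hχ hone, inv_one,
      sub_self]
    exact memLocalIdeal_iff_not_isUnit (z := (0 : localRing M)) |>.2 not_isUnit_zero

/-- A block stable under complex conjugation with a character of odd degree is principal. -/
theorem eq_principalBlock_of_conj {B : Set (IrrCharacter G)} (hB : IsPBlock M B)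
    {χ : IrrCharacter G} (hχ : χ ∈ B) (hodd : ¬ 2 ∣ charDegree (χ : G → ℂ))
    (hconj : ∀ ψ ∈ B, Char.conjIrr ψ ∈ B) : B = principalBlock M G :=
  eq_principalBlock_of_map hM hB hχ hodd Char.conjIrr hconj
    (Function.Involutive.injective Char.conjIrr_conjIrr)
    fun ψ g _ _ => by rw [Char.conjIrr_apply, ← Char.IsIrr.map_inv ψ.2]

end CfsgLib.CharAction
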