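import Cfsg.Agent.Lib.CharAction.RegGen
import Cfsg.Agent.Lib.Blocks.Orthogonality
import Mathlib.NumberTheory.Padics.PadicVal.Basic

/-!
# Inner products of regular parts inside a block

`regNum p χ ξ` is the integer `p ^ a * ⟨χ_reg, ξ⟩`. It is divisible by the `p`-parts of both
degrees, and exactly by that of `ξ 1` if and only if `χ` has height zero.
-/

namespace CfsgLib.CharAction

open Cfsg CfsgLib.Char CfsgLib.Blocks
open scoped ComplexConjugate

variable {G : Type*} [Group G]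

/-- The exponent of `p` in the degree. -/
noncomputable abbrev degVal (p : ℕ) (χ : G → ℂ) : ℕ := (charDegree χ).factorization p

/-- The least exponent of `p` in a degree of a member of `B`. -/
noncomputable def minDeg (p : ℕ) (B : Set (IrrCharacter G)) : ℕ :=
  sInf ((fun χ : IrrCharacter G => (charDegree (χ : G → ℂ)).factorization p) '' B)

theorem minDeg_le {p : ℕ} {B : Set (IrrCharacter G)} {χ : IrrCharacter G} (hχ : χ ∈ B) :
    minDeg p B ≤ degVal p (χ : G → ℂ) := Nat.sInf_le ⟨χ, hχ, rfl⟩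

theorem exists_minDeg (p : ℕ) {B : Set (IrrCharacter G)} (hB : B.Nonempty) :
    ∃ χ ∈ B, degVal p (χ : G → ℂ) = minDeg p B := Nat.sInf_mem (hB.image _)

theorem blockDefect_eq_sub (p : ℕ) (B : Set (IrrCharacter G)) :
    blockDefect p B = (Nat.card G).factorization p - minDeg p B := rfl

theorem blockHeight_eq_sub (p : ℕ) (B : Set (IrrCharacter G)) (χ : G → ℂ) :
    blockHeight p B χ = degVal p χ - minDeg p B := rfl

variable [Fintype G] {p : ℕ}

theorem degVal_le (χ : IrrCharacter G) : degVal p (χ : G → ℂ) ≤ (Nat.card G).factorization p :=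
  (Nat.factorization_le_iff_dvd (charDegree_pos χ).ne' Nat.card_pos.ne').2 (charDegree_dvd_card χ) p

theorem minDeg_le_card {B : Set (IrrCharacter G)} (hB : B.Nonempty) :
    minDeg p B ≤ (Nat.card G).factorization p := by
  obtain ⟨χ, hχ⟩ := hB
  exact (minDeg_le hχ).trans (degVal_le χ)

theorem degVal_eq_add {B : Set (IrrCharacter G)} {χ : IrrCharacter G} (hχ : χ ∈ B) :
    degVal p (χ : G → ℂ) =
      ((Nat.card G).factorization p - blockDefect p B) + blockHeight p B (χ : G → ℂ) := by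
  have h1 := minDeg_le (p := p) hχ
  have h2 := minDeg_le_card (p := p) (B := B) ⟨χ, hχ⟩
  rw [blockDefect_eq_sub, blockHeight_eq_sub]
  omega

/-- `⟨χ_reg, ξ⟩` scaled by the `p`-part of the group order. -/
noncomputable def regNum (p : ℕ) (χ ξ : G → ℂ) : ℤ :=
  ⌊(((p ^ (Nat.card G).factorization p : ℕ) : ℂ) * classInner (regCut p χ) ξ).re⌋

theorem classInner_const_mul (c : ℂ) (f ξ : G → ℂ) :
    classInner (fun g => c * f g) ξ = c * classInner f ξ := classInner_smul_left f ξ c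

variable [Fact p.Prime]

theorem exists_int_pow_mul_inner (χ ξ : IrrCharacter G) {c : ℕ}
    (hc : (Nat.card G).factorization p ≤ c + degVal p (χ : G → ℂ)) :
    ∃ k : ℤ, ((p ^ c : ℕ) : ℂ) * classInner (regCut p (χ : G → ℂ)) (ξ : G → ℂ) = k := by
  obtain ⟨k, hk⟩ := IsGen.exists_classInner_eq_intCast (isGen_pow_regCut Fact.out χ hc)
    (IsGen.of_irr ξ.2)
  exact ⟨k, by rw [← hk, classInner_const_mul]⟩

theorem regNum_eq (χ ξ : IrrCharacter G) :
    ((p ^ (Nat.card G).factorization p : ℕ) : ℂ) * classInner (regCut p (χ : G → ℂ)) (ξ : G → ℂ) =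
      (regNum p (χ : G → ℂ) (ξ : G → ℂ) : ℂ) := by
  obtain ⟨k, hk⟩ := exists_int_pow_mul_inner χ ξ (c := (Nat.card G).factorization p)
    (Nat.le_add_right _ _)
  rw [regNum, hk, Complex.intCast_re, Int.floor_intCast]

omit [Fact p.Prime] in
theorem classInner_regCut_swap (χ ξ : G → ℂ) :
    classInner (regCut p χ) ξ = conj (classInner (regCut p ξ) χ) := by
  rw [classInner_conj_symm]
  simp only [classInner]
  congr 1
  refine Finset.sum_congr rfl fun g _ => ?_
  simp only [regCut]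
  split <;> simp

theorem regNum_comm (χ ξ : IrrCharacter G) :
    regNum p (χ : G → ℂ) (ξ : G → ℂ) = regNum p (ξ : G → ℂ) (χ : G → ℂ) := by
  have h : (regNum p (χ : G → ℂ) (ξ : G → ℂ) : ℂ) = regNum p (ξ : G → ℂ) (χ : G → ℂ) := by
    rw [← regNum_eq, classInner_regCut_swap,
      ← Complex.conj_natCast (p ^ (Nat.card G).factorization p), ← map_mul, regNum_eq, map_intCast]
  exact_mod_cast h

theorem pow_dvd_regNum_left (χ ξ : IrrCharacter G) :
    (p : ℤ) ^ degVal p (χ : G → ℂ) ∣ regNum p (χ : G → ℂ) (ξ : G → ℂ) := by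
  obtain ⟨k, hk⟩ := exists_int_pow_mul_inner χ ξ
    (p := p) (c := (Nat.card G).factorization p - degVal p (χ : G → ℂ)) (by have := degVal_le (p := p) χ; omega)
  refine ⟨k, ?_⟩
  have h : (regNum p (χ : G → ℂ) (ξ : G → ℂ) : ℂ) = (p : ℂ) ^ degVal p (χ : G → ℂ) * k := by
    rw [← regNum_eq, ← hk, ← mul_assoc]
    push_cast
    rw [← pow_add, Nat.add_sub_cancel' (degVal_le χ)]
  exact_mod_cast h

theorem pow_dvd_regNum_right (χ ξ : IrrCharacter G) :
    (p : ℤ) ^ degVal p (ξ : G → ℂ) ∣ regNum p (χ : G → ℂ) (ξ : G → ℂ) :=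
  by
  rw [regNum_comm χ ξ]
  exact pow_dvd_regNum_left ξ χ

/-- Expansion of a scaled regular part in the irreducible characters. -/
theorem sum_regNum_smul [Fintype (IrrCharacter G)] (χ : IrrCharacter G) (g : G) :
    ∑ ξ : IrrCharacter G, (regNum p (χ : G → ℂ) (ξ : G → ℂ) : ℂ) * (ξ : G → ℂ) g =
      ((p ^ (Nat.card G).factorization p : ℕ) : ℂ) * regCut p (χ : G → ℂ) g := by
  rw [classFunction_apply_eq_sum (regCut_conj p (IsIrr.isClassFunction χ.2)) g, Finset.mul_sum]
  exact Finset.sum_congr rfl fun ξ _ => by rw [← regNum_eq, mul_assoc]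

/-- The degree `p`-part divides some coefficient exactly. -/
theorem exists_not_pow_succ_dvd (χ : IrrCharacter G) :
    ∃ ξ : IrrCharacter G,
      ¬ (p : ℤ) ^ (degVal p (χ : G → ℂ) + 1) ∣ regNum p (χ : G → ℂ) (ξ : G → ℂ) := by
  have := Fintype.ofFinite (IrrCharacter G)
  by_contra hcon
  push Not at hcon
  choose k hk using hcon
  set b := degVal p (χ : G → ℂ)
  set a := (Nat.card G).factorization p
  have hp0 : (p : ℂ) ≠ 0 := Nat.cast_ne_zero.2 (Fact.out : p.Prime).ne_zero
  have hval : ∀ g, (p : ℂ) ^ (b + 1) * (∑ ξ, (k ξ : ℂ) • (ξ : G → ℂ)) g =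
      ((p ^ a : ℕ) : ℂ) * regCut p (χ : G → ℂ) g := fun g => by
    rw [← sum_regNum_smul, Finset.sum_apply, Finset.mul_sum]
    refine Finset.sum_congr rfl fun ξ _ => ?_
    rw [hk ξ, Pi.smul_apply, smul_eq_mul]
    push_cast
    ring
  obtain ⟨m, hm⟩ := pow_dvd_apply_one_of_vanish (p := p) (IsGen.intCast_sum k) fun g hg => by
    simpa [regCut, hg, hp0] using hval g
  have h1 := hval 1
  rw [hm, regCut, if_neg (by simpa using (Fact.out : p.Prime).ne_one),
    apply_one_eq_charDegree χ] at h1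
  have h3 : ((charDegree (χ : G → ℂ) : ℕ) : ℂ) = (p : ℂ) ^ (b + 1) * m := by
    refine mul_left_cancel₀ (pow_ne_zero a hp0) ?_
    push_cast at h1
    linear_combination -h1
  have h4 : ((p ^ (b + 1) : ℕ) : ℤ) ∣ (charDegree (χ : G → ℂ) : ℤ) :=
    ⟨m, by push_cast; exact_mod_cast h3⟩
  exact Nat.pow_succ_factorization_not_dvd (charDegree_pos χ).ne' Fact.out
    (Int.natCast_dvd_natCast.1 h4)

variable {M : Ideal AlgInt} [M.IsPrime] (hM : IsPModular p M)

include hM

theorem regNum_eq_zero {χ ξ : IrrCharacter G}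
    (h : ¬ SameBlock M (χ : G → ℂ) (ξ : G → ℂ)) : regNum p (χ : G → ℂ) (ξ : G → ℂ) = 0 := by
  have h0 : classInner (regCut p (χ : G → ℂ)) (ξ : G → ℂ) = 0 := by
    rw [classInner]
    refine mul_eq_zero_of_right _ ((Eq.trans ?_ (Finset.sum_filter _ _).symm).trans
      (sum_regular_eq_zero hM h))
    refine Finset.sum_congr rfl fun g _ => ?_
    rw [← IsIrr.map_inv ξ.2]
    simp only [regCut]
    split <;> simp [*]
  have h' := regNum_eq (p := p) χ ξ
  rw [h0, mul_zero] at h'
  exact_mod_cast h'.symm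

theorem regNum_eq_zero_of_notMem {B : Set (IrrCharacter G)} (hB : IsPBlock M B)
    {χ ξ : IrrCharacter G} (hχ : χ ∈ B) (hξ : ξ ∉ B) :
    regNum p (χ : G → ℂ) (ξ : G → ℂ) = 0 :=
  regNum_eq_zero hM fun h => hξ (by rw [IsPBlock.eq_blockOf hB hχ]; exact h)

/-- The quotients `n (χ, ξ) / ξ 1` are local integers, congruent within a block. -/
theorem exists_quotient_congr (χ : IrrCharacter G) {ξ η : IrrCharacter G}
    (h : SameBlock M (ξ : G → ℂ) (η : G → ℂ)) :
    ∃ u v : localRing M,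
      (regNum p (χ : G → ℂ) (ξ : G → ℂ) : ℂ) = (u : ℂ) * (ξ : G → ℂ) 1 ∧
      (regNum p (χ : G → ℂ) (η : G → ℂ) : ℂ) = (v : ℂ) * (η : G → ℂ) 1 ∧
      IsLocalRing.residue (localRing M) u = IsLocalRing.residue (localRing M) v := by
  classical
  have := Fintype.ofFinite (ConjClasses G)
  obtain ⟨r, hr, hrp⟩ : ∃ r, Nat.card G = p ^ (Nat.card G).factorization p * r ∧ ¬ p ∣ r :=
    ⟨_, (Nat.ordProj_mul_ordCompl_eq_self _ _).symm,
      Nat.not_dvd_ordCompl Fact.out Nat.card_pos.ne'⟩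
  have hval : ∀ g, regCut p (χ : G → ℂ) g ∈ localRing M := fun g => by
    simp only [regCut]
    split
    · exact zero_mem _
    · exact mem_localRing_of_isIntegral (IsChar.isIntegral (IsIrr.isCharacter χ.2) g)
  let T : IrrCharacter G → localRing M := fun ζ =>
    ⟨(r : ℂ)⁻¹, inv_natCast_mem hM hrp⟩ *
      ∑ C : ConjClasses G, ⟨_, hval (Quotient.out C)⟩ * centralCharO M ζ (Quotient.out C)⁻¹
  have key : ∀ ζ : IrrCharacter G,
      (regNum p (χ : G → ℂ) (ζ : G → ℂ) : ℂ) = (T ζ : ℂ) * (ζ : G → ℂ) 1 := by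
    intro ζ
    simp only [T, Subring.coe_mul, AddSubmonoidClass.coe_finsetSum, centralCharO]
    rw [← regNum_eq, classInner, mul_assoc (r : ℂ)⁻¹, Finset.sum_mul,
      show ∑ g, regCut p (χ : G → ℂ) g * conj ((ζ : G → ℂ) g) =
        ∑ C : ConjClasses G, ∑ g ∈ Finset.univ.filter (fun g => ConjClasses.mk g = C),
          regCut p (χ : G → ℂ) g * conj ((ζ : G → ℂ) g) from
        (Finset.sum_fiberwise _ _ _).symm, ← mul_assoc,
      show ((p ^ (Nat.card G).factorization p : ℕ) : ℂ) * (Nat.card G : ℂ)⁻¹ = (r : ℂ)⁻¹ by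
        have hq : ((p ^ (Nat.card G).factorization p : ℕ) : ℂ) ≠ 0 :=
          Nat.cast_ne_zero.2 (pow_ne_zero _ (Fact.out : p.Prime).ne_zero)
        have hc : (Nat.card G : ℂ) = ((p ^ (Nat.card G).factorization p : ℕ) : ℂ) * r := by
          rw [← Nat.cast_mul, ← hr]
        rw [hc, mul_inv, ← mul_assoc, mul_inv_cancel₀ hq, one_mul]]
    congr 1
    refine Finset.sum_congr rfl fun C _ => ?_
    have hC : ConjClasses.mk (Quotient.out C) = C := Quotient.out_eq C
    have hcf : IsClassFunction G (fun g => regCut p (χ : G → ℂ) g * conj ((ζ : G → ℂ) g)) :=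
      fun g y => by
        simp only [regCut_conj p (IsIrr.isClassFunction χ.2) g y, IsIrr.isClassFunction ζ.2 g y]
    rw [Finset.sum_congr rfl fun g hg =>
      (isClassFunction_iff_isConj.1 hcf) g (Quotient.out C)
        (ConjClasses.mk_eq_mk_iff_isConj.1 (((Finset.mem_filter.1 hg).2).trans hC.symm)),
      Finset.sum_const, nsmul_eq_mul]
    have hcard : (Finset.univ.filter fun g => ConjClasses.mk g = C).card =
        (Subgroup.centralizer ({(Quotient.out C)⁻¹} : Set G)).index := by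
      have hcent : Subgroup.centralizer ({(Quotient.out C)⁻¹} : Set G) =
          Subgroup.centralizer ({Quotient.out C} : Set G) := by
        ext y
        rw [Subgroup.mem_centralizer_singleton_iff, Subgroup.mem_centralizer_singleton_iff]
        exact Commute.inv_right_iff
      rw [hcent, ← card_carrier_eq_index (Quotient.out C)]
      conv_rhs => rw [hC]
      rw [Nat.card_eq_fintype_card, ← Set.toFinset_card]
      congr 1
      ext g
      simp [ConjClasses.mem_carrier_iff_mk_eq]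
    rw [hcard, centralChar, IsIrr.map_inv ζ.2]
    have := IsIrr.apply_one_ne_zero ζ.2
    field_simp
  refine ⟨T ξ, T η, key ξ, key η, ?_⟩
  simp only [T, map_mul, map_sum]
  congr 1
  refine Finset.sum_congr rfl fun C _ => ?_
  congr 1
  exact residue_eq_iff.2 (h _)

omit [Fact p.Prime] in
theorem pow_succ_dvd_iff_residue {n : ℤ} {u : localRing M} {d : ℕ} (hd : d ≠ 0)
    (hdvd : (p : ℤ) ^ d.factorization p ∣ n) (hn : (n : ℂ) = (u : ℂ) * d) :
    (p : ℤ) ^ (d.factorization p + 1) ∣ n ↔ IsLocalRing.residue (localRing M) u = 0 := by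
  have hp : p.Prime := hM.1
  have := charP_residueField hM
  set b := d.factorization p
  have hm : ¬ p ∣ d / p ^ b := Nat.not_dvd_ordCompl hp hd
  set m := d / p ^ b
  have hdm : d = p ^ b * m := (Nat.ordProj_mul_ordCompl_eq_self d p).symm
  have hpb : (p : ℂ) ^ b ≠ 0 := pow_ne_zero _ (Nat.cast_ne_zero.2 hp.ne_zero)
  have hmres : IsLocalRing.residue (localRing M) (m : localRing M) ≠ 0 := by
    rw [map_natCast, Ne, CharP.cast_eq_zero_iff _ p]
    exact hm
  obtain ⟨q, hq⟩ := hdvd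
  have hql : (q : localRing M) = u * (m : localRing M) := Subtype.ext (by
    refine mul_left_cancel₀ hpb ?_
    rw [hq, hdm] at hn
    push_cast at hn ⊢
    linear_combination hn)
  have hres := congrArg (IsLocalRing.residue (localRing M)) hql
  rw [map_mul, map_intCast] at hres
  rw [hq, pow_succ, mul_dvd_mul_iff_left (pow_ne_zero _ (Int.natCast_ne_zero.2 hp.ne_zero)),
    ← CharP.intCast_eq_zero_iff (IsLocalRing.ResidueField (localRing M)) p, hres, mul_eq_zero]
  exact or_iff_left hmres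

theorem pow_succ_dvd_regNum_congr (χ : IrrCharacter G) {ξ η : IrrCharacter G}
    (h : SameBlock M (ξ : G → ℂ) (η : G → ℂ)) :
    (p : ℤ) ^ (degVal p (ξ : G → ℂ) + 1) ∣ regNum p (χ : G → ℂ) (ξ : G → ℂ) ↔
      (p : ℤ) ^ (degVal p (η : G → ℂ) + 1) ∣ regNum p (χ : G → ℂ) (η : G → ℂ) := by
  obtain ⟨u, v, hu, hv, huv⟩ := exists_quotient_congr hM χ h
  rw [apply_one_eq_charDegree] at hu hv
  rw [pow_succ_dvd_iff_residue hM (charDegree_pos ξ).ne' (pow_dvd_regNum_right χ ξ) hu,
    pow_succ_dvd_iff_residue hM (charDegree_pos η).ne' (pow_dvd_regNum_right χ η) hv, huv]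

/-- `χ` has height zero exactly when `n (χ, ξ)` and `ξ 1` have equal `p`-parts. -/
theorem not_pow_succ_dvd_regNum_iff {B : Set (IrrCharacter G)} (hB : IsPBlock M B)
    {χ ξ : IrrCharacter G} (hχ : χ ∈ B) (hξ : ξ ∈ B) :
    ¬ (p : ℤ) ^ (degVal p (ξ : G → ℂ) + 1) ∣ regNum p (χ : G → ℂ) (ξ : G → ℂ) ↔
      blockHeight p B (χ : G → ℂ) = 0 := by
  rw [blockHeight_eq_sub]
  constructor
  · intro h
    by_contra hne
    obtain ⟨η, hη, hmin⟩ := exists_minDeg p (IsPBlock.nonempty hB)
    refine h ((pow_succ_dvd_regNum_congr hM χ (IsPBlock.sameBlock hB hη hξ)).1 ?_)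
    exact (pow_dvd_pow _ (by omega)).trans (pow_dvd_regNum_left χ η)
  · intro h0 hd
    obtain ⟨η, hη⟩ := exists_not_pow_succ_dvd (p := p) χ
    refine hη ?_
    by_cases hm : η ∈ B
    · exact (pow_dvd_pow _ (by have := minDeg_le (p := p) hm; omega)).trans
        ((pow_succ_dvd_regNum_congr hM χ (IsPBlock.sameBlock hB hξ hm)).1 hd)
    · rw [regNum_eq_zero_of_notMem hM hB hχ hm]
      exact dvd_zero _

omit hM [M.IsPrime] in
theorem eq_padicValInt_iff {n : ℤ} {b : ℕ} (hb : (p : ℤ) ^ b ∣ n) :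
    (n ≠ 0 ∧ padicValInt p n = b) ↔ ¬ (p : ℤ) ^ (b + 1) ∣ n := by
  rw [padicValInt_dvd_iff]
  constructor
  · rintro ⟨h1, h2⟩ (h | h)
    · exact h1 h
    · omega
  · intro h
    push Not at h
    refine ⟨h.1, le_antisymm (by omega) ?_⟩
    exact ((padicValInt_dvd_iff b n).1 hb).resolve_left h.1

end CfsgLib.CharAction
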