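import Cfsg.Agent.Lib.CharAction.GaloisOverOdd
import Cfsg.Agent.Lib.CharAction.DefectCount
import Cfsg.Agent.Lib.CharAction.RegBlock
import Cfsg.Agent.Lib.Blocks.Principal

/-!
# The principal block and fixed characters over a normal subgroup of odd index
-/

namespace CfsgLib.CharAction

open Cfsg CfsgLib.Blocks CfsgLib.Char
open scoped ComplexConjugate

variable {G : Type*} [Group G] [Fintype G] {M : Ideal AlgInt} [M.IsPrime] {p : ℕ} [Fact p.Prime]
  (N : Subgroup G) [hN : N.Normal] [Fintype N]

theorem conjIrr_trivChar (g : G) : Blocks.conjIrr N g (Char.trivChar N) = Char.trivChar N :=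
  Subtype.ext (funext fun n => by rw [Blocks.conjIrr_apply]; simp)

theorem classInner_trivChar_restrict :
    classInner (fun n : N => ((Char.trivChar G : IrrCharacter G) : G → ℂ) n)
      ((Char.trivChar N : IrrCharacter N) : N → ℂ) = 1 := by
  rw [show (fun n : N => ((Char.trivChar G : IrrCharacter G) : G → ℂ) n) =
    ((Char.trivChar N : IrrCharacter N) : N → ℂ) from funext fun n => by simp,
    classInner_irr_self]

/-- Constituents on `N` of characters of the principal block are principal. -/
theorem mem_principalBlock_of_constituent {χ : IrrCharacter G} (hχ : χ ∈ principalBlock M G)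
    {θ : IrrCharacter N} (hθ : classInner (fun n : N => (χ : G → ℂ) n) (θ : N → ℂ) ≠ 0) :
    θ ∈ principalBlock M N := by
  obtain ⟨g, hg⟩ := exists_conj_of_sameBlock N (χ := Char.trivChar G) (χ' := χ)
    (θ := Char.trivChar N) hχ (by rw [classInner_trivChar_restrict]; exact one_ne_zero) hθ
  rwa [conjIrr_trivChar] at hg

/-- A block covering the principal block of `N` has a member trivial on `N`. -/
theorem exists_trivial_mem (hM : IsPModular p M) {χ : IrrCharacter G} {θ : IrrCharacter N}
    (hθ : θ ∈ principalBlock M N)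
    (hover : classInner (fun n : N => (χ : G → ℂ) n) (θ : N → ℂ) ≠ 0) :
    ∃ ξ ∈ blockOf M (χ : G → ℂ), ∀ n : N, (ξ : G → ℂ) n = (ξ : G → ℂ) 1 := by
  classical
  have := Fintype.ofFinite (IrrCharacter G)
  set one : IrrCharacter N := Char.trivChar N
  -- the regular inner product of `θ` with the principal character
  have hθ0 : classInner (regCut p (θ : N → ℂ)) (one : N → ℂ) ≠ 0 := by
    have hB := isPBlock_principalBlock (M := M) (G := N)
    have h1 := (not_pow_succ_dvd_regNum_iff hM hB (p := p) trivChar_mem_principalBlock hθ).2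
      (blockHeight_trivChar (p := p) _)
    intro h0
    rw [regNum_comm] at h1
    have h2 : regNum p (θ : N → ℂ) (one : N → ℂ) = 0 := by
      have h3 := regNum_eq (p := p) θ one
      rw [h0, mul_zero] at h3
      exact_mod_cast h3.symm
    exact h1 (h2 ▸ dvd_zero _)
  -- transported to the restriction of `χ`
  have hres := Clifford.restrict_eq_smul_orbit_sum hN χ.2 θ.2 hover
  have hsum : classInner (fun n : N => regCut p (χ : G → ℂ) n) (one : N → ℂ) ≠ 0 := by
    rw [show (fun n : N => regCut p (χ : G → ℂ) n) =
      classInner (fun n : N => (χ : G → ℂ) n) (θ : N → ℂ) •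
        ∑ ψ ∈ Finset.univ.image (Clifford.conjFn hN (θ : N → ℂ)), regCut p ψ from funext fun n => by
      have h := congrFun hres n
      simp only [Pi.smul_apply, Finset.sum_apply, smul_eq_mul] at h ⊢
      simp only [regCut, Subgroup.orderOf_coe]
      by_cases hn : p ∣ orderOf n
      · simp [hn]
      · simp only [if_neg hn]; exact h,
      classInner_smul_left, classInner_sum_left]
    refine mul_ne_zero hover ?_
    rw [Finset.sum_congr rfl (g := fun _ => classInner (regCut p (θ : N → ℂ)) (one : N → ℂ))
      fun ψ hψ => by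
        obtain ⟨g, -, rfl⟩ := Finset.mem_image.1 hψ
        simp only [classInner]
        congr 1
        refine Fintype.sum_equiv ((MulAut.conjNormal g : MulAut N)).toEquiv _ _ fun n => ?_
        simp only [regCut, MulEquiv.toEquiv_eq_coe, MulEquiv.coe_toEquiv, MulEquiv.orderOf_eq,
          one, Char.trivChar_apply, Clifford.conjFn_apply]
        rw [show (MulAut.conjNormal g : MulAut N) n = ⟨g * n * g⁻¹, hN.conj_mem n n.2 g⟩ from
          Subtype.ext (MulAut.conjNormal_apply g n)],
      Finset.sum_const, nsmul_eq_mul]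
    exact mul_ne_zero (Nat.cast_ne_zero.2 (Finset.card_ne_zero.2 ⟨_, Finset.mem_image.2
      ⟨1, Finset.mem_univ _, rfl⟩⟩)) hθ0
  -- so some member of the block lies over the principal character
  have hf : IsClassFunction G (regCut p (χ : G → ℂ)) := fun a b => by
    simp only [regCut]
    rw [show orderOf (b * a * b⁻¹) = orderOf a from
      MulEquiv.orderOf_eq (MulAut.conj b) a, IsIrr.isClassFunction χ.2 a b]
  obtain ⟨ξ, hξ⟩ : ∃ ξ : IrrCharacter G, classInner (regCut p (χ : G → ℂ)) (ξ : G → ℂ) ≠ 0 ∧
      classInner (fun n : N => (ξ : G → ℂ) n) (one : N → ℂ) ≠ 0 := by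
    by_contra hno
    push Not at hno
    refine hsum ?_
    rw [show (fun n : N => regCut p (χ : G → ℂ) n) = ∑ ξ : IrrCharacter G,
        classInner (regCut p (χ : G → ℂ)) (ξ : G → ℂ) • fun n : N => (ξ : G → ℂ) n from
      funext fun n => by
        rw [classFunction_apply_eq_sum hf (n : G)]
        simp, classInner_sum_left]
    refine Finset.sum_eq_zero fun ξ _ => ?_
    rw [classInner_smul_left]
    by_cases h : classInner (regCut p (χ : G → ℂ)) (ξ : G → ℂ) = 0
    · rw [h, zero_mul]
    · rw [hno ξ h, mul_zero]
  refine ⟨ξ, by_contra fun hnot => hξ.1 ?_, fun n => ?_⟩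
  · have h0 := regNum_eq_zero_of_notMem hM (isPBlock_blockOf χ) (mem_blockOf_self χ) hnot (p := p)
    have h := regNum_eq (p := p) χ ξ
    rw [h0, Int.cast_zero, mul_eq_zero] at h
    exact h.resolve_left (Nat.cast_ne_zero.2 (pow_ne_zero _ (Fact.out : p.Prime).ne_zero))
  · have hresξ := Clifford.restrict_eq_smul_orbit_sum hN ξ.2 one.2 hξ.2
    have hO : Finset.univ.image (Clifford.conjFn hN (one : N → ℂ)) = {(one : N → ℂ)} := by
      refine Finset.eq_singleton_iff_unique_mem.2 ⟨Finset.mem_image.2 ⟨1, Finset.mem_univ _,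
        Clifford.conjFn_one hN _⟩, fun ψ hψ => ?_⟩
      obtain ⟨g, -, rfl⟩ := Finset.mem_image.1 hψ
      funext m
      simp [one, Clifford.conjFn_apply]
    rw [hO, Finset.sum_singleton] at hresξ
    have h1 := congrFun hresξ n
    have h2 := congrFun hresξ 1
    simp only [Pi.smul_apply, one, Char.trivChar_apply, OneMemClass.coe_one] at h1 h2
    rw [h1, h2]

end CfsgLib.CharAction
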