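import Cfsg.Agent.Lib.CharAction.RegBlock
import Cfsg.Agent.Lib.Blocks.Kernel
import Cfsg.Agent.Lib.Transfer.PResidual
import Cfsg.Prelude.Def_BlockRank
import Mathlib.LinearAlgebra.Trace

/-!
# The rank of a block as a trace; blocks of rank one
-/

namespace CfsgLib.CharAction

open Cfsg CfsgLib.Char CfsgLib.Blocks

variable {G : Type*} [Group G] [Fintype G] {p : ℕ} [Fact p.Prime] {M : Ideal AlgInt} [M.IsPrime]
  (hM : IsPModular p M)
include hM

theorem regCut_eq_sum {B : Set (IrrCharacter G)} (hB : IsPBlock M B) {ψ : IrrCharacter G}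
    (hψ : ψ ∈ B) :
    regCut p (ψ : G → ℂ) = ∑ χ ∈ (Set.toFinite B).toFinset,
      classInner (regCut p (ψ : G → ℂ)) (χ : G → ℂ) • regCut p (χ : G → ℂ) := by
  classical
  have := Fintype.ofFinite (IrrCharacter G)
  have hp0 : ((p ^ (Nat.card G).factorization p : ℕ) : ℂ) ≠ 0 :=
    Nat.cast_ne_zero.2 (pow_ne_zero _ hM.1.ne_zero)
  funext g
  simp only [Finset.sum_apply, Pi.smul_apply, smul_eq_mul]
  by_cases hg : p ∣ orderOf g
  · simp [regCut, hg]
  · refine mul_left_cancel₀ hp0 ?_
    rw [← sum_regNum_smul, Finset.mul_sum]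
    refine (Finset.sum_subset (Finset.subset_univ (Set.toFinite B).toFinset) fun ξ _ hξ => ?_).symm.trans
      (Finset.sum_congr rfl fun χ _ => ?_)
    · rw [regNum_eq_zero_of_notMem hM hB hψ (by simpa using hξ), Int.cast_zero, zero_mul]
    · rw [← mul_assoc, regNum_eq, show regCut p (χ : G → ℂ) g = (χ : G → ℂ) g from if_neg hg]

theorem blockRank_eq_sum {B : Set (IrrCharacter G)} (hB : IsPBlock M B) :
    (blockRank p B : ℂ) =
      ∑ χ ∈ (Set.toFinite B).toFinset, classInner (regCut p (χ : G → ℂ)) (χ : G → ℂ) := by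
  classical
  set A := (Set.toFinite B).toFinset with hA
  let φ : IrrCharacter G → (G → ℂ) →ₗ[ℂ] ℂ := fun χ =>
    { toFun := fun f => classInner f (χ : G → ℂ)
      map_add' := fun f f' => classInner_add_left f f' _
      map_smul' := fun c f => classInner_smul_left f _ c }
  let T : (G → ℂ) →ₗ[ℂ] (G → ℂ) := ∑ χ ∈ A, (φ χ).smulRight (regCut p (χ : G → ℂ))
  set S := Submodule.span ℂ ((fun χ : IrrCharacter G => pRegularPart p (χ : G → ℂ)) '' B) with hS
  have happly : ∀ f, T f = ∑ χ ∈ A, classInner f (χ : G → ℂ) • regCut p (χ : G → ℂ) := fun f => by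
    simp [T, φ, LinearMap.sum_apply]
  have hproj : LinearMap.IsProj S T := by
    refine ⟨fun f => ?_, fun f hf => ?_⟩
    · rw [happly]
      refine Submodule.sum_mem _ fun χ hχ => Submodule.smul_mem _ _ (Submodule.subset_span ?_)
      exact ⟨χ, (Set.Finite.mem_toFinset _).1 hχ, pRegularPart_eq_regCut p _⟩
    · induction hf using Submodule.span_induction with
      | mem f hf =>
        obtain ⟨ψ, hψ, rfl⟩ := hf
        simp only [pRegularPart_eq_regCut, happly]
        exact (regCut_eq_sum hM hB hψ).symm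
      | zero => exact map_zero T
      | add a b _ _ ha hb => rw [map_add, ha, hb]
      | smul c a _ ha => rw [map_smul, ha]
  have h1 : LinearMap.trace ℂ (G → ℂ) T = (Module.finrank ℂ S : ℂ) := hproj.trace
  rw [show blockRank p B = Module.finrank ℂ S from rfl, ← h1, map_sum]
  exact Finset.sum_congr rfl fun χ _ => LinearMap.trace_smulRight _ _

theorem card_mul_blockRank {B : Set (IrrCharacter G)} (hB : IsPBlock M B) :
    (Nat.card G : ℂ) * (blockRank p B : ℂ) =
      ∑ x : G, ∑ᶠ χ ∈ B, pRegularPart p (χ : G → ℂ) x * (χ : G → ℂ) x⁻¹ := by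
  classical
  rw [blockRank_eq_sum hM hB, Finset.mul_sum]
  simp only [finsum_mem_eq_finite_toFinset_sum _ (Set.toFinite B)]
  rw [Finset.sum_comm]
  refine Finset.sum_congr rfl fun χ _ => ?_
  rw [classInner, mul_inv_cancel_left₀ (Nat.cast_ne_zero.2 Nat.card_pos.ne')]
  exact Finset.sum_congr rfl fun x _ => by rw [pRegularPart_eq_regCut, Char.IsIrr.map_inv χ.2]

/-- With a normal `p`-complement the principal block has rank one, and conversely. -/
theorem blockRank_principal_eq_one_iff :
    blockRank p (principalBlock M G) = 1 ↔ HasNormalPComplement p G := by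
  classical
  have hp : p.Prime := Fact.out
  have htriv : regCut p ((Char.trivChar G : IrrCharacter G) : G → ℂ) ≠ 0 := fun h => by
    have := congrFun h 1
    simp [regCut, hp.ne_one, Char.trivChar_apply] at this
  have htm : Char.trivChar G ∈ principalBlock M G := trivChar_mem_principalBlock
  constructor
  · intro hrank
    have hreg : ∀ g : G, ¬ p ∣ orderOf g → g ∈ blockKerSubgroup (principalBlock M G) := by
      intro g hg
      rw [mem_blockKerSubgroup]
      intro χ hχ
      obtain ⟨v, hv⟩ := finrank_eq_one_iff'.1 hrank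
      obtain ⟨c, hc⟩ := hv.2 ⟨_, Submodule.subset_span ⟨χ, hχ, rfl⟩⟩
      obtain ⟨d, hd⟩ := hv.2 ⟨_, Submodule.subset_span ⟨Char.trivChar G, htm, rfl⟩⟩
      have hc' := congrArg Subtype.val hc
      have hd' := congrArg Subtype.val hd
      simp only [Submodule.coe_smul] at hc' hd'
      rw [pRegularPart_eq_regCut] at hc' hd'
      have hd0 : d ≠ 0 := fun h => htriv (by rw [← hd', h, zero_smul])
      have key : ∀ x : G, ¬ p ∣ orderOf x → (χ : G → ℂ) x = c * d⁻¹ := fun x hx => by
        have h1 := congrFun hc' x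
        have h2 := congrFun hd' x
        simp only [Pi.smul_apply, smul_eq_mul, regCut, if_neg hx, Char.trivChar_apply] at h1 h2
        rw [← h1]
        field_simp
        linear_combination c * h2
      rw [key g hg, key 1 (by simp [hp.ne_one])]
    refine CfsgLib.Transfer.hasNormalPComplement_iff_exists.2
      ⟨blockKerSubgroup (principalBlock M G), normal_blockKerSubgroup _,
        (hp.coprime_iff_not_dvd.2 (not_dvd_card_blockKerSubgroup hM isPBlock_principalBlock)).symm, ?_⟩
    have := normal_blockKerSubgroup (principalBlock M G)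
    intro x
    induction x using QuotientGroup.induction_on with
    | H g =>
      obtain ⟨k, m, hm, hkm⟩ := Nat.exists_eq_pow_mul_and_not_dvd (orderOf_pos g).ne' p hp.ne_one
      refine ⟨k, ?_⟩
      rw [← QuotientGroup.mk_pow, QuotientGroup.eq_one_iff]
      refine hreg _ fun hd => hm ?_
      rwa [orderOf_pow' _ (pow_ne_zero _ hp.ne_zero), hkm, Nat.gcd_eq_right (dvd_mul_right _ _),
        Nat.mul_div_cancel_left _ (pow_pos hp.pos k)] at hd
  · intro h
    obtain ⟨N, hN, hcop, hq⟩ := CfsgLib.Transfer.hasNormalPComplement_iff_exists.1 h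
    have hNp : ¬ p ∣ Nat.card N := hp.coprime_iff_not_dvd.1 hcop.symm
    have hmem : ∀ g : G, ¬ p ∣ orderOf g → g ∈ N := fun g hg => by
      obtain ⟨k, hk⟩ := hq (g : G ⧸ N)
      rw [← QuotientGroup.mk_pow, QuotientGroup.eq_one_iff] at hk
      have hco : (p ^ k).Coprime (orderOf g) := (hp.coprime_iff_not_dvd.2 hg).pow_left k
      obtain ⟨a, ha⟩ := exists_pow_eq_self_of_coprime hco
      rw [← ha]
      exact pow_mem hk a
    have hspan : Submodule.span ℂ ((fun χ : IrrCharacter G => pRegularPart p (χ : G → ℂ)) ''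
        principalBlock M G) = ℂ ∙ regCut p ((Char.trivChar G : IrrCharacter G) : G → ℂ) := by
      refine le_antisymm (Submodule.span_le.2 ?_) (Submodule.span_le.2 ?_)
      · rintro _ ⟨χ, hχ, rfl⟩
        refine Submodule.mem_span_singleton.2 ⟨(χ : G → ℂ) 1, funext fun g => ?_⟩
        simp only [pRegularPart_eq_regCut, Pi.smul_apply, smul_eq_mul, regCut]
        split_ifs with hg
        · rw [mul_zero]
        · rw [Char.trivChar_apply, mul_one, apply_eq_of_mem_principalBlock N hM hNp hχ g (hmem g hg)]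
      · rintro _ rfl
        exact Submodule.subset_span ⟨_, htm, pRegularPart_eq_regCut p _⟩
    rw [blockRank, hspan]
    exact finrank_span_singleton htriv

end CfsgLib.CharAction
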