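import Cfsg.Agent.Lib.CharAction.RegBlock

/-!
# The Brauer–Feit bounds
-/

namespace CfsgLib.CharAction

open Cfsg CfsgLib.Char CfsgLib.Blocks
open scoped ComplexConjugate

variable {G : Type*} [Group G] [Fintype G] {p : ℕ} [Fact p.Prime] {M : Ideal AlgInt} [M.IsPrime]
  (hM : IsPModular p M) {B : Set (IrrCharacter G)} (hB : IsPBlock M B)

include hM hB

/-- The squares of the coefficients of a scaled regular part sum to `p ^ a * n (χ, χ)`. -/
theorem sum_regNum_sq [Fintype (IrrCharacter G)] [DecidablePred (· ∈ B)] {χ : IrrCharacter G}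
    (hχ : χ ∈ B) :
    ∑ ξ ∈ Finset.univ.filter (· ∈ B), regNum p (χ : G → ℂ) (ξ : G → ℂ) ^ 2 =
      (p : ℤ) ^ (Nat.card G).factorization p * regNum p (χ : G → ℂ) (χ : G → ℂ) := by
  have hf : (∑ ξ : IrrCharacter G, (regNum p (χ : G → ℂ) (ξ : G → ℂ) : ℂ) • (ξ : G → ℂ)) =
      fun g => ((p ^ (Nat.card G).factorization p : ℕ) : ℂ) * regCut p (χ : G → ℂ) g := by
    funext g
    simp only [Finset.sum_apply, Pi.smul_apply, smul_eq_mul]
    exact sum_regNum_smul χ g
  have h1 := IsGen.classInner_self (fun ξ : IrrCharacter G => regNum p (χ : G → ℂ) (ξ : G → ℂ))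
  rw [hf] at h1
  have hself : classInner (regCut p (χ : G → ℂ)) (regCut p (χ : G → ℂ)) =
      classInner (regCut p (χ : G → ℂ)) (χ : G → ℂ) := by
    simp only [classInner, regCut]
    congr 1
    refine Finset.sum_congr rfl fun g _ => ?_
    split <;> simp
  rw [classInner_const_mul, show (fun g => ((p ^ (Nat.card G).factorization p : ℕ) : ℂ) *
      regCut p (χ : G → ℂ) g) = ((p ^ (Nat.card G).factorization p : ℕ) : ℂ) • regCut p (χ : G → ℂ)
      from rfl, classInner_smul_right, hself, Complex.conj_natCast, regNum_eq,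
    ← Int.cast_natCast (R := ℂ), ← Int.cast_mul, Int.cast_inj] at h1
  push_cast at h1
  rw [h1, Finset.sum_filter]
  refine Finset.sum_congr rfl fun ξ _ => ?_
  split
  next => ring
  next h => rw [regNum_eq_zero_of_notMem hM hB hχ h, mul_zero]

/-- The coefficients of `p ^ (a - b) * χ_reg`, for `p ^ b` the `p`-part of `χ 1`. -/
theorem exists_coeff [Fintype (IrrCharacter G)] [DecidablePred (· ∈ B)] {χ : IrrCharacter G}
    (hχ : χ ∈ B) :
    ∃ e : IrrCharacter G → ℤ,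
      (∀ ξ : IrrCharacter G, regNum p (χ : G → ℂ) (ξ : G → ℂ) = (p : ℤ) ^ degVal p (χ : G → ℂ) * e ξ) ∧
      ∑ ξ ∈ Finset.univ.filter (· ∈ B), e ξ ^ 2 =
        (p : ℤ) ^ (blockDefect p B - blockHeight p B (χ : G → ℂ)) * e χ := by
  choose e he using fun ξ : IrrCharacter G => pow_dvd_regNum_left (p := p) χ ξ
  refine ⟨e, he, ?_⟩
  have h := sum_regNum_sq hM hB hχ
  simp only [he, mul_pow] at h
  rw [← Finset.mul_sum] at h
  have h0 : (((p : ℤ) ^ degVal p (χ : G → ℂ)) ^ 2) ≠ 0 :=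
    pow_ne_zero _ (pow_ne_zero _ (Int.natCast_ne_zero.2 (Fact.out : p.Prime).ne_zero))
  refine mul_left_cancel₀ h0 (h.trans ?_)
  have hle := degVal_le (p := p) χ
  have he' : blockDefect p B - blockHeight p B (χ : G → ℂ) =
      (Nat.card G).factorization p - degVal p (χ : G → ℂ) := by
    have := minDeg_le (p := p) hχ
    rw [blockDefect_eq_sub, blockHeight_eq_sub]
    omega
  rw [he']
  conv_lhs => rw [← Nat.add_sub_cancel' hle, pow_add]
  ring

theorem blockHeight_le {χ : IrrCharacter G} (hχ : χ ∈ B) :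
    blockHeight p B (χ : G → ℂ) ≤ blockDefect p B := by
  have h1 := minDeg_le (p := p) hχ
  have h2 := degVal_le (p := p) χ
  rw [blockDefect_eq_sub, blockHeight_eq_sub]
  omega

theorem exists_height_zero : ∃ χ ∈ B, blockHeight p B (χ : G → ℂ) = 0 := by
  obtain ⟨χ, hχ, h⟩ := exists_minDeg p (IsPBlock.nonempty hB)
  exact ⟨χ, hχ, by rw [blockHeight_eq_sub, h, Nat.sub_self]⟩

/-- **Brauer–Feit**, with heights: `∑ p ^ (2 h) ≤ p ^ (2 d) / 4 + 1`. -/
theorem four_mul_sum_height_le [Fintype (IrrCharacter G)] [DecidablePred (· ∈ B)] :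
    4 * ∑ χ ∈ Finset.univ.filter (· ∈ B), p ^ (2 * blockHeight p B (χ : G → ℂ)) ≤
      p ^ (2 * blockDefect p B) + 4 := by
  classical
  obtain ⟨χ, hχ, h0⟩ := exists_height_zero hM hB (p := p)
  obtain ⟨e, he, hsum⟩ := exists_coeff hM hB hχ
  rw [h0, Nat.sub_zero] at hsum
  have hb : degVal p (χ : G → ℂ) = (Nat.card G).factorization p - blockDefect p B := by
    rw [degVal_eq_add hχ, h0, add_zero]
  have hge : ∀ ξ ∈ B, ((p ^ (2 * blockHeight p B (ξ : G → ℂ)) : ℕ) : ℤ) ≤ e ξ ^ 2 := by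
    intro ξ hξ
    have hp0 : (p : ℤ) ≠ 0 := Int.natCast_ne_zero.2 (Fact.out : p.Prime).ne_zero
    have h2 := pow_dvd_regNum_right (p := p) χ ξ
    rw [degVal_eq_add hξ, he, ← hb, pow_add, mul_dvd_mul_iff_left (pow_ne_zero _ hp0)] at h2
    have h3 : e ξ ≠ 0 := fun h => (not_pow_succ_dvd_regNum_iff hM hB hχ hξ).2 h0 (by
      rw [he, h, mul_zero]
      exact dvd_zero _)
    push_cast
    rw [pow_mul', ← sq_abs (e ξ)]
    exact pow_le_pow_left₀ (by positivity)
      (Int.le_of_dvd (abs_pos.2 h3) ((dvd_abs _ _).2 h2)) 2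
  have hmem : χ ∈ Finset.univ.filter (· ∈ B) := by simp [hχ]
  rw [← Finset.add_sum_erase _ _ hmem, h0, mul_zero, pow_zero]
  rw [← Finset.add_sum_erase _ _ hmem] at hsum
  suffices h : 4 * ((∑ ξ ∈ (Finset.univ.filter (· ∈ B)).erase χ,
      p ^ (2 * blockHeight p B (ξ : G → ℂ)) : ℕ) : ℤ) ≤ ((p ^ (2 * blockDefect p B) : ℕ) : ℤ) by
    omega
  push_cast
  rw [pow_mul' _ 2]
  have h5 : ((∑ ξ ∈ (Finset.univ.filter (· ∈ B)).erase χ,
      ((p : ℤ) ^ (2 * blockHeight p B (ξ : G → ℂ))))) ≤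
      ∑ ξ ∈ (Finset.univ.filter (· ∈ B)).erase χ, e ξ ^ 2 :=
    Finset.sum_le_sum fun ξ hξ => by
      exact_mod_cast hge ξ (Finset.mem_filter.1 (Finset.mem_of_mem_erase hξ)).2
  nlinarith [sq_nonneg ((p : ℤ) ^ blockDefect p B - 2 * e χ)]

theorem four_mul_card_le : 4 * Nat.card B ≤ p ^ (2 * blockDefect p B) + 4 := by
  classical
  have := Fintype.ofFinite (IrrCharacter G)
  refine le_trans (Nat.mul_le_mul_left 4 ?_) (four_mul_sum_height_le hM hB)
  rw [Nat.card_eq_fintype_card, Fintype.card_subtype]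
  calc (Finset.univ.filter (· ∈ B)).card = ∑ _χ ∈ Finset.univ.filter (· ∈ B), 1 :=
        Finset.card_eq_sum_ones _
    _ ≤ _ := Finset.sum_le_sum fun χ _ => Nat.one_le_pow _ _ (Fact.out : p.Prime).pos

/-- A character of positive height bounds the height and the number of height zero characters. -/
theorem bounds_of_height_pos [Fintype (IrrCharacter G)] [DecidablePred (· ∈ B)]
    [DecidablePred fun χ : IrrCharacter G => χ ∈ B ∧ blockHeight p B (χ : G → ℂ) = 0]
    {ψ : IrrCharacter G}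
    (hψ : ψ ∈ B) (hpos : 0 < blockHeight p B (ψ : G → ℂ)) :
    blockHeight p B (ψ : G → ℂ) + 2 ≤ blockDefect p B ∧
      4 * (Finset.univ.filter
        (fun χ : IrrCharacter G => χ ∈ B ∧ blockHeight p B (χ : G → ℂ) = 0)).card ≤
      p ^ (2 * blockDefect p B - 2) := by
  classical
  obtain ⟨e, he, hsum⟩ := exists_coeff hM hB hψ
  set Z := Finset.univ.filter (fun χ : IrrCharacter G => χ ∈ B ∧ blockHeight p B (χ : G → ℂ) = 0)
  set n := blockDefect p B - blockHeight p B (ψ : G → ℂ) with hn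
  have hp := (Fact.out : p.Prime).two_le
  have hp0 : (p : ℤ) ≠ 0 := Int.natCast_ne_zero.2 (Fact.out : p.Prime).ne_zero
  obtain ⟨t, ht⟩ : (p : ℤ) ∣ e ψ := by
    have := not_pow_succ_dvd_regNum_iff hM hB hψ hψ (p := p)
    have h2 : (p : ℤ) ^ (degVal p (ψ : G → ℂ) + 1) ∣ regNum p (ψ : G → ℂ) (ψ : G → ℂ) := by
      by_contra h
      exact hpos.ne' (this.1 h)
    rwa [he, pow_succ, mul_dvd_mul_iff_left (pow_ne_zero _ hp0)] at h2
  have hψZ : ψ ∉ Z := by simp [Z, hpos.ne']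
  have hsub : insert ψ Z ⊆ Finset.univ.filter (· ∈ B) := by
    intro x hx
    rcases Finset.mem_insert.1 hx with rfl | h <;> simp_all [Z]
  have hone : ∀ ξ ∈ Z, 1 ≤ e ξ ^ 2 := by
    intro ξ hξ
    obtain ⟨hξB, hξ0⟩ := (Finset.mem_filter.1 hξ).2
    have h3 : e ξ ≠ 0 := fun h => (not_pow_succ_dvd_regNum_iff hM hB hξB hψ (p := p)).2 hξ0 (by
      rw [regNum_comm, he, h, mul_zero]
      exact dvd_zero _)
    exact (sq_pos_of_ne_zero h3)
  have hle : (Z.card : ℤ) + e ψ ^ 2 ≤ (p : ℤ) ^ n * e ψ := by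
    rw [← hsum]
    refine le_trans ?_ (Finset.sum_le_sum_of_subset_of_nonneg hsub fun x _ _ => sq_nonneg _)
    rw [Finset.sum_insert hψZ, add_comm]
    have := Finset.sum_le_sum hone
    simp only [Finset.sum_const, nsmul_eq_mul, mul_one] at this
    linarith
  obtain ⟨χ, hχ, hχ0⟩ := exists_height_zero hM hB (p := p)
  have hZ : 1 ≤ Z.card := Finset.card_pos.2 ⟨χ, by simp [Z, hχ, hχ0]⟩
  rw [ht] at hle
  have ht0 : 0 < t := by
    by_contra h
    push Not at h
    nlinarith [pow_pos (show (0 : ℤ) < p by omega) n, mul_nonneg (show (0 : ℤ) ≤ p by omega)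
      (neg_nonneg.2 h)]
  have hn2 : 2 ≤ n := by
    by_contra h
    have h1 : (p : ℤ) ^ n ≤ p := by
      calc (p : ℤ) ^ n ≤ (p : ℤ) ^ 1 := pow_le_pow_right₀ (by omega) (by omega)
        _ = p := pow_one _
    nlinarith [mul_nonneg (mul_nonneg (show (0 : ℤ) ≤ p by omega) (show (0 : ℤ) ≤ p by omega))
      (mul_nonneg ht0.le (show (0 : ℤ) ≤ t - 1 by omega)),
      mul_nonneg (mul_nonneg (show (0 : ℤ) ≤ p by omega) ht0.le) (sub_nonneg.2 h1)]
  refine ⟨by omega, ?_⟩
  have h1 : (4 * Z.card : ℤ) ≤ ((p : ℤ) ^ n) ^ 2 := by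
    nlinarith [sq_nonneg ((p : ℤ) ^ n - 2 * (p * t))]
  have h2 : 4 * Z.card ≤ p ^ (n * 2) := by
    rw [pow_mul]
    exact_mod_cast h1
  exact h2.trans (Nat.pow_le_pow_right (by omega) (by omega))

theorem height_bound {χ : IrrCharacter G} (hχ : χ ∈ B) :
    blockHeight p B (χ : G → ℂ) = 0 ∨ blockHeight p B (χ : G → ℂ) + 2 ≤ blockDefect p B := by
  classical
  have := Fintype.ofFinite (IrrCharacter G)
  rcases Nat.eq_zero_or_pos (blockHeight p B (χ : G → ℂ)) with h | h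
  · exact Or.inl h
  · exact Or.inr (bounds_of_height_pos hM hB hχ h).1

theorem two_mul_card_le_of_height_pos
    (h : ∃ χ ∈ B, 0 < blockHeight p B (χ : G → ℂ)) :
    2 * Nat.card B ≤ p ^ (2 * blockDefect p B - 2) := by
  classical
  have := Fintype.ofFinite (IrrCharacter G)
  obtain ⟨ψ, hψ, hpos⟩ := h
  obtain ⟨hd, hZ⟩ := bounds_of_height_pos hM hB hψ hpos
  have hS := four_mul_sum_height_le hM hB (p := p)
  rw [Nat.card_eq_fintype_card, Fintype.card_subtype]
  have hsplit := Finset.card_filter_add_card_filter_not (s := Finset.univ.filter (· ∈ B))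
    (fun χ : IrrCharacter G => blockHeight p B (χ : G → ℂ) = 0)
  rw [← Finset.sum_filter_add_sum_filter_not _
    (fun χ : IrrCharacter G => blockHeight p B (χ : G → ℂ) = 0)] at hS
  simp only [Finset.filter_filter] at hsplit hS
  obtain ⟨χ, hχ, hχ0⟩ := exists_height_zero hM hB (p := p)
  set Z := Finset.univ.filter (fun χ : IrrCharacter G => χ ∈ B ∧ blockHeight p B (χ : G → ℂ) = 0)
  set W := Finset.univ.filter (fun χ : IrrCharacter G => χ ∈ B ∧ ¬ blockHeight p B (χ : G → ℂ) = 0)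
  have h1 : 1 ≤ ∑ x ∈ Z, p ^ (2 * blockHeight p B (x : G → ℂ)) := by
    refine le_trans ?_ (Finset.single_le_sum (fun x _ => Nat.zero_le _)
      (show χ ∈ Z by simp [Z, hχ, hχ0]))
    exact Nat.one_le_pow _ _ (Fact.out : p.Prime).pos
  have h2 : W.card * p ^ 2 ≤ ∑ x ∈ W, p ^ (2 * blockHeight p B (x : G → ℂ)) := by
    rw [← smul_eq_mul]
    refine Finset.card_nsmul_le_sum _ _ _ fun x hx => ?_
    have := (Finset.mem_filter.1 hx).2.2
    exact Nat.pow_le_pow_right (Fact.out : p.Prime).pos (by omega)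
  have h3 : p ^ (2 * blockDefect p B) = p ^ (2 * blockDefect p B - 2) * p ^ 2 := by
    rw [← pow_add]; congr 1; omega
  have h4 : 4 * W.card ≤ p ^ (2 * blockDefect p B - 2) := by
    refine Nat.le_of_mul_le_mul_right (c := p ^ 2) ?_ (pow_pos (Fact.out : p.Prime).pos 2)
    rw [← h3]
    linarith
  omega

end CfsgLib.CharAction
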