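import Cfsg.Agent.Lib.CharAction.PGroup
import Mathlib.Algebra.CharP.Lemmas
import Mathlib.RingTheory.RootsOfUnity.Complex
import Mathlib.RingTheory.Norm.Transitivity
import Mathlib.FieldTheory.IntermediateField.Adjoin.Basic
import Mathlib.Analysis.SpecialFunctions.Log.Basic
import Mathlib.RingTheory.Polynomial.Cyclotomic.Roots
import Cfsg.Prelude.Def_Blocks

/-!
# Power congruences and Galois conjugates of character values
-/

namespace CfsgLib.CharAction

open scoped ComplexConjugate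
open Module

theorem charDegree_eq_of_apply_one {G : Type*} [Group G] {χ : G → ℂ} {d : ℕ} (h : χ 1 = d) :
    Cfsg.charDegree χ = d := by
  simp [Cfsg.charDegree, h]

/-- The freshman's dream modulo `p`, for a sum of algebraic integers. -/
theorem congMod_pow_sum {p : ℕ} [Fact p.Prime] (n : ℕ) {ι : Type*} (s : Finset ι) (f : ι → ℂ)
    (hf : ∀ i ∈ s, IsIntegral ℤ (f i)) :
    CongMod p ((∑ i ∈ s, f i) ^ (p ^ n)) (∑ i ∈ s, f i ^ (p ^ n)) := by
  classical
  induction s using Finset.induction with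
  | empty =>
    refine CongMod.of_eq ?_
    simp [zero_pow (pow_ne_zero n (Fact.out : p.Prime).ne_zero)]
  | insert a s ha ih =>
    rw [Finset.sum_insert ha, Finset.sum_insert ha]
    have hfa := hf a (Finset.mem_insert_self a s)
    have hfs : IsIntegral ℤ (∑ i ∈ s, f i) :=
      IsIntegral.sum f fun i hi => hf i (Finset.mem_insert_of_mem hi)
    obtain ⟨r, hr⟩ := exists_add_pow_prime_pow_eq (Fact.out : p.Prime)
      (⟨f a, hfa⟩ : integralClosure ℤ ℂ) ⟨∑ i ∈ s, f i, hfs⟩ n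
    have hr' := congrArg (fun z : integralClosure ℤ ℂ => (z : ℂ)) hr
    push_cast at hr'
    obtain ⟨b, hb, hbe⟩ := ih fun i hi => hf i (Finset.mem_insert_of_mem hi)
    rw [sub_eq_iff_eq_add] at hbe
    rw [hr', hbe]
    refine ⟨b + f a * (∑ i ∈ s, f i) * (r : ℂ), hb.add ((hfa.mul hfs).mul r.2), ?_⟩
    push_cast
    ring

variable {G : Type*} [Group G] [Finite G]

/-- `χ g ^ (p ^ n) ≡ χ (g ^ (p ^ n))`. -/
theorem congMod_char_pow {p : ℕ} [Fact p.Prime] {χ : G → ℂ} (hχ : Cfsg.IsCharacter G χ) (g : G)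
    (n : ℕ) : CongMod p (χ g ^ (p ^ n)) (χ (g ^ (p ^ n))) := by
  obtain ⟨m, ρ, rfl⟩ := hχ
  obtain ⟨ε, hε, -, hpow, -⟩ := Char.exists_eigenvalues ρ g
  have h1 := hpow 1
  simp only [pow_one] at h1
  rw [h1, hpow]
  exact congMod_pow_sum n Finset.univ ε fun i _ =>
    IsIntegral.of_pow (orderOf_pos g) (by rw [hε i]; exact isIntegral_one)

/-- Geometric/arithmetic mean: positive reals of product at least one sum to at least their
number. -/
theorem card_le_sum_of_one_le_prod {ι : Type*} (s : Finset ι) (a : ι → ℝ)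
    (hpos : ∀ i ∈ s, 0 < a i) (h : 1 ≤ ∏ i ∈ s, a i) : (s.card : ℝ) ≤ ∑ i ∈ s, a i := by
  have h1 : ∑ i ∈ s, Real.log (a i) ≤ ∑ i ∈ s, (a i - 1) :=
    Finset.sum_le_sum fun i hi => Real.log_le_sub_one_of_pos (hpos i hi)
  rw [← Real.log_prod (fun i hi => (hpos i hi).ne')] at h1
  have h2 := Real.log_nonneg h
  simp [Finset.sum_sub_distrib] at h1
  linarith

/-- The Galois conjugates of a nonzero character value have squared norms with product `≥ 1`;
they are the values at the powers of exponent prime to the group order. -/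
theorem exists_galois_conjugates (G : Type*) [Group G] [Finite G] :
    ∃ (S : Finset ℕ), S.Nonempty ∧ (∀ k ∈ S, k.Coprime (Nat.card G)) ∧
      ∃ (w : ℕ → ℕ), (∀ k ∈ S, 0 < w k) ∧ ∀ (χ : G → ℂ) (g : G), Cfsg.IsCharacter G χ → χ g ≠ 0 →
        ((∑ k ∈ S, w k : ℕ) : ℝ) ≤ ∑ k ∈ S, (w k : ℝ) * ‖χ (g ^ k)‖ ^ 2 := by
  classical
  set N := Nat.card G with hN
  have hN0 : 0 < N := Nat.card_pos
  let ζ : ℂ := Complex.exp (2 * Real.pi * Complex.I / N)
  have hζ : IsPrimitiveRoot ζ N := Complex.isPrimitiveRoot_exp N hN0.ne'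
  let K : IntermediateField ℚ ℂ := IntermediateField.adjoin ℚ {ζ}
  have hfin : FiniteDimensional ℚ K :=
    IntermediateField.adjoin.finiteDimensional (IsIntegral.of_pow hN0 (by
      rw [hζ.pow_eq_one]; exact isIntegral_one))
  let z : K := ⟨ζ, IntermediateField.mem_adjoin_simple_self ℚ ζ⟩
  have hz : IsPrimitiveRoot z N :=
    IsPrimitiveRoot.of_map_of_injective (f := K.val) hζ K.val.injective
  haveI : NeZero N := ⟨hN0.ne'⟩
  have hk : ∀ σ : K →ₐ[ℚ] ℂ, ∃ k : ℕ, k.Coprime N ∧ σ z = ζ ^ k := fun σ => by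
    have h : IsPrimitiveRoot (σ z) N := hz.map_of_injective σ.injective
    obtain ⟨i, hi, hi'⟩ := hζ.eq_pow_of_pow_eq_one h.pow_eq_one
    refine ⟨i, ?_, hi'.symm⟩
    rw [← hi'] at h
    exact (hζ.pow_iff_coprime hN0 i).mp h
  choose kk hkc hke using hk
  refine ⟨Finset.univ.image kk, ?_, ?_, fun k => (Finset.univ.filter fun σ => kk σ = k).card,
    ?_, ?_⟩
  · exact ⟨kk { K.val.toRingHom with commutes' := fun r => by simp },
      Finset.mem_image_of_mem _ (Finset.mem_univ _)⟩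
  · intro k hk
    obtain ⟨σ, -, rfl⟩ := Finset.mem_image.mp hk
    exact hkc σ
  · intro k hk
    obtain ⟨σ, -, rfl⟩ := Finset.mem_image.mp hk
    exact Finset.card_pos.mpr ⟨σ, by simp⟩
  intro χ g hχ hg
  obtain ⟨m, ρ, rfl⟩ := hχ
  obtain ⟨ε, hε, -, hpow, -⟩ := Char.exists_eigenvalues ρ g
  have hj : ∀ i, ∃ j : ℕ, ζ ^ j = ε i := fun i => by
    obtain ⟨d, hd⟩ := orderOf_dvd_natCard g
    obtain ⟨j, -, hj⟩ := hζ.eq_pow_of_pow_eq_one (ξ := ε i)
      (by rw [hN, hd, pow_mul, hε i, one_pow])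
    exact ⟨j, hj⟩
  choose j hj using hj
  let x : K := ∑ i, z ^ j i
  have hxv : ∀ k : ℕ, ρ.character (g ^ k) = ∑ i, (ζ ^ k) ^ j i := fun k => by
    rw [hpow]
    exact Finset.sum_congr rfl fun i _ => by rw [← hj i, ← pow_mul, ← pow_mul, Nat.mul_comm]
  have hσ : ∀ σ : K →ₐ[ℚ] ℂ, σ x = ρ.character (g ^ kk σ) := fun σ => by
    rw [hxv]; simp [x, hke σ]
  have hx0 : x ≠ 0 := fun h => hg (by
    have h2 := congrArg K.val h
    have h1 := hxv 1
    simp only [pow_one] at h1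
    rw [h1]
    simpa [x, z] using h2)
  have hxi : IsIntegral ℤ x := by
    refine IsIntegral.sum _ fun i _ => IsIntegral.pow (IsIntegral.of_pow hN0 ?_) _
    rw [hz.pow_eq_one]; exact isIntegral_one
  obtain ⟨c, hc⟩ := IsIntegrallyClosed.isIntegral_iff.mp (Algebra.isIntegral_norm ℚ hxi)
  have hprod := Algebra.norm_eq_prod_embeddings ℚ ℂ x
  have hc0 : c ≠ 0 := fun h => by
    rw [h, map_zero, eq_comm, Algebra.norm_eq_zero_iff] at hc
    exact hx0 hc
  have h1 : 1 ≤ ∏ σ : K →ₐ[ℚ] ℂ, ‖ρ.character (g ^ kk σ)‖ ^ 2 := by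
    rw [Finset.prod_pow]
    refine one_le_pow₀ ?_
    rw [← norm_prod, ← Finset.prod_congr rfl (fun σ _ => hσ σ), ← hprod, ← hc]
    simp only [eq_intCast, map_intCast, Complex.norm_intCast]
    exact_mod_cast Int.one_le_abs hc0
  have h2 := card_le_sum_of_one_le_prod (Finset.univ : Finset (K →ₐ[ℚ] ℂ))
    (fun σ => ‖ρ.character (g ^ kk σ)‖ ^ 2) (fun σ _ => ?_) h1
  · have e1 : ∑ k ∈ Finset.univ.image kk,
        (((Finset.univ.filter fun σ => kk σ = k).card : ℕ) : ℝ) * ‖ρ.character (g ^ k)‖ ^ 2 =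
        ∑ σ : K →ₐ[ℚ] ℂ, ‖ρ.character (g ^ kk σ)‖ ^ 2 := by
      rw [Finset.sum_comp (fun k => ‖ρ.character (g ^ k)‖ ^ 2) kk]
      simp [nsmul_eq_mul]
    rw [e1, ← Finset.card_eq_sum_card_image kk]
    exact h2
  · have : ρ.character (g ^ kk σ) ≠ 0 := by
      rw [← hσ σ]; exact (map_ne_zero σ).mpr hx0
    positivity

omit [Finite G] in
/-- The zeros of a character are closed under roots of exponent prime to the group order. -/
theorem eq_zero_of_pow_eq_zero [Finite G] {χ : G → ℂ} (hχ : Cfsg.IsCharacter G χ) {k : ℕ}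
    (hk : (Nat.card G).Coprime k) {g : G} (h : χ (g ^ k) = 0) : χ g = 0 := by
  classical
  obtain ⟨r, hr⟩ : ∃ r : ℕ, (g ^ k) ^ r = g :=
    exists_pow_eq_self_of_coprime (hk.coprime_dvd_left (orderOf_dvd_natCard g)).symm
  obtain ⟨m, ρ, rfl⟩ := hχ
  obtain ⟨ε, hε, -, hpow, -⟩ := Char.exists_eigenvalues ρ g
  set N := Nat.card G with hN
  have hN0 : 0 < N := Nat.card_pos
  have hζ : IsPrimitiveRoot (Complex.exp (2 * Real.pi * Complex.I / N)) N :=
    Complex.isPrimitiveRoot_exp N hN0.ne'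
  haveI : NeZero N := ⟨hN0.ne'⟩
  obtain ⟨d, hd⟩ := orderOf_dvd_natCard g
  choose j hj using fun i => (hζ.eq_pow_of_pow_eq_one (ξ := ε i)
    (by rw [hN, hd, pow_mul, hε i, one_pow]))
  set ζ := Complex.exp (2 * Real.pi * Complex.I / N) with hzdef
  let P : Polynomial ℚ := ∑ i, Polynomial.X ^ (j i)
  have hP : ∀ e : ℕ, Polynomial.aeval (ζ ^ e) P = ρ.character (g ^ e) := fun e => by
    rw [hpow]
    simp only [P, map_sum, map_pow, Polynomial.aeval_X]
    exact Finset.sum_congr rfl fun i _ => by rw [← (hj i).2, ← pow_mul, ← pow_mul, Nat.mul_comm]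
  have hmin : minpoly ℚ (ζ ^ k) = minpoly ℚ ζ := by
    rw [← Polynomial.cyclotomic_eq_minpoly_rat (hζ.pow_of_coprime k hk.symm) hN0,
      ← Polynomial.cyclotomic_eq_minpoly_rat hζ hN0]
  have h1 : minpoly ℚ ζ ∣ P := by
    rw [← hmin]; exact minpoly.dvd ℚ _ (by rw [hP k]; exact h)
  have h2 := Polynomial.aeval_eq_zero_of_dvd_aeval_eq_zero h1 (minpoly.aeval ℚ ζ)
  have h3 := hP 1
  rw [pow_one, pow_one] at h3
  rw [← h3]; exact h2

end CfsgLib.CharAction
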