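import Cfsg.Agent.Lib.CharAction.PGroup
import Cfsg.Agent.Lib.Char.Gallagher
import Cfsg.Agent.Lib.Char.CliffordCorr
import Cfsg.Agent.Lib.Char.Extension
import Cfsg.Agent.Lib.Char.DegreeRatio
import Cfsg.Agent.Lib.CharDegree.Basic
import Mathlib.Algebra.Field.ZMod

/-!
# The relative Glauberman correspondence

A `p`-group `A` acts on `K`, `Q` is a normal invariant Sylow `p`-subgroup of `K` and `C` is the
preimage of the fixed points of `A` in `K ⧸ Q`. The invariant irreducible characters of `K` and of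
`C` correspond by the multiplicity being prime to `p`.
-/

namespace CfsgLib.RelGlauberman

open CfsgLib.Char CfsgLib.CharAction
open scoped ComplexConjugate
open Module

set_option linter.unusedSectionVars false

section Actions

variable {A X : Type*} [Group A] [Group X] [MulDistribMulAction A X]

/-- The action on a stable subgroup. -/
@[instance_reducible]
def subAct (H : Subgroup X) (h : ∀ (a : A), ∀ x ∈ H, a • x ∈ H) : MulDistribMulAction A H where
  smul a x := ⟨a • (x : X), h a x x.2⟩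
  one_smul x := Subtype.ext (one_smul A (x : X))
  mul_smul a b x := Subtype.ext (mul_smul a b (x : X))
  smul_mul a x y := Subtype.ext (smul_mul' a (x : X) (y : X))
  smul_one a := Subtype.ext (smul_one a)

/-- The action on the quotient by a stable normal subgroup. -/
@[instance_reducible]
def quotAct (H : Subgroup X) [H.Normal] (h : ∀ (a : A), ∀ x ∈ H, a • x ∈ H) :
    MulDistribMulAction A (X ⧸ H) where
  smul a := QuotientGroup.map H H (MulDistribMulAction.toMonoidHom X a) (fun x hx => h a x hx)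
  one_smul q := QuotientGroup.induction_on q fun x =>
    show ((((1 : A) • x : X)) : X ⧸ H) = x by rw [one_smul]
  mul_smul a b q := QuotientGroup.induction_on q fun x =>
    show (((a * b) • x : X) : X ⧸ H) = ((a • b • x : X) : X ⧸ H) by rw [mul_smul]
  smul_mul a q r := map_mul _ q r
  smul_one a := map_one _

end Actions

/-- The data of the relative Glauberman correspondence. -/
structure Setting (p : ℕ) {A K C : Type*} [Group A] [Group K] [Group C] [MulDistribMulAction A K]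
    [MulDistribMulAction A C] (Q : Subgroup K) (ι : C →* K) : Prop where
  inj : Function.Injective ι
  equiv : ∀ (a : A) (c : C), ι (a • c) = a • ι c
  isP : ∃ n, Nat.card Q = p ^ n
  not_dvd : ¬ p ∣ Q.index
  stable : ∀ (a : A), ∀ x ∈ Q, a • x ∈ Q
  range : ∀ k, k ∈ ι.range ↔ ∀ a : A, (a • k) * k⁻¹ ∈ Q

/-- The hom on the quotients. -/
def qMap {K C : Type*} [Group K] [Group C] (Q : Subgroup K) [Q.Normal] (ι : C →* K) :
    C ⧸ Q.comap ι →* K ⧸ Q := QuotientGroup.map _ Q ι le_rfl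

variable {p : ℕ} [Fact p.Prime]

section Constituents

variable {X : Type*} [Group X] [Fintype X] {N : Subgroup X} [Fintype N] (hN : N.Normal)

/-- Constituents of the restriction to a normal subgroup are conjugate. -/
theorem constituent_iff {χ : X → ℂ} (hχ : Cfsg.IsIrrCharacter X χ) {θ : N → ℂ}
    (hθ : Cfsg.IsIrrCharacter N θ) (hc : Cfsg.classInner (fun n : N => χ n) θ ≠ 0) {φ : N → ℂ}
    (hφ : Cfsg.IsIrrCharacter N φ) :
    Cfsg.classInner (fun n : N => χ n) φ ≠ 0 ↔ ∃ g : X, φ = Clifford.conjFn hN θ g := by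
  classical
  constructor
  · intro h
    by_contra hno
    push Not at hno
    refine h ?_
    rw [Clifford.restrict_eq_smul_orbit_sum hN hχ hθ hc, classInner_smul_left,
      classInner_sum_left, Finset.sum_eq_zero, mul_zero]
    intro ψ hψ
    obtain ⟨g, -, rfl⟩ := Finset.mem_image.mp hψ
    exact classInner_irr_of_ne (χ := ⟨_, Clifford.isIrrCharacter_conjFn hN hθ g⟩) (ψ := ⟨φ, hφ⟩)
      fun e => hno g (congrArg Subtype.val e).symm
  · rintro ⟨g, rfl⟩
    have e : Cfsg.classInner (fun n : N => χ n) (Clifford.conjFn hN θ g) =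
        Cfsg.classInner (fun n : N => χ n) θ := by
      simp only [Cfsg.classInner]
      congr 1
      refine Fintype.sum_equiv ((@MulAut.conjNormal X _ N hN) g).toEquiv _ _ fun n => ?_
      change χ n * conj (Clifford.conjFn hN θ g n) = χ (g * n * g⁻¹) * conj (θ _)
      rw [IsIrr.isClassFunction hχ n g]
      rfl
    rwa [e]

theorem classInner_comp {Y : Type*} [Group Y] [Fintype Y] (e : Y ≃* N) (φ ψ : N → ℂ) :
    Cfsg.classInner (fun y => φ (e y)) (fun y => ψ (e y)) = Cfsg.classInner φ ψ :=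
  Clifford.classInner_comp_equiv e φ ψ

end Constituents

section Fixed

variable {A X : Type*} [Group A] [Finite A] [Group X] [Fintype X] [MulDistribMulAction A X]
  (hA : IsPGroup p A) {N : Subgroup X} [Fintype N] (hN : N.Normal)
  (hst : ∀ (a : A), ∀ x ∈ N, a • x ∈ N)

/-- The pullback of a function on a stable subgroup along the action. -/
def smulFn (θ : N → ℂ) (a : A) : N → ℂ := fun n => θ ⟨a • (n : X), hst a n n.2⟩

/-- A function on a stable subgroup fixed by the action. -/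
def FixedFn (θ : N → ℂ) : Prop := ∀ (a : A) (n : N), θ ⟨a • (n : X), hst a n n.2⟩ = θ n

theorem classInner_smulFn {χ : X → ℂ} (hχ : IsInv A χ) (θ : N → ℂ) (a : A) :
    Cfsg.classInner (fun n : N => χ n) (smulFn hst θ a) =
      Cfsg.classInner (fun n : N => χ n) θ := by
  let := subAct N hst
  simp only [Cfsg.classInner]
  congr 1
  refine Fintype.sum_equiv (MulAction.toPerm a) _ _ fun n => ?_
  change χ n * conj (θ (a • n)) = χ (a • (n : X)) * conj (θ (a • n))
  rw [hχ a (n : X)]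

include hA hN in
/-- An invariant character has a fixed constituent on an invariant normal subgroup whose index is
prime to `p`. -/
theorem exists_fixed_constituent (hidx : ¬ p ∣ N.index) (χ : Cfsg.IrrCharacter X)
    (hχ : IsInv A (χ : X → ℂ)) :
    ∃ θ : Cfsg.IrrCharacter N, FixedFn hst (θ : N → ℂ) ∧
      Cfsg.classInner (fun n : N => (χ : X → ℂ) n) (θ : N → ℂ) ≠ 0 := by
  classical
  have := hN
  obtain ⟨θ₀, hθ₀⟩ := Clifford.exists_constituent
    (IsChar.isClassFunction (IsChar.restrict N (IsIrr.isCharacter χ.2)))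
    (fun h => IsIrr.apply_one_ne_zero χ.2 (by simpa using congrFun h 1))
  let := subAct N hst
  let : MulAction A (Cfsg.IrrCharacter N) := charAction
  let S : SubMulAction A (Cfsg.IrrCharacter N) :=
    { carrier := {θ | Cfsg.classInner (fun n : N => (χ : X → ℂ) n) (θ : N → ℂ) ≠ 0}
      smul_mem' := fun a θ hθ => by
        show Cfsg.classInner _ (smulFn hst (θ : N → ℂ) a⁻¹) ≠ 0
        rw [classInner_smulFn hst hχ]
        exact hθ }
  have hcard : Nat.card S = (Clifford.inertia hN (θ₀ : N → ℂ)).index := by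
    rw [← Clifford.card_orbit hN (θ₀ : N → ℂ), ← Nat.card_eq_finsetCard]
    refine Nat.card_congr
      { toFun := fun θ => ⟨(θ.1 : N → ℂ), ?_⟩
        invFun := fun φ => ⟨⟨φ.1, ?_⟩, ?_⟩
        left_inv := fun θ => rfl
        right_inv := fun φ => rfl }
    · obtain ⟨g, hg⟩ := (constituent_iff hN χ.2 θ₀.2 hθ₀ θ.1.2).mp θ.2
      exact (@Finset.mem_image _ _ (_) _ _ _).mpr ⟨g, Finset.mem_univ _, hg.symm⟩
    · obtain ⟨g, -, hg⟩ := (@Finset.mem_image _ _ (_) _ _ _).mp φ.2
      exact hg ▸ Clifford.isIrrCharacter_conjFn hN θ₀.2 g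
    · obtain ⟨g, -, hg⟩ := (@Finset.mem_image _ _ (_) _ _ _).mp φ.2
      exact (constituent_iff hN χ.2 θ₀.2 hθ₀ (hg ▸ Clifford.isIrrCharacter_conjFn hN θ₀.2 g)).mpr
        ⟨g, hg.symm⟩
  have hnd : ¬ p ∣ Nat.card S := fun h => hidx (by
    rw [hcard] at h
    exact h.trans (Subgroup.index_dvd_of_le (Clifford.le_inertia hN (IsIrr.isClassFunction θ₀.2))))
  obtain ⟨θ, hθ⟩ := hA.nonempty_fixed_point_of_prime_not_dvd_card S hnd
  refine ⟨θ.1, fun a n => ?_, θ.2⟩
  have h1 := congrFun (congrArg Subtype.val (congrArg Subtype.val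
    (MulAction.mem_fixedPoints.mp hθ a⁻¹))) n
  have h1' : (θ.1 : N → ℂ) (a⁻¹⁻¹ • n) = (θ.1 : N → ℂ) n := h1
  rwa [inv_inv] at h1'

end Fixed

section Main

variable {A K C : Type*} [Group A] [Finite A] [Group K] [Fintype K] [Group C] [Fintype C]
  [MulDistribMulAction A K] [MulDistribMulAction A C] {Q : Subgroup K} [hQn : Q.Normal] [Fintype Q]
  {ι : C →* K} (hA : IsPGroup p A) (S : Setting p (A := A) Q ι)

include S

omit [Finite A] [Fintype C] [Fintype Q] [Fact p.Prime] [Fintype K] in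
theorem le_range : Q ≤ ι.range := fun q hq =>
  (S.range q).mpr fun a => mul_mem (S.stable a q hq) (inv_mem hq)

omit [Finite A] [Fintype C] [Fintype Q] [Fact p.Prime] [Fintype K] in
theorem comap_stable : ∀ (a : A), ∀ c ∈ Q.comap ι, a • c ∈ Q.comap ι := fun a c hc => by
  rw [Subgroup.mem_comap, S.equiv]
  exact S.stable a _ hc

omit [Finite A] [Fintype C] [Fintype Q] [Fact p.Prime] [Fintype K] in
theorem not_dvd_comap_index : ¬ p ∣ (Q.comap ι).index := fun h => S.not_dvd (by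
  rw [Subgroup.index_comap] at h
  rw [← Subgroup.relIndex_mul_index (le_range S)]
  exact h.mul_right _)

/-- The isomorphism between the two copies of `Q`. -/
noncomputable def qEquiv : Q.comap ι ≃* Q :=
  MulEquiv.ofBijective ((ι.comp (Q.comap ι).subtype).codRestrict Q fun x => x.2)
    ⟨fun x y h => Subtype.ext (S.inj (congrArg Subtype.val h)), fun q => by
      obtain ⟨c, hc⟩ := le_range S q.2
      exact ⟨⟨c, show ι c ∈ Q from hc ▸ q.2⟩, Subtype.ext hc⟩⟩

omit [Finite A] [Fintype C] [Fintype Q] [Fact p.Prime] [Fintype K] in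
theorem coe_qEquiv (x : Q.comap ι) : ((qEquiv S x : Q) : K) = ι x := rfl

/-- A function on `Q` seen on the subgroup `Q.comap ι` of `C`. -/
noncomputable def down (θ : Q → ℂ) : Q.comap ι → ℂ := fun x => θ (qEquiv S x)

omit [Finite A] [Fintype Q] [Fact p.Prime] in
theorem isIrr_down {θ : Q → ℂ} (hθ : Cfsg.IsIrrCharacter Q θ) :
    Cfsg.IsIrrCharacter (Q.comap ι) (down S θ) :=
  IsIrr.comp_surjective (qEquiv S).toMonoidHom (qEquiv S).surjective hθ

omit [Finite A] [Fact p.Prime] in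
theorem classInner_down [Fintype (Q.comap ι)] (χ : K → ℂ) (θ : Q → ℂ) :
    Cfsg.classInner (fun x : Q.comap ι => χ (ι x)) (down S θ) =
      Cfsg.classInner (fun q : Q => χ q) θ :=
  classInner_comp (qEquiv S) (fun q : Q => χ q) θ

omit [Finite A] [Fintype C] [Fintype Q] [Fact p.Prime] [Fintype K] in
theorem fixed_down {θ : Q → ℂ} (hθ : FixedFn S.stable θ) :
    FixedFn (comap_stable S) (down S θ) := fun a x => by
  refine Eq.trans (congrArg θ (Subtype.ext ?_)) (hθ a (qEquiv S x))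
  show ι (a • (x : C)) = a • ι x
  rw [S.equiv]

omit [Finite A] [Fintype C] [Fintype Q] [Fact p.Prime] [Fintype K] in
theorem conjFn_down (θ : Q → ℂ) (c : C) :
    Clifford.conjFn (hQn.comap ι) (down S θ) c = down S (Clifford.conjFn hQn θ (ι c)) :=
  funext fun x => congrArg θ (Subtype.ext (by simp [coe_qEquiv]))

omit [Finite A] [Fintype C] [Fintype Q] [Fact p.Prime] [Fintype K] in
theorem qMap_injective : Function.Injective (qMap Q ι) := by
  rw [← MonoidHom.ker_eq_bot_iff]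
  refine (Subgroup.eq_bot_iff_forall _).mpr fun x hx => ?_
  induction x using QuotientGroup.induction_on with
  | H c =>
    rw [MonoidHom.mem_ker] at hx
    exact (QuotientGroup.eq_one_iff c).mpr ((QuotientGroup.eq_one_iff (ι c)).mp hx)

omit [Finite A] [Fintype C] [Fintype Q] [Fact p.Prime] [Fintype K] in
theorem qMap_range :
    letI := quotAct Q S.stable
    ∀ x : K ⧸ Q, x ∈ (qMap Q ι).range ↔ ∀ a : A, a • x = x := by
  let := quotAct Q S.stable
  intro x
  induction x using QuotientGroup.induction_on with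
  | H k =>
    constructor
    · rintro ⟨y, hy⟩ a
      induction y using QuotientGroup.induction_on with
      | H c =>
        rw [← hy]
        refine QuotientGroup.eq_iff_div_mem.mpr ?_
        rw [div_eq_mul_inv]
        exact (S.range (ι c)).mp ⟨c, rfl⟩ a
    · intro h
      obtain ⟨c, hc⟩ := (S.range k).mpr fun a => by
        have := QuotientGroup.eq_iff_div_mem.mp (h a : ((a • k : K) : K ⧸ Q) = k)
        rwa [div_eq_mul_inv] at this
      exact ⟨c, show ((ι c : K) : K ⧸ Q) = k by rw [hc]⟩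

include hA in
/-- A coset of an `A`-stable union of cosets of size prime to `p` meets `C`. -/
theorem exists_conj_in_range {θ θ' : Q → ℂ} (hθ : Cfsg.IsIrrCharacter Q θ)
    (hf : FixedFn S.stable θ) (hf' : FixedFn S.stable θ') {g : K}
    (hg : Clifford.conjFn hQn θ g = θ') : ∃ c : C, Clifford.conjFn hQn θ (ι c) = θ' := by
  classical
  let := quotAct Q S.stable
  let T := Clifford.inertia hQn θ
  have hQT : Q ≤ T := Clifford.le_inertia hQn (IsIrr.isClassFunction hθ)
  have hwd : ∀ x y : K, (x : K ⧸ Q) = y →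
      Clifford.conjFn hQn θ x = Clifford.conjFn hQn θ y := fun x y h => by
    have h1 : x * y⁻¹ ∈ Q := by
      rw [← div_eq_mul_inv]
      exact QuotientGroup.eq_iff_div_mem.mp h
    conv_lhs => rw [show x = x * y⁻¹ * y by group]
    rw [Clifford.conjFn_mul, Clifford.mem_inertia.mp (hQT h1)]
  let U : SubMulAction A (K ⧸ Q) :=
    { carrier := {x | ∃ k : K, (k : K ⧸ Q) = x ∧ Clifford.conjFn hQn θ k = θ'}
      smul_mem' := fun a x hx => by
        obtain ⟨k, rfl, hk⟩ := hx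
        refine ⟨a • k, rfl, funext fun q => ?_⟩
        have h1 := congrFun hk ⟨a⁻¹ • (q : K), S.stable a⁻¹ q q.2⟩
        have h2 := hf a ⟨k * (a⁻¹ • (q : K)) * k⁻¹, hQn.conj_mem _ (S.stable a⁻¹ q q.2) k⟩
        rw [Clifford.conjFn_apply] at h1
        rw [Clifford.conjFn_apply]
        refine Eq.trans (congrArg θ (Subtype.ext ?_)) (h2.trans (h1.trans (hf' a⁻¹ q)))
        show (a • k) * (q : K) * (a • k)⁻¹ = a • (k * (a⁻¹ • (q : K)) * k⁻¹)
        rw [smul_mul', smul_mul', smul_inv', smul_inv_smul] }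
  have hcard : Nat.card U = Nat.card (T.map (QuotientGroup.mk' Q)) := by
    refine Nat.card_congr (Equiv.subtypeEquiv (Equiv.mulRight (g : K ⧸ Q)⁻¹) fun x => ?_)
    constructor
    · rintro ⟨k, rfl, hk⟩
      refine ⟨k * g⁻¹, Clifford.mem_inertia.mpr ?_, by simp⟩
      rw [Clifford.conjFn_mul, hk, ← hg, ← Clifford.conjFn_mul, mul_inv_cancel, Clifford.conjFn_one]
    · rintro ⟨t, ht, htx⟩
      refine ⟨t * g, ?_, by rw [Clifford.conjFn_mul, Clifford.mem_inertia.mp ht, hg]⟩
      simp only [QuotientGroup.mk'_apply, Equiv.coe_mulRight] at htx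
      rw [QuotientGroup.mk_mul, htx, inv_mul_cancel_right]
  have hnd : ¬ p ∣ Nat.card U := fun h => S.not_dvd (by
    rw [hcard] at h
    exact h.trans (Subgroup.card_subgroup_dvd_card _))
  obtain ⟨⟨x, k, hkx, hk⟩, hx⟩ := hA.nonempty_fixed_point_of_prime_not_dvd_card U hnd
  obtain ⟨y, hy⟩ := (qMap_range S x).mpr fun a =>
    congrArg Subtype.val (MulAction.mem_fixedPoints.mp hx a)
  induction y using QuotientGroup.induction_on with
  | H c => exact ⟨c, (hwd (ι c) k (hy.trans hkx.symm)).trans hk⟩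

end Main

section Core

variable {A K C : Type*} [Group A] [Finite A] [Group K] [Fintype K] [Group C] [Fintype C]
  [MulDistribMulAction A K] [MulDistribMulAction A C] {Q : Subgroup K} [hQn : Q.Normal] [Fintype Q]
  {ι : C →* K} (hA : IsPGroup p A) (S : Setting p (A := A) Q ι)

omit [Fact p.Prime] in
/-- `m ≡ ±1` excludes divisibility. -/
theorem not_dvd_of_modEq [hp : Fact p.Prime] {m : ℕ}
    (h : (m : ZMod p) = 1 ∨ (m : ZMod p) = -1) : ¬ p ∣ m := fun hd => by
  rw [(ZMod.natCast_eq_zero_iff m p).mpr hd] at h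
  rcases h with h | h
  · exact zero_ne_one h
  · exact neg_ne_zero.mpr one_ne_zero h.symm

include S in
/-- A constituent of a restriction to `C` lying over `θ` comes from a character over `θ`. -/
theorem over_of_mult [Fintype (Q.comap ι)] {χ : Cfsg.IrrCharacter K} {ξ : Cfsg.IrrCharacter C}
    (h : mult ι χ ξ ≠ 0) {θ : Q → ℂ} (hθ : Cfsg.IsIrrCharacter Q θ)
    (hc : Cfsg.classInner (fun x : Q.comap ι => (ξ : C → ℂ) x) (down S θ) ≠ 0) :
    Cfsg.classInner (fun q : Q => (χ : K → ℂ) q) θ ≠ 0 := by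
  classical
  have := Fintype.ofFinite (Cfsg.IrrCharacter C)
  have hnat : ∀ γ : Cfsg.IrrCharacter C, ∃ b : ℕ,
      Cfsg.classInner (fun x : Q.comap ι => (γ : C → ℂ) x) (down S θ) = b := fun γ =>
    IsChar.classInner_eq_natCast (IsChar.restrict _ (IsIrr.isCharacter γ.2))
      (IsIrr.isCharacter (isIrr_down S hθ))
  choose b hb using hnat
  have hres : (fun x : Q.comap ι => (χ : K → ℂ) (ι x)) =
      ∑ γ : Cfsg.IrrCharacter C, (mult ι χ γ : ℂ) • fun x : Q.comap ι => (γ : C → ℂ) x :=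
    funext fun x => by simp [apply_eq_sum_mult ι χ, Finset.sum_apply]
  intro h0
  rw [← classInner_down S, hres, classInner_sum_left] at h0
  simp only [classInner_smul_left, hb] at h0
  have h1 : ∑ γ, mult ι χ γ * b γ = 0 := by exact_mod_cast h0
  refine hc ?_
  rw [hb, (mul_eq_zero.mp (Finset.sum_eq_zero_iff.mp h1 ξ (Finset.mem_univ _))).resolve_left h,
    Nat.cast_zero]

include hA S in
/-- The correspondence over a fixed and invariant character of `Q`. -/
theorem core [Fintype (Q.comap ι)] (θ : Cfsg.IrrCharacter Q) (hf : FixedFn S.stable (θ : Q → ℂ))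
    (hK : ∀ k, Clifford.conjFn hQn (θ : Q → ℂ) k = (θ : Q → ℂ)) :
    (∀ ψ : Cfsg.IrrCharacter K, IsInv A (ψ : K → ℂ) →
      Cfsg.classInner (fun q : Q => (ψ : K → ℂ) q) (θ : Q → ℂ) ≠ 0 →
      ∃ η : Cfsg.IrrCharacter C,
        Cfsg.classInner (fun x : Q.comap ι => (η : C → ℂ) x) (down S (θ : Q → ℂ)) ≠ 0 ∧
        (∀ γ, γ ≠ η → p ∣ mult ι ψ γ) ∧
        ((mult ι ψ η : ZMod p) = 1 ∨ (mult ι ψ η : ZMod p) = -1) ∧
        ∃ a b : ℕ, (ψ : K → ℂ) 1 = a * (θ : Q → ℂ) 1 ∧ (η : C → ℂ) 1 = b * (θ : Q → ℂ) 1 ∧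
          (a : ZMod p) = (mult ι ψ η : ZMod p) * b) ∧
    (∀ ψ ψ' : Cfsg.IrrCharacter K, IsInv A (ψ : K → ℂ) → IsInv A (ψ' : K → ℂ) →
      Cfsg.classInner (fun q : Q => (ψ : K → ℂ) q) (θ : Q → ℂ) ≠ 0 →
      Cfsg.classInner (fun q : Q => (ψ' : K → ℂ) q) (θ : Q → ℂ) ≠ 0 →
      ∀ η, ¬ p ∣ mult ι ψ η → ¬ p ∣ mult ι ψ' η → ψ = ψ') ∧
    (∀ η : Cfsg.IrrCharacter C,
      Cfsg.classInner (fun x : Q.comap ι => (η : C → ℂ) x) (down S (θ : Q → ℂ)) ≠ 0 →
      ∃ ψ : Cfsg.IrrCharacter K, IsInv A (ψ : K → ℂ) ∧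
        Cfsg.classInner (fun q : Q => (ψ : K → ℂ) q) (θ : Q → ℂ) ≠ 0 ∧ ¬ p ∣ mult ι ψ η) := by
  classical
  have hp : p.Prime := Fact.out
  obtain ⟨m, σ, hσ, hσc⟩ := θ.2
  have := hσ
  -- the canonical extension
  obtain ⟨n, hn⟩ := S.isP
  have hcopP : ∀ i : ℕ, (p ^ i).Coprime Q.index := fun i =>
    (hp.coprime_iff_not_dvd.mpr S.not_dvd).pow_left i
  have ho : orderOf (CharExt.detHom σ) ∣ p ^ n := hn ▸ orderOf_dvd_of_pow_eq_one (CharExt.hom_pow_card _)
  have hd : finrank ℂ (Fin m → ℂ) ∣ p ^ n := hn ▸ CharIntegral.finrank_dvd_card σ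
  obtain ⟨ρ, hρ, hρo⟩ := CharExt.exists_canonical_extension σ (fun g q => by
      have h := congrFun (hK g) q
      rw [← hσc] at h
      exact h)
    (((hcopP n).coprime_dvd_left ho).mul_left ((hcopP n).coprime_dvd_left hd))
  set θh := ρ.character with hθh
  have hres : (fun q : Q => θh q) = (θ : Q → ℂ) := funext fun q => by
    rw [← hσc, hθh]
    show LinearMap.trace ℂ _ (ρ q) = LinearMap.trace ℂ _ (σ q)
    rw [hρ]
  have hch : Cfsg.IsCharacter K θh := isCharacter_rep ρ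
  have hirr : Cfsg.IsIrrCharacter Q fun q : Q => θh q := hres ▸ θ.2
  have hθinv : IsInv A θh := fun a g => by
    let τ : Representation ℂ K (Fin m → ℂ) := ρ.comp (MulDistribMulAction.toMonoidHom K a)
    refine congrFun (Gallagher.eq_of_extensions ρ τ hirr (fun q => ?_)
      (hρo ▸ (hcopP n).coprime_dvd_left ho) ?_ ((hcopP n).coprime_dvd_left hd)) g
    · show θh (a • (q : K)) = θh q
      have h1 := congrFun hres ⟨a • (q : K), S.stable a q q.2⟩
      have h2 := congrFun hres q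
      rw [h1, h2]
      exact hf a q
    · refine Nat.Coprime.coprime_dvd_left ?_ (hρo ▸ (hcopP n).coprime_dvd_left ho)
      refine orderOf_dvd_of_pow_eq_one (MonoidHom.ext fun g => ?_)
      have h1 := DFunLike.congr_fun (pow_orderOf_eq_one (CharExt.detHom ρ)) (a • g)
      rw [MonoidHom.pow_apply, MonoidHom.one_apply] at h1 ⊢
      have e : CharExt.detHom τ g = CharExt.detHom ρ (a • g) := Units.ext rfl
      rwa [e]
  set θC : C → ℂ := fun c => θh (ι c) with hθC
  have hchC : Cfsg.IsCharacter C θC := IsChar.comp ι hch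
  have hresC : (fun x : Q.comap ι => θC x) = down S (θ : Q → ℂ) := funext fun x => by
    rw [down, ← hres]
    rfl
  have hirrC : Cfsg.IsIrrCharacter (Q.comap ι) fun x : Q.comap ι => θC x :=
    hresC ▸ isIrr_down S θ.2
  have := Fintype.ofFinite (K ⧸ Q)
  have := Fintype.ofFinite (C ⧸ Q.comap ι)
  have := Fintype.ofFinite (Cfsg.IrrCharacter C)
  have := Fintype.ofFinite (Cfsg.IrrCharacter (C ⧸ Q.comap ι))
  let := quotAct Q S.stable
  have hq : ¬ p ∣ Nat.card (K ⧸ Q) := S.not_dvd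
  let η₀ : Cfsg.IrrCharacter (C ⧸ Q.comap ι) → Cfsg.IrrCharacter C := fun γ =>
    ⟨_, Gallagher.isIrr_twistBy hchC hirrC γ⟩
  have hη₀ : Function.Injective η₀ := fun γ δ h =>
    Gallagher.twistBy_injective hchC hirrC (congrArg Subtype.val h)
  -- the multiplicities
  have key : ∀ (ψ : Cfsg.IrrCharacter K) (β : Cfsg.IrrCharacter (K ⧸ Q)),
      (ψ : K → ℂ) = Gallagher.twistBy θh (β : K ⧸ Q → ℂ) →
      (∀ γ, mult ι ψ (η₀ γ) = mult (qMap Q ι) β γ) ∧
        ∀ η, mult ι ψ η ≠ 0 → ∃ γ, η₀ γ = η := by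
    intro ψ β hψ
    have hdec : (fun c => (ψ : K → ℂ) (ι c)) =
        ∑ γ, (mult (qMap Q ι) β γ : ℂ) • (η₀ γ : C → ℂ) := funext fun c => by
      rw [Finset.sum_apply, hψ]
      show (β : K ⧸ Q → ℂ) (qMap Q ι (c : C ⧸ Q.comap ι)) * θC c = _
      rw [apply_eq_sum_mult, Finset.sum_mul]
      refine Finset.sum_congr rfl fun γ _ => ?_
      show _ = (mult (qMap Q ι) β γ : ℂ) * Gallagher.twistBy θC (γ : C ⧸ Q.comap ι → ℂ) c
      rw [Gallagher.twistBy_apply, mul_assoc]
      rfl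
    have hm : ∀ η, (mult ι ψ η : ℂ) = ∑ γ, (mult (qMap Q ι) β γ : ℂ) *
        (if η₀ γ = η then 1 else 0) := fun η => by
      rw [← classInner_eq_mult, hdec, classInner_sum_left]
      exact Finset.sum_congr rfl fun γ _ => by rw [classInner_smul_left, classInner_irr]
    refine ⟨fun γ => ?_, fun η hη => ?_⟩
    · apply Nat.cast_injective (R := ℂ)
      rw [hm, Finset.sum_eq_single γ (fun δ _ hδ => by rw [if_neg fun h => hδ (hη₀ h), mul_zero])
        (by simp), if_pos rfl, mul_one]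
    · by_contra hno
      push Not at hno
      refine hη (Nat.cast_injective (R := ℂ) ?_)
      rw [hm, Finset.sum_eq_zero fun γ _ => by rw [if_neg (hno γ), mul_zero], Nat.cast_zero]
  have hover : ∀ ψ : Cfsg.IrrCharacter K,
      Cfsg.classInner (fun q : Q => (ψ : K → ℂ) q) (θ : Q → ℂ) ≠ 0 → IsInv A (ψ : K → ℂ) →
      ∃ β : Cfsg.IrrCharacter (K ⧸ Q), IsInv A (β : K ⧸ Q → ℂ) ∧
        (ψ : K → ℂ) = Gallagher.twistBy θh (β : K ⧸ Q → ℂ) := by
    intro ψ hc hinv
    obtain ⟨β, hβ⟩ := Gallagher.exists_eq_twistBy hch hirr ψ (by rwa [hres])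
    refine ⟨β, fun a x => ?_, hβ⟩
    let β' : Cfsg.IrrCharacter (K ⧸ Q) := ⟨fun y => (β : K ⧸ Q → ℂ) (a • y),
      IsIrr.comp_surjective (MulDistribMulAction.toMonoidHom (K ⧸ Q) a)
        (MulAction.bijective a).2 β.2⟩
    have he : β' = β := Gallagher.twistBy_injective hch hirr (funext fun k => by
      have h2 := hinv a k
      rw [hβ, Gallagher.twistBy_apply, Gallagher.twistBy_apply, hθinv a k] at h2
      show Gallagher.twistBy θh (β' : K ⧸ Q → ℂ) k = Gallagher.twistBy θh (β : K ⧸ Q → ℂ) k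
      rw [Gallagher.twistBy_apply, Gallagher.twistBy_apply]
      exact h2)
    exact congrFun (congrArg Subtype.val he) x
  refine ⟨fun ψ hinv hc => ?_, fun ψ ψ' hi hi' hc hc' η h h' => ?_, fun η hc => ?_⟩
  · obtain ⟨β, hβi, hβ⟩ := hover ψ hc hinv
    obtain ⟨γ, hγ, hpm⟩ := exists_correspondent hA (qMap Q ι) (qMap_injective S) (qMap_range S) hq hβi
    obtain ⟨h1, h2⟩ := key ψ β hβ
    refine ⟨η₀ γ, ?_, fun η hη => ?_, ?_, ?_⟩
    · show Cfsg.classInner (fun x : Q.comap ι =>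
          Gallagher.twistBy θC (γ : C ⧸ Q.comap ι → ℂ) x) (down S (θ : Q → ℂ)) ≠ 0
      rw [← hresC, Gallagher.classInner_twistBy_restrict θC _ hirrC]
      exact IsIrr.apply_one_ne_zero γ.2
    · by_cases h0 : mult ι ψ η = 0
      · simp [h0]
      obtain ⟨δ, rfl⟩ := h2 η h0
      rw [h1]
      exact hγ δ fun e => hη (congrArg η₀ e)
    · rw [h1]
      rcases hpm with e | e
      · exact Or.inl (by simpa using (ZMod.intCast_eq_intCast_iff _ _ _).mpr e)
      · exact Or.inr (by simpa using (ZMod.intCast_eq_intCast_iff _ _ _).mpr e)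
    · obtain ⟨a, ha, -, -⟩ := degree_dvd_card β
      obtain ⟨b, hb, -, -⟩ := degree_dvd_card γ
      have hθ1 : θh 1 = (θ : Q → ℂ) 1 := congrFun hres 1
      refine ⟨a, b, ?_, ?_, ?_⟩
      · rw [hβ, Gallagher.twistBy_apply, map_one, ha, hθ1]
      · show Gallagher.twistBy θC (γ : C ⧸ Q.comap ι → ℂ) 1 = _
        rw [Gallagher.twistBy_apply, map_one, hb]
        show _ * θh (ι 1) = _
        rw [map_one, hθ1]
      · have hdeg := apply_eq_sum_mult (qMap Q ι) β 1
        rw [map_one, ha] at hdeg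
        choose d hd using fun δ : Cfsg.IrrCharacter (C ⧸ Q.comap ι) => degree_dvd_card δ
        simp only [fun δ => (hd δ).1] at hdeg
        have hn' : a = ∑ δ, mult (qMap Q ι) β δ * d δ := by exact_mod_cast hdeg
        have hbd : b = d γ := Nat.cast_injective (R := ℂ) (hb.symm.trans (hd γ).1)
        rw [h1, hn', hbd, Nat.cast_sum, Finset.sum_eq_single γ (fun δ _ hδ => by
          rw [Nat.cast_mul, (ZMod.natCast_eq_zero_iff _ p).mpr (hγ δ hδ), zero_mul]) (by simp),
          Nat.cast_mul]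
  · obtain ⟨β, hβi, hβ⟩ := hover ψ hc hi
    obtain ⟨β', hβi', hβ'⟩ := hover ψ' hc' hi'
    obtain ⟨γ, rfl⟩ := (key ψ β hβ).2 η fun e => h (e ▸ dvd_zero p)
    rw [(key ψ β hβ).1] at h
    rw [(key ψ' β' hβ').1] at h'
    have e := correspondent_injective hA (qMap Q ι) (qMap_injective S) (qMap_range S) hq hβi hβi' h h'
    exact irr_ext fun k => by rw [hβ, hβ', e]
  · obtain ⟨γ, hγ⟩ := Gallagher.exists_eq_twistBy hchC hirrC η (by rwa [hresC])
    obtain ⟨β, hβi, hm⟩ := correspondent_surjective hA (qMap Q ι) (qMap_injective S) (qMap_range S) hq γ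
    refine ⟨⟨_, Gallagher.isIrr_twistBy hch hirr β⟩, fun a k => ?_, ?_, ?_⟩
    · show Gallagher.twistBy θh _ (a • k) = Gallagher.twistBy θh _ k
      rw [Gallagher.twistBy_apply, Gallagher.twistBy_apply, hθinv a k]
      exact congrArg (· * _) (hβi a (k : K ⧸ Q))
    · rw [← hres, Gallagher.classInner_twistBy_restrict θh _ hirr]
      exact IsIrr.apply_one_ne_zero β.2
    · rw [show η = η₀ γ from Subtype.ext hγ, (key ⟨_, Gallagher.isIrr_twistBy hch hirr β⟩ β rfl).1]
      exact hm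

end Core

section Full

/-- Induction commutes with the action. -/
theorem indFun_smul_fn {A X : Type*} [Group A] [Group X] [Fintype X] [MulDistribMulAction A X]
    {H : Subgroup X} (hst : ∀ (a : A), ∀ x ∈ H, a • x ∈ H) (ψ : H → ℂ) (a : A) (g : X) :
    Cfsg.indFun H (fun h => ψ ⟨a • (h : X), hst a h h.2⟩) g = Cfsg.indFun H ψ (a • g) := by
  simp only [Cfsg.indFun]
  congr 1
  refine Fintype.sum_equiv (MulAction.toPerm a) _ _ fun x => ?_
  have hiff : x⁻¹ * g * x ∈ H ↔ (a • x)⁻¹ * (a • g) * (a • x) ∈ H := by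
    rw [← smul_inv', ← smul_mul', ← smul_mul']
    exact ⟨hst a _, fun h => by simpa using hst a⁻¹ _ h⟩
  change _ = Cfsg.extendByZero H ψ ((a • x)⁻¹ * (a • g) * (a • x))
  by_cases h : x⁻¹ * g * x ∈ H
  · rw [extendByZero_of_mem H _ h, extendByZero_of_mem H _ (hiff.mp h)]
    exact congrArg ψ (Subtype.ext (by simp [smul_mul', smul_inv']))
  · rw [extendByZero_of_notMem H _ h, extendByZero_of_notMem H _ (mt hiff.mpr h)]

/-- A character of a subgroup read on a normal subgroup inside it. -/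
theorem classInner_resTo_subgroupOf {X : Type*} [Group X] {N T : Subgroup X} [Fintype N]
    (h : N ≤ T) [Fintype (N.subgroupOf T)] (ψ : T → ℂ) (θ : N → ℂ) :
    Cfsg.classInner (fun x : N.subgroupOf T => ψ x)
        (fun x => θ (Subgroup.subgroupOfEquivOfLe h x)) =
      Cfsg.classInner (Clifford.resTo h ψ) θ :=
  Clifford.classInner_comp_equiv (Subgroup.subgroupOfEquivOfLe h) (Clifford.resTo h ψ) θ

variable {A K C : Type*} [Group A] [Finite A] [Group K] [Fintype K] [Group C] [Fintype C]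
  [MulDistribMulAction A K] [MulDistribMulAction A C] {Q : Subgroup K} [hQn : Q.Normal] [Fintype Q]
  {ι : C →* K} (hA : IsPGroup p A) (S : Setting p (A := A) Q ι)

include hA S in
/-- The correspondence over a fixed character of `Q`. -/
theorem over_fixed [Fintype (Q.comap ι)] (θ : Cfsg.IrrCharacter Q)
    (hf : FixedFn S.stable (θ : Q → ℂ)) :
    (∀ χ : Cfsg.IrrCharacter K, IsInv A (χ : K → ℂ) →
      Cfsg.classInner (fun q : Q => (χ : K → ℂ) q) (θ : Q → ℂ) ≠ 0 →
      ∃ ξ : Cfsg.IrrCharacter C, IsInv A (ξ : C → ℂ) ∧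
        (∀ γ : Cfsg.IrrCharacter C,
          Cfsg.classInner (fun x : Q.comap ι => (γ : C → ℂ) x) (down S (θ : Q → ℂ)) ≠ 0 →
          γ ≠ ξ → p ∣ mult ι χ γ) ∧
        ((mult ι χ ξ : ZMod p) = 1 ∨ (mult ι χ ξ : ZMod p) = -1) ∧
        ((Cfsg.charDegree (ξ : C → ℂ) : ZMod p) = Cfsg.charDegree (χ : K → ℂ) ∨
          (Cfsg.charDegree (ξ : C → ℂ) : ZMod p) = -Cfsg.charDegree (χ : K → ℂ))) ∧
    (∀ χ χ' : Cfsg.IrrCharacter K, IsInv A (χ : K → ℂ) → IsInv A (χ' : K → ℂ) →
      Cfsg.classInner (fun q : Q => (χ : K → ℂ) q) (θ : Q → ℂ) ≠ 0 →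
      Cfsg.classInner (fun q : Q => (χ' : K → ℂ) q) (θ : Q → ℂ) ≠ 0 →
      ∀ ξ : Cfsg.IrrCharacter C,
        Cfsg.classInner (fun x : Q.comap ι => (ξ : C → ℂ) x) (down S (θ : Q → ℂ)) ≠ 0 →
        ¬ p ∣ mult ι χ ξ → ¬ p ∣ mult ι χ' ξ → χ = χ') ∧
    (∀ ξ : Cfsg.IrrCharacter C,
      Cfsg.classInner (fun x : Q.comap ι => (ξ : C → ℂ) x) (down S (θ : Q → ℂ)) ≠ 0 →
      ∃ χ : Cfsg.IrrCharacter K, IsInv A (χ : K → ℂ) ∧ ¬ p ∣ mult ι χ ξ) := by
  classical
  have hp : p.Prime := Fact.out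
  set T := Clifford.inertia hQn (θ : Q → ℂ) with hTdef
  have hQT : Q ≤ T := Clifford.le_inertia hQn (IsIrr.isClassFunction θ.2)
  have hTmem : ∀ g, g ∈ T ↔ Clifford.conjFn hQn (θ : Q → ℂ) g = (θ : Q → ℂ) :=
    fun g => Clifford.mem_inertia
  have hTst : ∀ (a : A), ∀ x ∈ T, a • x ∈ T := fun a x hx => by
    refine (hTmem _).mpr (funext fun q => ?_)
    have h1 := congrFun ((hTmem x).mp hx) ⟨a⁻¹ • (q : K), S.stable a⁻¹ q q.2⟩
    have h2 := hf a ⟨x * (a⁻¹ • (q : K)) * x⁻¹, hQn.conj_mem _ (S.stable a⁻¹ q q.2) x⟩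
    rw [Clifford.conjFn_apply] at h1
    rw [Clifford.conjFn_apply]
    refine Eq.trans (congrArg _ (Subtype.ext ?_)) (h2.trans (h1.trans (hf a⁻¹ q)))
    show (a • x) * (q : K) * (a • x)⁻¹ = a • (x * (a⁻¹ • (q : K)) * x⁻¹)
    rw [smul_mul', smul_mul', smul_inv', smul_inv_smul]
  set D := T.comap ι with hDdef
  have hDst : ∀ (a : A), ∀ c ∈ D, a • c ∈ D := fun a c hc => by
    rw [hDdef, Subgroup.mem_comap, S.equiv]
    exact hTst a _ hc
  have hQD : Q.comap ι ≤ D := Subgroup.comap_mono hQT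
  have hQCn : (Q.comap ι).Normal := hQn.comap ι
  have hDmem : ∀ c, c ∈ D ↔
      Clifford.conjFn hQCn (down S (θ : Q → ℂ)) c = down S (θ : Q → ℂ) := fun c => by
    rw [hDdef, Subgroup.mem_comap, hTmem, conjFn_down S]
    refine ⟨fun h => by rw [h], fun h => funext fun q => ?_⟩
    have h1 := congrFun h ((qEquiv S).symm q)
    simpa only [down, MulEquiv.apply_symm_apply] using h1
  let := subAct T hTst
  let := subAct D hDst
  let ι' : D →* T := ι.subgroupComap T
  let Q' := Q.subgroupOf T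
  have : Q'.Normal := hQn.subgroupOf T
  have S' : Setting p (A := A) Q' ι' :=
    { inj := fun x y h => Subtype.ext (S.inj (congrArg Subtype.val h))
      equiv := fun a c => Subtype.ext (S.equiv a c)
      isP := by
        obtain ⟨n, hn⟩ := S.isP
        exact ⟨n, hn ▸ Nat.card_congr (Subgroup.subgroupOfEquivOfLe hQT).toEquiv⟩
      not_dvd := fun h => S.not_dvd (h.trans (Subgroup.relIndex_dvd_index_of_le hQT))
      stable := fun a x hx => S.stable a x hx
      range := fun t => by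
        constructor
        · rintro ⟨d, rfl⟩ a
          exact (S.range (ι d)).mp ⟨d, rfl⟩ a
        · intro h
          obtain ⟨c, hc⟩ := (S.range (t : K)).mpr fun a => h a
          exact ⟨⟨c, show ι c ∈ T from hc ▸ t.2⟩, Subtype.ext hc⟩ }
  have := Fintype.ofFinite T
  have := Fintype.ofFinite D
  have := Fintype.ofFinite Q'
  have := Fintype.ofFinite (Q'.comap ι')
  have := Fintype.ofFinite (Cfsg.IrrCharacter T)
  let θT : Cfsg.IrrCharacter Q' := ⟨fun x => (θ : Q → ℂ) (Subgroup.subgroupOfEquivOfLe hQT x),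
    IsIrr.comp_surjective (Subgroup.subgroupOfEquivOfLe hQT).toMonoidHom
      (Subgroup.subgroupOfEquivOfLe hQT).surjective θ.2⟩
  have hfT : FixedFn S'.stable (θT : Q' → ℂ) := fun a x =>
    hf a (Subgroup.subgroupOfEquivOfLe hQT x)
  obtain ⟨coreA, coreB, coreC⟩ := core hA S' θT hfT fun t => funext fun x =>
    congrFun ((hTmem t).mp t.2) (Subgroup.subgroupOfEquivOfLe hQT x)
  -- translation of lying over
  have hovT : ∀ φ : T → ℂ, Cfsg.classInner (fun x : Q' => φ x) (θT : Q' → ℂ) =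
      Cfsg.classInner (Clifford.resTo hQT φ) (θ : Q → ℂ) :=
    fun φ => classInner_resTo_subgroupOf hQT φ _
  have hovD : ∀ φ : D → ℂ, Cfsg.classInner (fun x : Q'.comap ι' => φ x) (down S' (θT : Q' → ℂ)) =
      Cfsg.classInner (Clifford.resTo hQD φ) (down S (θ : Q → ℂ)) := fun φ => by
    let e : Q'.comap ι' ≃* Q.comap ι :=
      { toFun := fun x => ⟨(x.1 : C), x.2⟩
        invFun := fun y => ⟨⟨y.1, hQD y.2⟩, y.2⟩
        left_inv := fun _ => rfl
        right_inv := fun _ => rfl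
        map_mul' := fun _ _ => rfl }
    exact Clifford.classInner_comp_equiv e (Clifford.resTo hQD φ) (down S (θ : Q → ℂ))
  have hθC := isIrr_down S θ.2
  -- the character of the inertia group
  have up : ∀ χ : Cfsg.IrrCharacter K, IsInv A (χ : K → ℂ) →
      Cfsg.classInner (fun q : Q => (χ : K → ℂ) q) (θ : Q → ℂ) ≠ 0 →
      ∃ ψ : Cfsg.IrrCharacter T, IsInv A (ψ : T → ℂ) ∧
        Cfsg.classInner (fun x : Q' => (ψ : T → ℂ) x) (θT : Q' → ℂ) ≠ 0 ∧
        Cfsg.indFun T (ψ : T → ℂ) = (χ : K → ℂ) ∧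
        ∀ (ξ : Cfsg.IrrCharacter C) (γ : Cfsg.IrrCharacter D),
          Cfsg.classInner (Clifford.resTo hQD (γ : D → ℂ)) (down S (θ : Q → ℂ)) ≠ 0 →
          Cfsg.indFun D (γ : D → ℂ) = (ξ : C → ℂ) → mult ι χ ξ = mult ι' ψ γ := by
    intro χ hinv hc
    obtain ⟨ψ₀, hψ₀, hψc, -, hψi⟩ := Clifford.exists_over_inertia hQn θ.2 hTmem hQT χ hc
    refine ⟨⟨ψ₀, hψ₀⟩, fun a t => ?_, by rw [hovT]; exact hψc, hψi, fun ξ γ hγ hind => ?_⟩
    · have hirr' : Cfsg.IsIrrCharacter T (fun t : T => ψ₀ (a • t)) :=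
        IsIrr.comp_surjective (MulDistribMulAction.toMonoidHom T a) (MulAction.bijective a).2 hψ₀
      refine congrFun (Clifford.indFun_injective_of_over hQn θ.2 hTmem hQT hirr' hψ₀ ?_ hψc
        (funext fun g => ?_)) t
      · have e : Cfsg.classInner (Clifford.resTo hQT fun t : T => ψ₀ (a • t)) (θ : Q → ℂ) =
            Cfsg.classInner (Clifford.resTo hQT ψ₀) (θ : Q → ℂ) := by
          let := subAct Q S.stable
          simp only [Cfsg.classInner]
          congr 1
          refine Fintype.sum_equiv (MulAction.toPerm a) _ _ fun q => ?_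
          show ψ₀ (a • (⟨q, hQT q.2⟩ : T)) * conj ((θ : Q → ℂ) q) =
            ψ₀ (a • (⟨q, hQT q.2⟩ : T)) * conj ((θ : Q → ℂ) (a • q))
          rw [show (θ : Q → ℂ) (a • q) = (θ : Q → ℂ) q from hf a q]
        rw [e]
        exact hψc
      · rw [show Cfsg.indFun T (fun t : T => ψ₀ (a • t)) g = Cfsg.indFun T ψ₀ (a • g) from
          indFun_smul_fn hTst ψ₀ a g, hψi]
        exact hinv a g
    · have hself : Cfsg.classInner (fun t : T => (χ : K → ℂ) t) ψ₀ = 1 := by
        rw [← classInner_conj_symm, ← frobenius_reciprocity T ψ₀ (IsIrr.isClassFunction χ.2), hψi,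
          classInner_irr_self, map_one]
      obtain ⟨-, -, hothers⟩ := Clifford.indFun_eq_of_constituent hQn θ.2 hTmem hQT hψ₀ hψc χ
        (by rw [hψi, classInner_irr_self]; exact one_ne_zero)
      apply Nat.cast_injective (R := ℂ)
      rw [← classInner_eq_mult, ← hind, ← classInner_conj_symm,
        frobenius_reciprocity D _ (IsChar.isClassFunction (IsChar.comp ι (IsIrr.isCharacter χ.2))),
        classInner_conj_symm]
      have hexp : (fun d : D => (χ : K → ℂ) (ι d)) = ∑ φ : Cfsg.IrrCharacter T,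
          Cfsg.classInner (fun t : T => (χ : K → ℂ) t) (φ : T → ℂ) •
            fun d : D => (φ : T → ℂ) (ι' d) := funext fun d => by
        rw [Finset.sum_apply]
        exact classFunction_apply_eq_sum
          (IsChar.isClassFunction (IsChar.restrict T (IsIrr.isCharacter χ.2))) (ι' d)
      rw [hexp, classInner_sum_left]
      simp only [classInner_smul_left, classInner_eq_mult]
      rw [Finset.sum_eq_single (⟨ψ₀, hψ₀⟩ : Cfsg.IrrCharacter T) (fun φ _ hφ => ?_) (by simp)]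
      · show Cfsg.classInner (fun t : T => (χ : K → ℂ) t) ψ₀ * _ = _
        rw [hself, one_mul]
      · rcases hothers φ (fun e => hφ (Subtype.ext e)) with h | h
        · rw [h, zero_mul]
        · by_cases hm : mult ι' φ γ = 0
          · rw [hm, Nat.cast_zero, mul_zero]
          exfalso
          refine over_of_mult S' hm θT.2 ?_ (by rw [hovT]; exact h)
          rw [hovD]
          exact hγ
  have overC : ∀ ξ : Cfsg.IrrCharacter C,
      Cfsg.classInner (fun x : Q.comap ι => (ξ : C → ℂ) x) (down S (θ : Q → ℂ)) ≠ 0 →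
      ∃ γ : Cfsg.IrrCharacter D,
        Cfsg.classInner (Clifford.resTo hQD (γ : D → ℂ)) (down S (θ : Q → ℂ)) ≠ 0 ∧
          Cfsg.indFun D (γ : D → ℂ) = (ξ : C → ℂ) := fun ξ h => by
    obtain ⟨γ, hγ, hγc, -, hγi⟩ := Clifford.exists_over_inertia hQCn hθC hDmem hQD ξ h
    exact ⟨⟨γ, hγ⟩, hγc, hγi⟩
  refine ⟨fun χ hinv hc => ?_, fun χ χ' hi hi' hc hc' ξ hξ h h' => ?_, fun ξ hξ => ?_⟩
  · obtain ⟨ψ, hψi, hψc, hψind, htr⟩ := up χ hinv hc
    obtain ⟨γ, hγc, huniq, hpm, a, b, ha, hb, hab⟩ := coreA ψ hψi hψc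
    rw [hovD] at hγc
    let ξ : Cfsg.IrrCharacter C :=
      ⟨_, Clifford.isIrr_indFun_of_over hQCn hθC hDmem hQD γ.2 hγc⟩
    have hξc : Cfsg.classInner (fun x : Q.comap ι => (ξ : C → ℂ) x) (down S (θ : Q → ℂ)) ≠ 0 := by
      show Cfsg.classInner (fun x : Q.comap ι => Cfsg.indFun D (γ : D → ℂ) x) _ ≠ 0
      rw [Clifford.classInner_restrict_indFun hQCn hθC hDmem hQD γ.2 hγc]
      exact hγc
    have hu : ∀ η : Cfsg.IrrCharacter C,
        Cfsg.classInner (fun x : Q.comap ι => (η : C → ℂ) x) (down S (θ : Q → ℂ)) ≠ 0 →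
        η ≠ ξ → p ∣ mult ι χ η := fun η hη hne => by
      obtain ⟨δ, hδc, hδi⟩ := overC η hη
      rw [htr η δ hδc hδi]
      refine huniq δ fun e => hne (Subtype.ext ?_)
      rw [← hδi, e]
    have hm : mult ι χ ξ = mult ι' ψ γ := htr ξ γ hγc rfl
    refine ⟨ξ, fun a' c => ?_, hu, hm ▸ hpm, ?_⟩
    · let ξ' : Cfsg.IrrCharacter C := ⟨fun x => (ξ : C → ℂ) (a' • x),
        IsIrr.comp_surjective (MulDistribMulAction.toMonoidHom C a') (MulAction.bijective a').2 ξ.2⟩
      suffices h : ξ' = ξ from congrFun (congrArg Subtype.val h) c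
      by_contra hne
      refine not_dvd_of_modEq (hm ▸ hpm) ?_
      have h1 : mult ι χ ξ' = mult ι χ ξ := by
        apply Nat.cast_injective (R := ℂ)
        rw [← classInner_eq_mult, ← classInner_eq_mult]
        simp only [Cfsg.classInner]
        congr 1
        refine Fintype.sum_equiv (MulAction.toPerm a') _ _ fun x => ?_
        show (χ : K → ℂ) (ι x) * conj ((ξ : C → ℂ) (a' • x)) =
          (χ : K → ℂ) (ι (a' • x)) * conj ((ξ : C → ℂ) (a' • x))
        rw [S.equiv, hinv a']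
      rw [← h1]
      refine hu ξ' ?_ hne
      have h2 : Cfsg.classInner (fun x : Q.comap ι => (ξ' : C → ℂ) x) (down S (θ : Q → ℂ)) =
          Cfsg.classInner (fun x : Q.comap ι => (ξ : C → ℂ) x) (down S (θ : Q → ℂ)) := by
        let := subAct (Q.comap ι) (comap_stable S)
        simp only [Cfsg.classInner]
        congr 1
        refine Fintype.sum_equiv (MulAction.toPerm a') _ _ fun x => ?_
        show (ξ : C → ℂ) (a' • (x : C)) * conj (down S (θ : Q → ℂ) x) =
          (ξ : C → ℂ) (a' • (x : C)) * conj (down S (θ : Q → ℂ) (a' • x))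
        rw [show down S (θ : Q → ℂ) (a' • x) = down S (θ : Q → ℂ) x from fixed_down S hf a' x]
      rwa [h2]
    · obtain ⟨d, -, hd⟩ := IsIrr.exists_degree θ.2
      have hθT1 : (θT : Q' → ℂ) 1 = d := by
        show (θ : Q → ℂ) (Subgroup.subgroupOfEquivOfLe hQT 1) = d
        rw [map_one, hd]
      have hχd : Cfsg.charDegree (χ : K → ℂ) = T.index * (a * d) :=
        CharDegree.charDegree_eq_of_apply_one (by
          rw [← hψind, indFun_apply_one, ha, hθT1]; push_cast; rfl)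
      have hξd : Cfsg.charDegree (ξ : C → ℂ) = D.index * (b * d) :=
        CharDegree.charDegree_eq_of_apply_one (by
          show Cfsg.indFun D (γ : D → ℂ) 1 = _
          rw [indFun_apply_one, hb, hθT1]; push_cast; rfl)
      have := Fintype.ofFinite (K ⧸ Q)
      have := Fintype.ofFinite (C ⧸ Q.comap ι)
      have := Fintype.ofFinite (T ⧸ Q')
      have := Fintype.ofFinite (D ⧸ Q'.comap ι')
      let := quotAct Q S.stable
      let := quotAct Q' S'.stable
      have e1 : (Q.index : ZMod p) = (Q.comap ι).index := by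
        have h := card_modEq hA (qMap Q ι) (qMap_injective S) (qMap_range S)
        rw [← ZMod.intCast_zmod_eq_zero_iff_dvd, Int.cast_sub, Int.cast_natCast, Int.cast_natCast,
          sub_eq_zero] at h
        exact h
      have e2 : (Q.relIndex T : ZMod p) = (Q.comap ι).relIndex D := by
        have h := card_modEq hA (qMap Q' ι') (qMap_injective S') (qMap_range S')
        rw [← ZMod.intCast_zmod_eq_zero_iff_dvd, Int.cast_sub, Int.cast_natCast, Int.cast_natCast,
          sub_eq_zero] at h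
        exact h
      have e3 : (T.index : ZMod p) = D.index := by
        rw [← Subgroup.relIndex_mul_index hQT, ← Subgroup.relIndex_mul_index hQD, Nat.cast_mul,
          Nat.cast_mul, ← e2] at e1
        refine mul_left_cancel₀ (fun h0 => S'.not_dvd ?_) e1
        exact (ZMod.natCast_eq_zero_iff _ p).mp h0
      rw [hχd, hξd]
      push_cast
      rw [e3, hab]
      rcases hpm with e | e <;> rw [e]
      · exact Or.inl (by ring)
      · exact Or.inr (by ring)
  · obtain ⟨ψ, hψi, hψc, hψind, htr⟩ := up χ hi hc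
    obtain ⟨ψ', hψi', hψc', hψind', htr'⟩ := up χ' hi' hc'
    obtain ⟨γ, hγc, hγi⟩ := overC ξ hξ
    rw [htr ξ γ hγc hγi] at h
    rw [htr' ξ γ hγc hγi] at h'
    have e := coreB ψ ψ' hψi hψi' hψc hψc' γ h h'
    exact Subtype.ext (by rw [← hψind, ← hψind', e])
  · obtain ⟨γ, hγc, hγi⟩ := overC ξ hξ
    obtain ⟨ψ, hψi, hψc, hψm⟩ := coreC γ (by rw [hovD]; exact hγc)
    rw [hovT] at hψc
    let χ : Cfsg.IrrCharacter K := ⟨_, Clifford.isIrr_indFun_of_over hQn θ.2 hTmem hQT ψ.2 hψc⟩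
    have hinv : IsInv A (χ : K → ℂ) := fun a g => by
      show Cfsg.indFun T (ψ : T → ℂ) (a • g) = Cfsg.indFun T (ψ : T → ℂ) g
      rw [← indFun_smul_fn hTst (ψ : T → ℂ) a g]
      exact congrArg (fun f : T → ℂ => Cfsg.indFun T f g) (funext fun t => hψi a t)
    have hχc : Cfsg.classInner (fun q : Q => (χ : K → ℂ) q) (θ : Q → ℂ) ≠ 0 := by
      show Cfsg.classInner (fun q : Q => Cfsg.indFun T (ψ : T → ℂ) q) _ ≠ 0
      rw [Clifford.classInner_restrict_indFun hQn θ.2 hTmem hQT ψ.2 hψc]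
      exact hψc
    obtain ⟨ψ', -, hψc', hψind', htr'⟩ := up χ hinv hχc
    rw [hovT] at hψc'
    refine ⟨χ, hinv, ?_⟩
    rw [htr' ξ γ hγc hγi, show ψ' = ψ from Subtype.ext
      (Clifford.indFun_injective_of_over hQn θ.2 hTmem hQT ψ'.2 ψ.2 hψc' hψc hψind')]
    exact hψm

include hA S in
/-- An invariant character of `C` meeting `χ` lies over every fixed constituent of `χ`. -/
theorem over_of_invariant [Fintype (Q.comap ι)] (χ : Cfsg.IrrCharacter K)
    (θ : Cfsg.IrrCharacter Q) (hf : FixedFn S.stable (θ : Q → ℂ))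
    (hc : Cfsg.classInner (fun q : Q => (χ : K → ℂ) q) (θ : Q → ℂ) ≠ 0)
    {ξ : Cfsg.IrrCharacter C} (hξ : IsInv A (ξ : C → ℂ)) (hm : mult ι χ ξ ≠ 0) :
    Cfsg.classInner (fun x : Q.comap ι => (ξ : C → ℂ) x) (down S (θ : Q → ℂ)) ≠ 0 := by
  classical
  have hQCn : (Q.comap ι).Normal := hQn.comap ι
  obtain ⟨φ, hφf, hφc⟩ := exists_fixed_constituent hA hQCn (comap_stable S)
    (not_dvd_comap_index S) ξ hξ
  let θ' : Cfsg.IrrCharacter Q := ⟨fun q => (φ : Q.comap ι → ℂ) ((qEquiv S).symm q),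
    IsIrr.comp_surjective (qEquiv S).symm.toMonoidHom (qEquiv S).symm.surjective φ.2⟩
  have hd : down S (θ' : Q → ℂ) = (φ : Q.comap ι → ℂ) := funext fun x => by
    show (φ : Q.comap ι → ℂ) ((qEquiv S).symm (qEquiv S x)) = _
    rw [MulEquiv.symm_apply_apply]
  have hf' : FixedFn S.stable (θ' : Q → ℂ) := fun a q => by
    obtain ⟨x, rfl⟩ := (qEquiv S).surjective q
    refine Eq.trans (congrArg (θ' : Q → ℂ) (a₂ := qEquiv S ⟨a • (x : C), comap_stable S a x x.2⟩)
      (Subtype.ext (S.equiv a x).symm)) ?_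
    exact (congrFun hd _).trans ((hφf a x).trans (congrFun hd x).symm)
  obtain ⟨g, hg⟩ := (constituent_iff hQn χ.2 θ.2 hc θ'.2).mp
    (over_of_mult S hm θ'.2 (by rw [hd]; exact hφc))
  obtain ⟨c, hcc⟩ := exists_conj_in_range hA S θ.2 hf hf' hg.symm
  refine (constituent_iff hQCn ξ.2 φ.2 hφc (isIrr_down S θ.2)).mpr ⟨c⁻¹, ?_⟩
  rw [← hd, conjFn_down, ← hcc, ← Clifford.conjFn_mul, map_inv, mul_inv_cancel,
    Clifford.conjFn_one]

include hA S in
/-- The relative Glauberman correspondence. -/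
theorem correspondence :
    ∃ f : {χ : Cfsg.IrrCharacter K // IsInv A (χ : K → ℂ)} →
        {ξ : Cfsg.IrrCharacter C // IsInv A (ξ : C → ℂ)},
      Function.Bijective f ∧ ∀ χ,
        (∀ ξ : {ξ : Cfsg.IrrCharacter C // IsInv A (ξ : C → ℂ)},
          (ξ = f χ → (mult ι χ.1 ξ.1 : ZMod p) = 1 ∨ (mult ι χ.1 ξ.1 : ZMod p) = -1) ∧
          (ξ ≠ f χ → p ∣ mult ι χ.1 ξ.1)) ∧
        ((Cfsg.charDegree ((f χ).1 : C → ℂ) : ZMod p) = Cfsg.charDegree (χ.1 : K → ℂ) ∨
          (Cfsg.charDegree ((f χ).1 : C → ℂ) : ZMod p) = -Cfsg.charDegree (χ.1 : K → ℂ)) := by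
  classical
  have := Fintype.ofFinite (Q.comap ι)
  choose θ hθf hθc using fun χ : {χ : Cfsg.IrrCharacter K // IsInv A (χ : K → ℂ)} =>
    exists_fixed_constituent hA hQn S.stable S.not_dvd χ.1 χ.2
  choose ξ hξi hu hpm hdeg using fun χ : {χ : Cfsg.IrrCharacter K // IsInv A (χ : K → ℂ)} =>
    (over_fixed hA S (θ χ) (hθf χ)).1 χ.1 χ.2 (hθc χ)
  have huall : ∀ χ (η : Cfsg.IrrCharacter C), IsInv A (η : C → ℂ) → η ≠ ξ χ →
      p ∣ mult ι χ.1 η := fun χ η hη hne => by
    by_cases h0 : mult ι χ.1 η = 0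
    · simp [h0]
    · exact hu χ η (over_of_invariant hA S χ.1 (θ χ) (hθf χ) (hθc χ) hη h0) hne
  have hnd : ∀ χ, ¬ p ∣ mult ι χ.1 (ξ χ) := fun χ => not_dvd_of_modEq (hpm χ)
  refine ⟨fun χ => ⟨ξ χ, hξi χ⟩, ⟨fun χ χ' h => ?_, fun η => ?_⟩, fun χ => ⟨fun η => ⟨?_, ?_⟩, hdeg χ⟩⟩
  · have he : ξ χ = ξ χ' := congrArg Subtype.val h
    have h' : ¬ p ∣ mult ι χ'.1 (ξ χ) := he ▸ hnd χ'
    have hne : ∀ x, ¬ p ∣ mult ι x (ξ χ) → mult ι x (ξ χ) ≠ 0 := fun x hx e => hx (e ▸ dvd_zero p)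
    have hover := over_of_invariant hA S χ.1 (θ χ) (hθf χ) (hθc χ) (hξi χ) (hne _ (hnd χ))
    exact Subtype.ext ((over_fixed hA S (θ χ) (hθf χ)).2.1 χ.1 χ'.1 χ.2 χ'.2 (hθc χ)
      (over_of_mult S (hne _ h') (θ χ).2 hover) (ξ χ) hover (hnd χ) h')
  · obtain ⟨φ, hφf, hφc⟩ := exists_fixed_constituent hA (hQn.comap ι) (comap_stable S)
      (not_dvd_comap_index S) η.1 η.2
    let θ' : Cfsg.IrrCharacter Q := ⟨fun q => (φ : Q.comap ι → ℂ) ((qEquiv S).symm q),
      IsIrr.comp_surjective (qEquiv S).symm.toMonoidHom (qEquiv S).symm.surjective φ.2⟩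
    have hd : down S (θ' : Q → ℂ) = (φ : Q.comap ι → ℂ) := funext fun x => by
      show (φ : Q.comap ι → ℂ) ((qEquiv S).symm (qEquiv S x)) = _
      rw [MulEquiv.symm_apply_apply]
    have hf' : FixedFn S.stable (θ' : Q → ℂ) := fun a q => by
      obtain ⟨x, rfl⟩ := (qEquiv S).surjective q
      refine Eq.trans (congrArg (θ' : Q → ℂ) (a₂ := qEquiv S ⟨a • (x : C), comap_stable S a x x.2⟩)
        (Subtype.ext (S.equiv a x).symm)) ?_
      exact (congrFun hd _).trans ((hφf a x).trans (congrFun hd x).symm)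
    obtain ⟨χ, hχ, hm⟩ := (over_fixed hA S θ' hf').2.2 η.1 (by rw [hd]; exact hφc)
    refine ⟨⟨χ, hχ⟩, Subtype.ext ?_⟩
    by_contra hne
    exact hm (huall ⟨χ, hχ⟩ η.1 η.2 (Ne.symm hne))
  · rintro rfl
    exact hpm χ
  · exact fun hne => huall χ η.1 η.2 fun e => hne (Subtype.ext e)

end Full

end CfsgLib.RelGlauberman
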