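import Mathlib.GroupTheory.GroupAction.Basic
import Mathlib.Tactic.Group
import Mathlib.Algebra.Group.Subgroup.Basic
import Mathlib.GroupTheory.Subgroup.Centralizer
import Mathlib.Algebra.GroupWithZero.Action.Defs

/-!
# Conjugation action of one subgroup on another
-/

namespace CfsgLib.CharAction

/-- A subgroup `S` acts by conjugation on a subgroup `G` it normalizes. -/
@[instance_reducible]
def conjAction {Γ : Type*} [Group Γ] (G S : Subgroup Γ)
    (h : ∀ s ∈ S, ∀ g ∈ G, s * g * s⁻¹ ∈ G) : MulDistribMulAction S G where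
  smul s g := ⟨(s : Γ) * g * (s : Γ)⁻¹, h s s.2 g g.2⟩
  one_smul g := Subtype.ext (show (1 : Γ) * g * (1 : Γ)⁻¹ = g by group)
  mul_smul a b g := Subtype.ext
    (show (a * b : Γ) * g * (a * b : Γ)⁻¹ = a * ((b : Γ) * g * (b : Γ)⁻¹) * (a : Γ)⁻¹ by group)
  smul_mul a g k := Subtype.ext
    (show (a : Γ) * (g * k) * (a : Γ)⁻¹ = (a * g * (a : Γ)⁻¹) * (a * k * (a : Γ)⁻¹) by group)
  smul_one a := Subtype.ext (show (a : Γ) * 1 * (a : Γ)⁻¹ = 1 by group)

/-- The fixed points of `conjAction` are the centralizer. -/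
theorem mem_range_inclusion_iff {Γ : Type*} [Group Γ] (G S C : Subgroup Γ)
    (h : ∀ s ∈ S, ∀ g ∈ G, s * g * s⁻¹ ∈ G)
    (hC : C = G ⊓ Subgroup.centralizer (S : Set Γ)) (hCG : C ≤ G) (g : G) :
    letI := conjAction G S h
    g ∈ (Subgroup.inclusion hCG).range ↔ ∀ a : S, a • g = g := by
  letI := conjAction G S h
  constructor
  · rintro ⟨c, rfl⟩ a
    have hc : (c : Γ) ∈ Subgroup.centralizer (S : Set Γ) := by
      exact (hC.le c.2).2
    apply Subtype.ext
    show (a : Γ) * c * (a : Γ)⁻¹ = c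
    rw [Subgroup.mem_centralizer_iff.mp hc a a.2, mul_inv_cancel_right]
  · intro hg
    have hgC : (g : Γ) ∈ C := by
      rw [hC]
      refine ⟨g.2, Subgroup.mem_centralizer_iff.mpr fun s hs => ?_⟩
      have h1 : s * (g : Γ) * s⁻¹ = g := congrArg Subtype.val (hg ⟨s, hs⟩)
      exact mul_inv_eq_iff_eq_mul.mp h1
    exact ⟨⟨g, hgC⟩, rfl⟩

end CfsgLib.CharAction
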