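import Cfsg.Agent.Lib.CharAction.PGroup

/-!
# Descending irreducible characters along surjective homomorphisms
-/

namespace CfsgLib.CharAction

open scoped ComplexConjugate

variable {G H : Type*} [Group G] [Group H] [Fintype G] [Fintype H]

theorem sum_comp_surjective (f : G →* H) (hf : Function.Surjective f) (F : H → ℂ) :
    ∑ x, F (f x) = (Nat.card f.ker : ℂ) * ∑ h, F h := by
  classical
  choose s hs using hf
  have := Fintype.ofFinite f.ker
  let e : G ≃ H × f.ker :=
    { toFun := fun x => (f x, ⟨(s (f x))⁻¹ * x, by simp [MonoidHom.mem_ker, hs]⟩)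
      invFun := fun p => s p.1 * p.2
      left_inv := fun x => by simp
      right_inv := fun p => by
        have h : f (s p.1 * p.2) = p.1 := by
          rw [map_mul, hs, MonoidHom.mem_ker.mp p.2.2, mul_one]
        refine Prod.ext h (Subtype.ext ?_)
        show (s (f (s p.1 * p.2)))⁻¹ * (s p.1 * p.2) = p.2
        rw [h, inv_mul_cancel_left] }
  rw [Fintype.sum_equiv e (fun x => F (f x)) (fun p => F p.1) (fun x => rfl),
    Fintype.sum_prod_type, Finset.mul_sum]
  exact Finset.sum_congr rfl fun h _ => by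
    simp [Nat.card_eq_fintype_card]

/-- A function whose inflation is an irreducible character is one. -/
theorem exists_irr_of_comp (f : G →* H) (hf : Function.Surjective f) {ψ : G → ℂ}
    (hψ : Cfsg.IsIrrCharacter G ψ) (hconst : ∀ x z, f z = 1 → ψ (x * z) = ψ x) :
    ∃ χ : Cfsg.IrrCharacter H, ∀ x, (χ : H → ℂ) (f x) = ψ x := by
  classical
  have := Fintype.ofFinite (Cfsg.IrrCharacter H)
  obtain ⟨s, hs⟩ := hf.hasRightInverse
  let F : H → ℂ := fun h => ψ (s h)
  have hF : ∀ x, F (f x) = ψ x := fun x => by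
    show ψ (s (f x)) = ψ x
    rw [← mul_inv_cancel_left x (s (f x)), hconst x]
    rw [map_mul, map_inv, hs, inv_mul_cancel]
  have hcl : Cfsg.IsClassFunction H F := fun a b => by
    obtain ⟨x, rfl⟩ := hf a
    obtain ⟨y, rfl⟩ := hf b
    rw [← map_inv, ← map_mul, ← map_mul, hF, hF]
    exact Char.IsIrr.isClassFunction hψ x y
  obtain ⟨φ, hφ⟩ : ∃ φ : Cfsg.IrrCharacter H, Cfsg.classInner F (φ : H → ℂ) ≠ 0 := by
    by_contra h
    push Not at h
    apply Char.IsIrr.apply_one_ne_zero hψ
    rw [← hF, map_one, Char.classFunction_apply_eq_sum hcl]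
    exact Finset.sum_eq_zero fun φ _ => by rw [h φ, zero_mul]
  refine ⟨φ, fun x => ?_⟩
  let φ' : Cfsg.IrrCharacter G := ⟨_, Char.IsIrr.comp_surjective f hf φ.2⟩
  have hne : Cfsg.classInner ψ (φ' : G → ℂ) ≠ 0 := by
    rw [Cfsg.classInner]
    refine mul_ne_zero (inv_ne_zero (Nat.cast_ne_zero.mpr Nat.card_pos.ne')) ?_
    rw [Finset.sum_congr rfl (g := fun x => (fun h => F h * conj ((φ : H → ℂ) h)) (f x))
      fun x _ => by rw [← hF],
      sum_comp_surjective f hf (fun h => F h * conj ((φ : H → ℂ) h))]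
    refine mul_ne_zero (Nat.cast_ne_zero.mpr Nat.card_pos.ne') fun h0 => hφ ?_
    rw [Cfsg.classInner, h0, mul_zero]
  by_contra h
  exact hne (Char.classInner_irr_of_ne (χ := ⟨ψ, hψ⟩) (ψ := φ')
    fun e => h (congrFun (congrArg Subtype.val e) x).symm)

end CfsgLib.CharAction
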