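import Mathlib

/-!
# An abelian normal subgroup with cyclic quotient

If `A` is abelian normal and `G = A⟨b⟩` then `y ↦ ⁅b, y⁆` is a homomorphism of `A` onto `G'`,
with kernel `A ∩ Z(G)`.
-/

namespace CfsgLib.CyclicExtension

open scoped commutatorElement

variable {G : Type*} [Group G] (A : Subgroup G) [hn : A.Normal]
  (hA : ∀ x ∈ A, ∀ y ∈ A, x * y = y * x) (b : G) (htop : A ⊔ Subgroup.zpowers b = ⊤)

/-- `y ↦ ⁅b, y⁆` on `A`. -/
def commHom : A →* G where
  toFun y := b * y * b⁻¹ * (y : G)⁻¹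
  map_one' := by simp
  map_mul' y z := by
    have h1 : b * (z : G) * b⁻¹ * (z : G)⁻¹ ∈ A :=
      A.mul_mem (hn.conj_mem _ z.2 b) (A.inv_mem z.2)
    calc b * ((y * z : A) : G) * b⁻¹ * ((y * z : A) : G)⁻¹
        = b * (y : G) * b⁻¹ * ((b * (z : G) * b⁻¹ * (z : G)⁻¹) * (y : G)⁻¹) := by
          simp only [Subgroup.coe_mul]; group
      _ = b * (y : G) * b⁻¹ * ((y : G)⁻¹ * (b * (z : G) * b⁻¹ * (z : G)⁻¹)) := by
          rw [hA _ h1 _ (A.inv_mem y.2)]
      _ = _ := by group

theorem commHom_apply (y : A) : commHom A hA b y = ⁅b, (y : G)⁆ := rfl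

theorem range_le : (commHom A hA b).range ≤ A := by
  rintro _ ⟨y, rfl⟩
  exact A.mul_mem (hn.conj_mem _ y.2 b) (A.inv_mem y.2)

include htop in
theorem normal_range : (commHom A hA b).range.Normal := by
  refine Subgroup.normalizer_eq_top_iff.mp (eq_top_iff.mpr (htop ▸ sup_le ?_ ?_))
  · intro a ha
    refine Subgroup.mem_normalizer_iff.mpr fun v => ⟨fun hv => ?_, fun hv => ?_⟩
    · rwa [hA a ha v (range_le A hA b hv), mul_inv_cancel_right]
    · have hv' := range_le A hA b hv
      have e : v = a⁻¹ * (a * v * a⁻¹) * a := by group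
      rwa [e, hA _ (A.inv_mem ha) _ hv', inv_mul_cancel_right]
  · rw [Subgroup.zpowers_le]
    refine Subgroup.mem_normalizer_iff.mpr fun v => ⟨?_, ?_⟩
    · rintro ⟨y, rfl⟩
      refine ⟨⟨b * y * b⁻¹, hn.conj_mem _ y.2 b⟩, ?_⟩
      show b * (b * y * b⁻¹) * b⁻¹ * (b * y * b⁻¹)⁻¹ = b * (b * y * b⁻¹ * (y : G)⁻¹) * b⁻¹
      group
    · rintro ⟨y, hy⟩
      refine ⟨⟨b⁻¹ * y * b, by simpa using hn.conj_mem _ y.2 b⁻¹⟩, ?_⟩
      show b * (b⁻¹ * y * b) * b⁻¹ * (b⁻¹ * y * b)⁻¹ = v
      have e : v = b⁻¹ * (b * v * b⁻¹) * b := by group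
      rw [e, ← hy]
      show _ = b⁻¹ * (b * y * b⁻¹ * (y : G)⁻¹) * b
      group

include htop in
theorem range_eq_commutator : (commHom A hA b).range = commutator G := by
  haveI := normal_range A hA b htop
  refine le_antisymm ?_ ?_
  · rintro _ ⟨y, rfl⟩
    exact Subgroup.commutator_mem_commutator (Subgroup.mem_top b) (Subgroup.mem_top (y : G))
  · refine Subgroup.Normal.quotient_commutative_iff_commutator_le.mp ⟨⟨fun x y => ?_⟩⟩
    induction x using QuotientGroup.induction_on with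
    | H x =>
    induction y using QuotientGroup.induction_on with
    | H y =>
    let f : G →* G ⧸ (commHom A hA b).range := QuotientGroup.mk' _
    have hb : ∀ a ∈ A, Commute (f b) (f a) := fun a ha => by
      have h1 : f (b * a * b⁻¹ * a⁻¹) = 1 := (QuotientGroup.eq_one_iff _).mpr ⟨⟨a, ha⟩, rfl⟩
      simp only [map_mul, map_inv] at h1
      exact mul_inv_eq_iff_eq_mul.mp (mul_inv_eq_one.mp h1)
    have hgen : ∀ g, Commute (f b) (f g) ∧ ∀ a ∈ A, Commute (f a) (f g) := by
      intro g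
      have hg : g ∈ A ⊔ Subgroup.zpowers b := by rw [htop]; trivial
      obtain ⟨u, hu, v, hv, rfl⟩ := Subgroup.mem_sup_of_normal_left.mp hg
      obtain ⟨k, rfl⟩ := Subgroup.mem_zpowers_iff.mp hv
      rw [map_mul, map_zpow]
      refine ⟨(hb u hu).mul_right ((Commute.refl _).zpow_right k), fun a ha => ?_⟩
      refine Commute.mul_right ?_ (((hb a ha).symm).zpow_right k)
      exact (show Commute a u from hA a ha u hu).map f
    show f x * f y = f y * f x
    have hx : x ∈ A ⊔ Subgroup.zpowers b := by rw [htop]; trivial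
    obtain ⟨u, hu, v, hv, rfl⟩ := Subgroup.mem_sup_of_normal_left.mp hx
    obtain ⟨k, rfl⟩ := Subgroup.mem_zpowers_iff.mp hv
    rw [map_mul, map_zpow]
    exact (((hgen y).2 u hu).mul_left ((hgen y).1.zpow_left k)).eq

include htop in
theorem ker_eq : (commHom A hA b).ker = (Subgroup.center G).subgroupOf A := by
  ext y
  rw [MonoidHom.mem_ker, Subgroup.mem_subgroupOf, Subgroup.mem_center_iff]
  show b * (y : G) * b⁻¹ * (y : G)⁻¹ = 1 ↔ _
  constructor
  · intro h g
    have hy : (y : G) ∈ Subgroup.centralizer ((⊤ : Subgroup G) : Set G) := by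
      rw [← htop]
      have hle : A ⊔ Subgroup.zpowers b ≤ Subgroup.centralizer ({(y : G)} : Set G) := by
        refine sup_le (fun a ha => Subgroup.mem_centralizer_singleton_iff.mpr (hA a ha y y.2))
          (Subgroup.zpowers_le.mpr (Subgroup.mem_centralizer_singleton_iff.mpr ?_))
        exact mul_inv_eq_iff_eq_mul.mp (mul_inv_eq_one.mp h)
      exact Subgroup.mem_centralizer_iff.mpr fun g hg =>
        Subgroup.mem_centralizer_singleton_iff.mp (hle hg)
    exact Subgroup.mem_centralizer_iff.mp hy g trivial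
  · intro h
    rw [h b]; group

include hA htop in
/-- `|A| = |G'| · |A ∩ Z(G)|`. -/
theorem card_eq_mul [Finite G] :
    Nat.card A = Nat.card (commutator G) * Nat.card ((Subgroup.center G).subgroupOf A) := by
  rw [← range_eq_commutator A hA b htop, ← ker_eq A hA b htop,
    ← Nat.card_congr (QuotientGroup.quotientKerEquivRange (commHom A hA b)).toEquiv,
    ← Subgroup.card_eq_card_quotient_mul_card_subgroup]

end CfsgLib.CyclicExtension
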