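import Cfsg.Agent.Lib.CharAction.PowerFixed
import Cfsg.Agent.Lib.CharDegree.OddIndex
import Cfsg.Agent.Lib.Char.Extension
import Cfsg.Agent.Lib.Char.Gallagher
import Cfsg.Agent.Lib.CharDegree.Restriction
import Cfsg.Agent.Lib.Char.Real
import Cfsg.Agent.Lib.Blocks.Covering
import Cfsg.Agent.S0887
import Mathlib.GroupTheory.IndexNormal

/-!
# Fixed characters over fixed characters in odd index

`g ↦ g ^ k` induces a field automorphism `σ` of `2`-power order inverting the roots of unity of odd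
order.  Over a `σ`-fixed character of a normal subgroup of odd index lies exactly one `σ`-fixed
character, and it is an extension when the character below is invariant.
-/

namespace CfsgLib.CharAction

open scoped ComplexConjugate
open CfsgLib.Char CfsgLib.Clifford CfsgLib.CharDegree

/-- The hypotheses on the exponent `k`. -/
structure OddInv (G : Type*) [Group G] (k e : ℕ) : Prop where
  coprime : k.Coprime (Nat.card G)
  order : k ^ (2 ^ e) ≡ 1 [MOD Nat.card G]
  inv : ∀ g : G, Odd (orderOf g) → g ^ k = g⁻¹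

variable {G : Type*} [Group G] {k e : ℕ}

theorem OddInv.subgroup (h : OddInv G k e) [Finite G] (H : Subgroup G) : OddInv H k e where
  coprime := h.coprime.coprime_dvd_right H.card_subgroup_dvd_card
  order := h.order.of_dvd H.card_subgroup_dvd_card
  inv := fun g hg => Subtype.ext (by
    simpa using h.inv (g : G) (by rwa [Subgroup.orderOf_coe]))

theorem OddInv.quotient_pow (h : OddInv G k e) [Finite G] (N : Subgroup G) [N.Normal]
    (hodd : Odd N.index) (g : G) : (g : G ⧸ N) ^ k = (g : G ⧸ N)⁻¹ := by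
  obtain ⟨a, b, hb, hab⟩ := Nat.exists_eq_two_pow_mul_odd (orderOf_pos g).ne'
  have hg : Odd (orderOf (g ^ (2 ^ a))) := by
    rw [orderOf_pow_of_dvd (pow_ne_zero _ two_ne_zero) ⟨b, hab⟩, hab,
      Nat.mul_div_cancel_left _ (by positivity)]
    exact hb
  have h1 : (g : G ⧸ N) ^ (2 ^ a * k) * (g : G ⧸ N) ^ (2 ^ a) = 1 := by
    rw [← QuotientGroup.mk_pow, ← QuotientGroup.mk_pow, ← QuotientGroup.mk_mul, pow_mul,
      h.inv _ hg, inv_mul_cancel, QuotientGroup.mk_one]
  set x := (g : G ⧸ N) ^ (k + 1) with hx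
  have h2 : x ^ (2 ^ a) = 1 := by
    rw [hx, ← pow_mul, add_one_mul, pow_add, mul_comm k]
    exact h1
  have h3 : Odd (orderOf x) :=
    Odd.of_dvd_nat hodd (Subgroup.index_eq_card N ▸ orderOf_dvd_natCard x)
  have h4 : orderOf x = 1 := by
    obtain ⟨i, -, hi⟩ := (Nat.dvd_prime_pow Nat.prime_two).1 (orderOf_dvd_of_pow_eq_one h2)
    rcases i with _ | i
    · simpa using hi
    · rw [hi] at h3
      exact absurd h3 (Nat.not_odd_iff_even.2 ((Nat.even_pow' (by omega)).2 even_two))
  rw [orderOf_eq_one_iff, hx, pow_succ] at h4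
  exact eq_inv_of_mul_eq_one_left h4

variable [Fintype G]

/-- The twist of an irreducible character by `g ↦ g ^ k`. -/
noncomputable def powIrr (h : OddInv G k e) (χ : Cfsg.IrrCharacter G) : Cfsg.IrrCharacter G :=
  ⟨fun g => (χ : G → ℂ) (g ^ k), isIrrCharacter_pow χ.2 h.coprime⟩

variable (N : Subgroup G) [N.Normal]

/-- Exactly one fixed character lies over a fixed character when the index is odd. -/
theorem existsUnique_fixed_over (h : OddInv G k e) [Fintype N] (hodd : Odd N.index)
    (φ : Cfsg.IrrCharacter N) (hφ : ∀ n : N, (φ : N → ℂ) (n ^ k) = (φ : N → ℂ) n) :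
    ∃! χ : Cfsg.IrrCharacter G, (∀ g : G, (χ : G → ℂ) (g ^ k) = (χ : G → ℂ) g) ∧
      Cfsg.classInner (fun n : N => (χ : G → ℂ) n) (φ : N → ℂ) ≠ 0 := by
  classical
  have := Fintype.ofFinite (Cfsg.IrrCharacter G)
  have hN : N.Normal := inferInstance
  set P := Cfsg.indFun N (φ : N → ℂ) with hP
  have hPc : Cfsg.IsCharacter G P := isCharacter_indFun N (IsIrr.isCharacter φ.2)
  obtain ⟨m, hm⟩ := IsChar.exists_sum hPc
  have hGne : (Nat.card G : ℂ) ≠ 0 := Nat.cast_ne_zero.mpr Nat.card_pos.ne'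
  have hP1 : P 1 ≠ 0 := by
    rw [hP, indFun_apply_one]
    exact mul_ne_zero (Nat.cast_ne_zero.mpr Subgroup.index_ne_zero_of_finite)
      (IsIrr.apply_one_ne_zero φ.2)
  have hPk : ∀ n : N, P ((n : G) ^ k) = P n := fun n => by
    rw [← SubgroupClass.coe_pow, hP, indFun_coe_normal hN, indFun_coe_normal hN]
    congr 1
    refine Finset.sum_congr rfl fun x _ => ?_
    rw [conjFn_apply, conjFn_apply]
    refine Eq.trans (congrArg _ (Subtype.ext ?_)) (hφ _)
    simp only [SubgroupClass.coe_pow, conj_pow]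
  have hmult : ∀ χ : Cfsg.IrrCharacter G,
      Cfsg.classInner (fun n : N => (χ : G → ℂ) n) (φ : N → ℂ) = m χ := fun χ => by
    have h1 : Cfsg.classInner P (χ : G → ℂ) = m χ := by rw [hm, classInner_sum_irr]
    rw [hP, frobenius_reciprocity N _ (IsIrr.isClassFunction χ.2)] at h1
    rw [← classInner_conj_symm, h1, map_natCast]
  have hsumN : ∀ f : G → ℂ, ∑ g : G, P g * f g = ∑ n : N, P n * f n := fun f => by
    rw [← Finset.sum_subtype (Finset.univ.filter fun g : G => g ∈ N) (fun g => by simp)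
      (fun g => P g * f g), Finset.sum_filter]
    refine Finset.sum_congr rfl fun g _ => ?_
    split_ifs with hg
    · rfl
    · rw [hP, indFun_eq_zero_off_normal hN _ hg, zero_mul]
  have hw : ∀ χ : Cfsg.IrrCharacter G,
      ∑ n : N, conj (P n) * (χ : G → ℂ) n = (Nat.card G : ℂ) * m χ := fun χ => by
    have h1 : Cfsg.classInner P (χ : G → ℂ) = m χ := by rw [hm, classInner_sum_irr]
    have h2 := congrArg conj h1
    rw [map_natCast, Cfsg.classInner, map_mul, map_inv₀, map_natCast, hsumN, map_sum] at h2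
    rw [← h2, ← mul_assoc, mul_inv_cancel₀ hGne, one_mul]
    simp only [map_mul, Complex.conj_conj]
  set S : ℂ := ∑ χ : Cfsg.IrrCharacter G, (m χ : ℂ) * m χ with hS
  have hPP : ∑ n : N, conj (P n) * P n = (Nat.card G : ℂ) * S := by
    have h1 : ∀ n : N, conj (P n) * P n =
        ∑ χ : Cfsg.IrrCharacter G, (m χ : ℂ) * (conj (P n) * (χ : G → ℂ) n) := fun n => by
      conv_lhs => arg 2; rw [congrFun hm (n : G)]
      simp only [Finset.sum_apply, Pi.smul_apply, smul_eq_mul, Finset.mul_sum]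
      exact Finset.sum_congr rfl fun χ _ => by ring
    simp only [h1]
    rw [Finset.sum_comm, hS, Finset.mul_sum]
    refine Finset.sum_congr rfl fun χ _ => ?_
    rw [← Finset.mul_sum, hw]
    ring
  have hres : ∀ χ : Cfsg.IrrCharacter G, m χ ≠ 0 → ∀ n : N,
      (χ : G → ℂ) n = (χ : G → ℂ) 1 / P 1 * P n := fun χ hχ n => by
    obtain ⟨c, hc⟩ := CharDegree.restrict_eq_mul_indFun N φ χ
      (by rw [hmult]; exact_mod_cast hχ)
    have h1 := hc 1
    simp only [OneMemClass.coe_one, ← hP] at h1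
    rw [hc n, ← hP, h1, mul_div_cancel_right₀ _ hP1]
  have hdeg : ∀ χ : Cfsg.IrrCharacter G, conj ((χ : G → ℂ) 1) = (χ : G → ℂ) 1 := fun χ => by
    obtain ⟨d, -, hd⟩ := IsIrr.exists_degree χ.2
    rw [hd, map_natCast]
  have hP1c : conj (P 1) = P 1 := by
    obtain ⟨d, hd⟩ := IsChar.exists_degree hPc
    rw [hd, map_natCast]
  have hmform : ∀ χ : Cfsg.IrrCharacter G, m χ ≠ 0 →
      (m χ : ℂ) / (χ : G → ℂ) 1 = S / P 1 := fun χ hχ => by
    have h1 := hw χ
    rw [Finset.sum_congr rfl fun (n : N) _ => show conj (P n) * (χ : G → ℂ) n =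
      (χ : G → ℂ) 1 / P 1 * (conj (P n) * P n) by rw [hres χ hχ n]; ring, ← Finset.mul_sum,
      hPP] at h1
    have h2 : (χ : G → ℂ) 1 / P 1 * S = m χ :=
      mul_left_cancel₀ hGne (by linear_combination h1)
    rw [← h2]
    field_simp [IsIrr.apply_one_ne_zero χ.2]
  set w : Cfsg.IrrCharacter G → ℂ := fun χ => (m χ : ℂ) / (χ : G → ℂ) 1 with hwdef
  have hleft : ∀ χ : Cfsg.IrrCharacter G, ∑ g : G, (χ : G → ℂ) g * conj ((χ : G → ℂ) (g ^ k)) =
      if powIrr h χ = χ then (Nat.card G : ℂ) else 0 := fun χ => by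
    have h1 := classInner_irr χ (powIrr h χ)
    rw [Cfsg.classInner, inv_mul_eq_iff_eq_mul₀ hGne] at h1
    simp only [show ∀ g : G, (powIrr h χ : G → ℂ) g = (χ : G → ℂ) (g ^ k) from fun _ => rfl] at h1
    rw [h1]
    by_cases hc : powIrr h χ = χ
    · rw [if_pos hc, if_pos, mul_one]
      exact hc.symm
    · rw [if_neg hc, if_neg, mul_zero]
      exact fun e => hc e.symm
  have hoff : ∀ g ∉ N, ∑ χ : Cfsg.IrrCharacter G,
      w χ * ((χ : G → ℂ) g * conj ((χ : G → ℂ) (g ^ k))) = 0 := by
    intro g hg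
    have hE : Cfsg.IsClassFunction G fun x => conj (P x) := fun x y =>
      congrArg conj (IsChar.isClassFunction hPc x y)
    have h0 : ∀ χ : Cfsg.IrrCharacter G,
        (Nat.card G : ℂ) * (w χ * ((χ : G → ℂ) g * conj ((χ : G → ℂ) (g ^ k)))) =
          ∑ n : N, conj (P n) * ((χ : G → ℂ) ((n : G) * g) * conj ((χ : G → ℂ) (g ^ k))) := by
      intro χ
      simp only [← mul_assoc (conj (P _))]
      rw [← Finset.sum_mul, CharDegree.sum_mul_smul_eq N (fun x => conj (P x)) hE, hw]
      simp only [hwdef]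
      ring
    refine mul_left_cancel₀ hGne ?_
    rw [mul_zero, Finset.mul_sum, Finset.sum_congr rfl fun χ _ => h0 χ, Finset.sum_comm]
    refine Finset.sum_eq_zero fun n _ => ?_
    rw [← Finset.mul_sum, column_orthogonality, if_neg, mul_zero]
    intro hc
    have h1 := (QuotientGroup.mk' N).map_isConj hc
    rw [map_mul, map_pow, QuotientGroup.mk'_apply, QuotientGroup.mk'_apply,
      (QuotientGroup.eq_one_iff _).mpr n.2, one_mul, h.quotient_pow N hodd] at h1
    exact hg ((QuotientGroup.eq_one_iff g).mp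
      (eq_one_of_isConj_inv (by rwa [← Subgroup.index_eq_card]) h1))
  have hright : ∑ g : G, ∑ χ : Cfsg.IrrCharacter G,
      w χ * ((χ : G → ℂ) g * conj ((χ : G → ℂ) (g ^ k))) = (Nat.card G : ℂ) * (S / P 1) := by
    calc ∑ g : G, ∑ χ : Cfsg.IrrCharacter G,
          w χ * ((χ : G → ℂ) g * conj ((χ : G → ℂ) (g ^ k)))
        = ∑ n : N, ∑ χ : Cfsg.IrrCharacter G,
          w χ * ((χ : G → ℂ) n * conj ((χ : G → ℂ) ((n : G) ^ k))) := by
          rw [← Finset.sum_subtype (Finset.univ.filter fun g : G => g ∈ N) (fun g => by simp)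
            (fun g => ∑ χ : Cfsg.IrrCharacter G,
              w χ * ((χ : G → ℂ) g * conj ((χ : G → ℂ) (g ^ k)))),
            Finset.sum_filter]
          refine Finset.sum_congr rfl fun g _ => ?_
          split_ifs with hg
          · rfl
          · exact hoff g hg
      _ = ∑ χ : Cfsg.IrrCharacter G, (m χ : ℂ) * (χ : G → ℂ) 1 *
            ((Nat.card G : ℂ) * S / P 1 ^ 2) := by
          rw [Finset.sum_comm]
          refine Finset.sum_congr rfl fun χ _ => ?_
          by_cases hχ : m χ = 0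
          · simp [hwdef, hχ]
          · have hterm : ∀ n : N, (χ : G → ℂ) n * conj ((χ : G → ℂ) ((n : G) ^ k)) =
                ((χ : G → ℂ) 1 / P 1) ^ 2 * (conj (P n) * P n) := fun n => by
              have h1 := hres χ hχ (n ^ k)
              rw [SubgroupClass.coe_pow] at h1
              rw [h1, hres χ hχ n, hPk, map_mul, map_div₀, hdeg, hP1c]
              ring
            simp only [hterm]
            rw [← Finset.mul_sum, ← Finset.mul_sum, hPP, hwdef]
            field_simp [IsIrr.apply_one_ne_zero χ.2]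
      _ = _ := by
          rw [← Finset.sum_mul]
          have h1 : ∑ χ : Cfsg.IrrCharacter G, (m χ : ℂ) * (χ : G → ℂ) 1 = P 1 := by
            rw [hm]; simp
          rw [h1]
          field_simp
  rw [Finset.sum_comm] at hright
  simp only [← Finset.mul_sum, hleft] at hright
  set R := Finset.univ.filter (fun χ : Cfsg.IrrCharacter G => powIrr h χ = χ ∧ m χ ≠ 0) with hR
  have hcount : (R.card : ℂ) * ((Nat.card G : ℂ) * (S / P 1)) =
      (Nat.card G : ℂ) * (S / P 1) := by
    conv_rhs => rw [← hright]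
    rw [← nsmul_eq_mul, ← Finset.sum_const, hR, Finset.sum_filter]
    refine Finset.sum_congr rfl fun χ _ => ?_
    by_cases hc : powIrr h χ = χ
    · by_cases hχ : m χ = 0
      · simp [hwdef, hc, hχ]
      · rw [if_pos ⟨hc, hχ⟩, if_pos hc, hwdef]
        simp only
        rw [hmform χ hχ]
        ring
    · rw [if_neg (fun h => hc h.1), if_neg hc, mul_zero]
  have hS0 : S ≠ 0 := by
    obtain ⟨χ, hχ⟩ : ∃ χ, m χ ≠ 0 := by
      by_contra hno
      push Not at hno
      refine hP1 ?_
      rw [hm]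
      simp [hno]
    intro h0
    have h1 := hmform χ hχ
    rw [h0, zero_div, div_eq_zero_iff, Nat.cast_eq_zero] at h1
    exact h1.elim hχ (IsIrr.apply_one_ne_zero χ.2)
  have hcard : R.card = 1 := by
    have := (mul_eq_right₀ (mul_ne_zero hGne (div_ne_zero hS0 hP1))).mp hcount
    exact_mod_cast this
  obtain ⟨χ, hχ⟩ := Finset.card_eq_one.mp hcard
  have hmem : ∀ ψ, ψ ∈ R ↔ ((∀ g : G, (ψ : G → ℂ) (g ^ k) = (ψ : G → ℂ) g) ∧
      Cfsg.classInner (fun n : N => (ψ : G → ℂ) n) (φ : N → ℂ) ≠ 0) := fun ψ => by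
    simp [hR, powIrr, Subtype.ext_iff, funext_iff, hmult]
  refine ⟨χ, (hmem χ).mp (by simp [hχ]), fun ψ hψ => ?_⟩
  simpa [hχ] using (hmem ψ).mpr hψ


/-- A constituent multiplicity in prime index is one. -/
theorem classInner_eq_one_of_prime_index [Fintype N] {q : ℕ} (hq : q.Prime) (hidx : N.index = q)
    (χ : Cfsg.IrrCharacter G) (η : Cfsg.IrrCharacter N)
    (hη : Cfsg.classInner (fun n : N => (χ : G → ℂ) n) (η : N → ℂ) ≠ 0)
    (hres : ∀ n : N, (χ : G → ℂ) n =
      Cfsg.classInner (fun n : N => (χ : G → ℂ) n) (η : N → ℂ) * (η : N → ℂ) n) :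
    Cfsg.classInner (fun n : N => (χ : G → ℂ) n) (η : N → ℂ) = 1 := by
  obtain ⟨c, hc⟩ := IsChar.classInner_eq_natCast
    (IsChar.restrict N (IsIrr.isCharacter χ.2)) (IsIrr.isCharacter η.2)
  have hd1 := hres 1
  rw [OneMemClass.coe_one, hc, ← cast_irrDegree, ← cast_irrDegree] at hd1
  have hd : Cfsg.charDegree (χ : G → ℂ) = c * Cfsg.charDegree (η : N → ℂ) := by exact_mod_cast hd1
  obtain ⟨-, h2⟩ := Cfsg.Agent.S0887.result N χ χ.2 η η.2 hη _ _ (cast_irrDegree χ).symm
    (cast_irrDegree η).symm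
  rw [hd, Nat.mul_div_cancel _ (charDegree_pos η), hidx] at h2
  rcases (Nat.dvd_prime hq).1 h2 with h1 | h1
  · rw [hc, h1, Nat.cast_one]
  exfalso
  -- the norm of the restriction is at most the index
  have hn : (Nat.card N : ℝ) * (c : ℝ) ^ 2 ≤ Nat.card G := by
    rw [← sum_norm_sq χ]
    calc (Nat.card N : ℝ) * (c : ℝ) ^ 2 = (c : ℝ) ^ 2 * ∑ n : N, ‖(η : N → ℂ) n‖ ^ 2 := by
          rw [sum_norm_sq η]; ring
      _ = ∑ n : N, ‖(χ : G → ℂ) n‖ ^ 2 := by
          rw [Finset.mul_sum]
          refine Finset.sum_congr rfl fun n _ => ?_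
          rw [hres n, hc, norm_mul, Complex.norm_natCast, mul_pow]
      _ ≤ _ := by
          classical
          rw [← Finset.sum_subtype (Finset.univ.filter fun g : G => g ∈ N) (fun g => by simp)
            (fun g => ‖(χ : G → ℂ) g‖ ^ 2)]
          exact Finset.sum_le_sum_of_subset_of_nonneg (Finset.subset_univ _)
            fun _ _ _ => by positivity
  have h3 : Nat.card N * c ^ 2 ≤ Nat.card N * q := by
    rw [← hidx, Subgroup.card_mul_index]; exact_mod_cast hn
  have h4 := Nat.le_of_mul_le_mul_left h3 Nat.card_pos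
  rw [h1, sq] at h4
  exact absurd h4 (not_le.2 (lt_mul_of_one_lt_left hq.pos hq.one_lt))

/-- For prime-power odd index the fixed character over an invariant fixed character extends it. -/
theorem apply_eq_of_prime_pow_index {q : ℕ} [Fact q.Prime] (hq2 : q ≠ 2) :
    ∀ (j : ℕ) {G : Type*} [Group G] [Fintype G] {N : Subgroup G} [N.Normal] [Fintype N],
      OddInv G k e → N.index = q ^ j → ∀ φ : Cfsg.IrrCharacter N,
      (∀ n : N, (φ : N → ℂ) (n ^ k) = (φ : N → ℂ) n) →
      (∀ g : G, conjFn (inferInstance : N.Normal) (φ : N → ℂ) g = φ) →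
      ∀ χ : Cfsg.IrrCharacter G, (∀ g : G, (χ : G → ℂ) (g ^ k) = (χ : G → ℂ) g) →
      Cfsg.classInner (fun n : N => (χ : G → ℂ) n) (φ : N → ℂ) ≠ 0 →
      ∀ n : N, (χ : G → ℂ) n = (φ : N → ℂ) n := by
  intro j
  induction j with
  | zero =>
    intro G _ _ N _ _ _ hidx φ _ _ χ _ hover n
    classical
    rw [pow_zero, Subgroup.index_eq_one] at hidx
    subst hidx
    let f : G →* (⊤ : Subgroup G) := (Subgroup.topEquiv : (⊤ : Subgroup G) ≃* G).symm.toMonoidHom
    have hirr : Cfsg.IsIrrCharacter (⊤ : Subgroup G) (fun m : (⊤ : Subgroup G) => (χ : G → ℂ) m) :=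
      IsIrr.comp_surjective (Subgroup.topEquiv : (⊤ : Subgroup G) ≃* G).toMonoidHom
        (MulEquiv.surjective _) χ.2
    by_contra hne
    exact hover (classInner_irr_of_ne (χ := ⟨_, hirr⟩) (ψ := φ) fun e =>
      hne (congrFun (congrArg Subtype.val e) n))
  | succ j ih =>
    intro G _ _ N _ _ hk' hidx φ hφ hinv χ hχ hover n
    classical
    have hN : N.Normal := inferInstance
    have hq : q.Prime := Fact.out
    have hoddN : Odd N.index := hidx ▸ (hq.odd_of_ne_two hq2).pow
    have hcard : Nat.card (G ⧸ N) = q ^ (j + 1) := by rw [← Subgroup.index_eq_card, hidx]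
    obtain ⟨K, hK⟩ := Sylow.exists_subgroup_card_pow_prime (G := G ⧸ N) q
      (show q ^ j ∣ _ by rw [hcard]; exact pow_dvd_pow q (Nat.le_succ j))
    have hKi : K.index = q := by
      have h := K.card_mul_index
      rw [hK, hcard, pow_succ] at h
      exact Nat.eq_of_mul_eq_mul_left (pow_pos hq.pos j) h
    have hKn : K.Normal := Subgroup.normal_of_index_eq_minFac_card (by
      rw [hKi, hcard, Nat.pow_minFac (Nat.succ_ne_zero j), hq.minFac_eq])
    set L := K.comap (QuotientGroup.mk' N) with hL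
    have hLn : L.Normal := hKn.comap _
    have hLi : L.index = q := by
      rw [hL, Subgroup.index_comap_of_surjective _ (QuotientGroup.mk'_surjective N), hKi]
    have hNL : N ≤ L := fun x hx => by
      rw [hL, Subgroup.mem_comap, QuotientGroup.mk'_apply, (QuotientGroup.eq_one_iff x).2 hx]
      exact K.one_mem
    have hLodd : Odd L.index := hLi ▸ hq.odd_of_ne_two hq2
    have := Fintype.ofFinite L
    obtain ⟨η, hη⟩ := CfsgLib.Blocks.exists_constituent L χ
    have : Fact (Nat.Prime 2) := ⟨Nat.prime_two⟩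
    have hηk : ∀ m : L, (η : L → ℂ) (m ^ k) = (η : L → ℂ) m :=
      apply_pow_of_constituent (p := 2) L hLodd.not_two_dvd_nat hk'.coprime hk'.order χ hχ η hη
    set N' := N.subgroupOf L
    have hN'i : N'.index = q ^ j := by
      have h := Subgroup.relIndex_mul_index hNL
      rw [hLi, hidx, pow_succ] at h
      exact Nat.eq_of_mul_eq_mul_right hq.pos h
    have hN'odd : Odd N'.index := hN'i ▸ (hq.odd_of_ne_two hq2).pow
    have := Fintype.ofFinite N'
    let i : N' ≃* N := Subgroup.subgroupOfEquivOfLe hNL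
    let φ' : Cfsg.IrrCharacter N' := ⟨(φ : N → ℂ) ∘ i,
      IsIrr.comp_surjective i.toMonoidHom i.surjective φ.2⟩
    have hφ' : ∀ m : N', (φ' : N' → ℂ) (m ^ k) = (φ' : N' → ℂ) m := fun m => by
      show (φ : N → ℂ) (i (m ^ k)) = (φ : N → ℂ) (i m)
      rw [map_pow, hφ]
    have hinv' : ∀ g : L, conjFn (inferInstance : N'.Normal) (φ' : N' → ℂ) g = φ' := fun g =>
      funext fun m => (congrArg (φ : N → ℂ) (Subtype.ext rfl)).trans (congrFun (hinv g) (i m))
    have huniq := existsUnique_fixed_over (G := L) N' (hk'.subgroup L) hN'odd φ' hφ'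
    -- `η` lies over `φ`
    obtain ⟨η₀, ⟨hη₀k, hη₀⟩, -⟩ := huniq
    have hresN : ∀ m : N, (χ : G → ℂ) m =
        Cfsg.classInner (fun n : N => (χ : G → ℂ) n) (φ : N → ℂ) * (φ : N → ℂ) m := by
      intro m
      have h := congrFun (restrict_eq_smul_orbit_sum hN χ.2 φ.2 hover) m
      have hO : Finset.univ.image (conjFn hN (φ : N → ℂ)) = {(φ : N → ℂ)} :=
        Finset.eq_singleton_iff_unique_mem.2
          ⟨Finset.mem_image.2 ⟨1, Finset.mem_univ _, hinv 1⟩, fun ψ hψ => by
            obtain ⟨g, -, rfl⟩ := Finset.mem_image.1 hψ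
            exact hinv g⟩
      rw [hO, Finset.sum_singleton] at h
      simpa using h
    have hηover : Cfsg.classInner (fun m : N' => (η : L → ℂ) m) (φ' : N' → ℂ) ≠ 0 := by
      obtain ⟨θ₁, hθ₁⟩ := CfsgLib.Blocks.exists_constituent N' η
      have hθ : θ₁ = φ' := by
        by_contra hne
        have := Fintype.ofFinite (Cfsg.IrrCharacter L)
        obtain ⟨a, ha⟩ := IsChar.exists_sum (IsChar.restrict L (IsIrr.isCharacter χ.2))
        have ha' : (fun m : L => (χ : G → ℂ) m) = ∑ ψ, (a ψ : ℂ) • (ψ : L → ℂ) := ha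
        have haη : a η ≠ 0 := fun h0 => hη (by
          rw [ha', classInner_sum_irr, h0, Nat.cast_zero])
        have hz : Cfsg.classInner (fun m : N' => (χ : G → ℂ) ((m : L) : G)) (θ₁ : N' → ℂ) = 0 := by
          rw [show (fun m : N' => (χ : G → ℂ) ((m : L) : G)) =
            Cfsg.classInner (fun n : N => (χ : G → ℂ) n) (φ : N → ℂ) • (φ' : N' → ℂ) from
              funext fun m => by
                show (χ : G → ℂ) ((i m : N) : G) = _
                rw [hresN]
                rfl, classInner_smul_left, classInner_irr_of_ne (Ne.symm hne), mul_zero]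
        rw [show (fun m : N' => (χ : G → ℂ) ((m : L) : G)) =
            ∑ ψ, (a ψ : ℂ) • fun m : N' => (ψ : L → ℂ) m from funext fun m => by
          rw [congrFun ha' (m : L)]; simp, classInner_sum_left] at hz
        simp only [classInner_smul_left] at hz
        have hnat : ∀ ψ : Cfsg.IrrCharacter L, ∃ b : ℕ,
            Cfsg.classInner (fun m : N' => (ψ : L → ℂ) m) (θ₁ : N' → ℂ) = b := fun ψ =>
          IsChar.classInner_eq_natCast (IsChar.restrict N' (IsIrr.isCharacter ψ.2))
            (IsIrr.isCharacter θ₁.2)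
        choose b hb using hnat
        simp only [hb] at hz
        have hz' : ∑ ψ, a ψ * b ψ = 0 := by exact_mod_cast hz
        have hzη := Finset.sum_eq_zero_iff.1 hz' η (Finset.mem_univ _)
        exact hθ₁ (by rw [hb, (mul_eq_zero.1 hzη).resolve_left haη, Nat.cast_zero])
      exact hθ ▸ hθ₁
    have hηφ : ∀ m : N', (η : L → ℂ) m = (φ' : N' → ℂ) m :=
      ih (hk'.subgroup L) hN'i φ' hφ' hinv' η hηk hηover
    -- `η` is invariant
    have hηinv : ∀ g : G, conjFn hLn (η : L → ℂ) g = η := by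
      intro g
      let η' : Cfsg.IrrCharacter L := ⟨_, isIrrCharacter_conjFn hLn η.2 g⟩
      have h1 : ∀ m : L, (η' : L → ℂ) (m ^ k) = (η' : L → ℂ) m := fun m => by
        show (η : L → ℂ) _ = (η : L → ℂ) _
        rw [← hηk ⟨g * m * g⁻¹, _⟩]
        exact congrArg _ (Subtype.ext (by simp [conj_pow]))
      have h2 : Cfsg.classInner (fun m : N' => (η' : L → ℂ) m) (φ' : N' → ℂ) ≠ 0 := by
        rw [show (fun m : N' => (η' : L → ℂ) m) = (φ' : N' → ℂ) from funext fun m => by
          have hmem : g * ((m : L) : G) * g⁻¹ ∈ N := hN.conj_mem _ m.2 g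
          refine (hηφ ⟨⟨g * ((m : L) : G) * g⁻¹, hNL hmem⟩, hmem⟩).trans ?_
          exact (congrArg (φ : N → ℂ) (Subtype.ext rfl)).trans (congrFun (hinv g) (i m)),
          classInner_irr_self]
        exact one_ne_zero
      have hu := existsUnique_fixed_over (G := L) N' (hk'.subgroup L) hN'odd φ' hφ'
      exact congrArg Subtype.val (hu.unique ⟨h1, h2⟩ ⟨hηk, hηover⟩)
    have hresL : ∀ m : L, (χ : G → ℂ) m =
        Cfsg.classInner (fun n : L => (χ : G → ℂ) n) (η : L → ℂ) * (η : L → ℂ) m := by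
      intro m
      have h := congrFun (restrict_eq_smul_orbit_sum hLn χ.2 η.2 hη) m
      have hO : Finset.univ.image (conjFn hLn (η : L → ℂ)) = {(η : L → ℂ)} :=
        Finset.eq_singleton_iff_unique_mem.2
          ⟨Finset.mem_image.2 ⟨1, Finset.mem_univ _, hηinv 1⟩, fun ψ hψ => by
            obtain ⟨g, -, rfl⟩ := Finset.mem_image.1 hψ
            exact hηinv g⟩
      rw [hO, Finset.sum_singleton] at h
      simpa using h
    have h1 := classInner_eq_one_of_prime_index L hq hLi χ η hη hresL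
    have h2 := hresL ⟨n, hNL n.2⟩
    rw [h1, one_mul] at h2
    exact h2.trans (hηφ ⟨⟨n, hNL n.2⟩, n.2⟩)

/-- The fixed character over an invariant fixed character is an extension. -/
theorem exists_fixed_extension (h : OddInv G k e) [Fintype N] (hodd : Odd N.index)
    (φ : Cfsg.IrrCharacter N) (hφ : ∀ n : N, (φ : N → ℂ) (n ^ k) = (φ : N → ℂ) n)
    (hinv : ∀ g : G, conjFn (inferInstance : N.Normal) (φ : N → ℂ) g = φ) :
    ∃ χ : Cfsg.IrrCharacter G, (∀ g : G, (χ : G → ℂ) (g ^ k) = (χ : G → ℂ) g) ∧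
      ∀ n : N, (χ : G → ℂ) n = (φ : N → ℂ) n := by
  classical
  obtain ⟨d, σ, hσ, hσc⟩ := φ.2
  have := hσ
  have hinvσ : ∀ g n, σ.character (CharExt.cn g n) = σ.character n := fun g n => by
    rw [hσc]; exact congrFun (hinv g) n
  obtain ⟨ρ, hρ⟩ := CharExt.exists_extension_of_family σ hinvσ (fun p hp => by
    have : Fact p.Prime := ⟨hp⟩
    let Q : Sylow p (G ⧸ N) := Classical.arbitrary _
    let P := (Q : Subgroup (G ⧸ N)).comap (QuotientGroup.mk' N)
    have hNP : N ≤ P := fun x hx => by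
      rw [Subgroup.mem_comap, QuotientGroup.mk'_apply, (QuotientGroup.eq_one_iff x).2 hx]
      exact one_mem _
    have hPi : ¬ p ∣ P.index := by
      rw [Subgroup.index_comap_of_surjective _ (QuotientGroup.mk'_surjective N)]
      exact Sylow.not_dvd_index Q
    have := Fintype.ofFinite P
    let N' := N.subgroupOf P
    have hidx : N'.index = Nat.card Q := by
      have h1 := Subgroup.relIndex_mul_index hNP
      rw [Subgroup.index_comap_of_surjective _ (QuotientGroup.mk'_surjective N),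
        Subgroup.index_eq_card N, ← (Q : Subgroup (G ⧸ N)).card_mul_index] at h1
      exact Nat.eq_of_mul_eq_mul_right (Nat.pos_of_ne_zero Subgroup.index_ne_zero_of_finite) h1
    obtain ⟨j, hj⟩ := IsPGroup.iff_card.1 Q.2
    have := Fintype.ofFinite N'
    let i : N' ≃* N := Subgroup.subgroupOfEquivOfLe hNP
    let φ' : Cfsg.IrrCharacter N' := ⟨(φ : N → ℂ) ∘ i,
      IsIrr.comp_surjective i.toMonoidHom i.surjective φ.2⟩
    have hφ' : ∀ m : N', (φ' : N' → ℂ) (m ^ k) = (φ' : N' → ℂ) m := fun m => by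
      show (φ : N → ℂ) (i (m ^ k)) = (φ : N → ℂ) (i m)
      rw [map_pow, hφ]
    have hodd' : Odd N'.index := by
      rw [hidx]
      exact Odd.of_dvd_nat hodd (Subgroup.index_eq_card N ▸
        (Q : Subgroup (G ⧸ N)).card_subgroup_dvd_card)
    obtain ⟨τc, ⟨hτk, hτ⟩, -⟩ := existsUnique_fixed_over N' (h.subgroup P) hodd' φ' hφ'
    have hext : ∀ m : N', (τc : P → ℂ) m = (φ' : N' → ℂ) m := by
      by_cases hp2 : p = 2
      · -- then `j = 0`
        have hj0 : j = 0 := by
          by_contra hj0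
          rw [hidx, show Nat.card Q = p ^ j from hj, hp2] at hodd'
          exact Nat.not_odd_iff_even.2 ((Nat.even_pow' hj0).2 even_two) hodd'
        have : Fact (Nat.Prime 3) := ⟨Nat.prime_three⟩
        exact apply_eq_of_prime_pow_index (q := 3) (by norm_num) 0 (h.subgroup P)
          (by rw [hidx, show Nat.card Q = p ^ j from hj, hj0, pow_zero, pow_zero]) φ' hφ'
          (fun g => funext fun m => (congrArg (φ : N → ℂ) (Subtype.ext rfl)).trans
            (congrFun (hinv g) (i m))) τc hτk hτ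
      · exact apply_eq_of_prime_pow_index hp2 j (h.subgroup P) (hidx.trans hj) φ' hφ'
          (fun g => funext fun m => (congrArg (φ : N → ℂ) (Subtype.ext rfl)).trans
            (congrFun (hinv g) (i m))) τc hτk hτ
    obtain ⟨d', τ, -, hτc⟩ := τc.2
    let f : N →* P := Subgroup.inclusion hNP
    obtain ⟨E⟩ := nonempty_equiv_of_character_eq (τ.comp f) σ (funext fun n => by
      show τ.character (f n) = _
      rw [hτc, hσc]
      exact hext ⟨f n, n.2⟩)
    refine ⟨P, hNP,
      { toFun := fun x => E.toLinearEquiv.conj (τ x)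
        map_one' := by rw [map_one]; exact E.toLinearEquiv.conj_id
        map_mul' := fun a b => by rw [map_mul]; exact E.toLinearEquiv.conj_comp _ _ }, hPi,
      fun n => E.conj_apply_self n⟩)
  -- the extensions form a torsor of odd size
  let χ₀ : G → ℂ := ρ.character
  have hχ₀ : Cfsg.IsCharacter G χ₀ := isCharacter_rep ρ
  have hres0 : (fun n : N => χ₀ n) = (φ : N → ℂ) := by
    funext n
    show ρ.character n = _
    rw [← hσc, Representation.character, Representation.character, hρ]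
  have hres : Cfsg.IsIrrCharacter N fun n : N => χ₀ n := hres0 ▸ φ.2
  let Y := {β : Cfsg.IrrCharacter (G ⧸ N) // (β : G ⧸ N → ℂ) 1 = 1}
  let X := {ψ : Cfsg.IrrCharacter G // ∀ n : N, (ψ : G → ℂ) n = (φ : N → ℂ) n}
  have : Fintype Y := Fintype.ofFinite _
  have : Fintype X := Fintype.ofFinite _
  let T : Y → X := fun β => ⟨⟨_, Gallagher.isIrr_twistBy hχ₀ hres β.1⟩, fun n => by
    show Gallagher.twistBy χ₀ (β.1 : G ⧸ N → ℂ) n = _
    rw [Gallagher.twistBy_apply_coe, β.2, one_mul]
    exact congrFun hres0 n⟩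
  have hT : Function.Bijective T := by
    refine ⟨fun a b hab => Subtype.ext (Gallagher.twistBy_injective hχ₀ hres
      (congrArg (fun x : X => (x.1 : G → ℂ)) hab)), fun ψ => ?_⟩
    obtain ⟨β, hβ⟩ := Gallagher.exists_eq_twistBy hχ₀ hres ψ.1 (by
      rw [show (fun n : N => (ψ.1 : G → ℂ) n) = (φ : N → ℂ) from funext ψ.2, hres0,
        classInner_irr_self]
      exact one_ne_zero)
    have hβ1 : (β : G ⧸ N → ℂ) 1 = 1 := by
      have h1 := ψ.2 1
      rw [hβ, Gallagher.twistBy_apply_coe, congrFun hres0 1] at h1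
      exact mul_right_cancel₀ (IsIrr.apply_one_ne_zero φ.2) (h1.trans (one_mul _).symm)
    exact ⟨⟨β, hβ1⟩, Subtype.ext (Subtype.ext hβ.symm)⟩
  have h2 : Fact (Nat.Prime 2) := ⟨Nat.prime_two⟩
  have hYodd : ¬ 2 ∣ Fintype.card Y := by
    intro hd
    let σY : Y → Y := fun β => ⟨conjIrr β.1, by rw [conjIrr_apply, β.2, map_one]⟩
    have hinvol : Function.Involutive σY := fun β =>
      Subtype.ext (Subtype.ext (funext fun x => by simp [σY, conjIrr_apply]))
    let one : Y := ⟨trivChar (G ⧸ N), rfl⟩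
    obtain ⟨b, hb, hb1⟩ := Equiv.Perm.exists_fixed_point_of_prime' (n := 1) hd
      (σ := hinvol.toPerm σY) (Equiv.ext fun x => hinvol x) (a := one)
      (Subtype.ext (Subtype.ext (funext fun x => by
        show conj ((trivChar (G ⧸ N) : G ⧸ N → ℂ) x) = _
        exact map_one _)))
    refine hb1 (Subtype.ext (real_irr_eq_one_of_odd (Subgroup.index_eq_card N ▸ hodd) b.1 ?_))
    exact (conjIrr_eq_iff b.1).1 (congrArg Subtype.val hb)
  have hXodd : ¬ 2 ∣ Fintype.card X := by rwa [← Fintype.card_of_bijective hT]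
  let σX : X → X := fun ψ => ⟨powIrr h ψ.1, fun n => by
    show (ψ.1 : G → ℂ) ((n : G) ^ k) = _
    rw [← SubgroupClass.coe_pow, ψ.2, hφ]⟩
  have hinj : Function.Injective σX := fun a b hab => Subtype.ext (Subtype.ext (funext fun g => by
    obtain ⟨g', rfl⟩ := (powCoprime h.coprime.symm).surjective g
    exact congrFun (congrArg (fun x : X => (x.1 : G → ℂ)) hab) g'))
  let π : Equiv.Perm X := Equiv.ofBijective σX (Finite.injective_iff_bijective.1 hinj)
  have hiter : ∀ (i : ℕ) (ψ : X) (g : G), (((π ^ i) ψ).1 : G → ℂ) g = (ψ.1 : G → ℂ) (g ^ (k ^ i)) := by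
    intro i
    induction i with
    | zero => intro ψ g; simp
    | succ i ih =>
      intro ψ g
      rw [pow_succ, Equiv.Perm.mul_apply, ih (π ψ) g]
      show (ψ.1 : G → ℂ) ((g ^ (k ^ i)) ^ k) = _
      rw [← pow_mul, ← pow_succ]
  have hπ : π ^ 2 ^ e = 1 := Equiv.ext fun ψ => Subtype.ext (Subtype.ext (funext fun g => by
    rw [hiter, Equiv.Perm.one_apply]
    refine congrArg _ ?_
    exact (pow_eq_pow_iff_modEq.2 (h.order.of_dvd (orderOf_dvd_natCard g))).trans (pow_one g)))
  obtain ⟨ψ, hψ⟩ := Equiv.Perm.exists_fixed_point_of_prime hXodd hπ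
  exact ⟨ψ.1, fun g => congrFun (congrArg (fun x : X => (x.1 : G → ℂ)) hψ) g, ψ.2⟩

end CfsgLib.CharAction
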