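import Cfsg.Agent.Lib.CharAction.Over
import Cfsg.Agent.Lib.Core.MinNormal
import Cfsg.Agent.Lib.Core.Cores
import Mathlib.GroupTheory.Solvable

/-!
# Invariant characters over invariant characters of normal subgroups (coprime actions)
-/

namespace CfsgLib.CharAction

open scoped ComplexConjugate

section Abelian

variable {G D : Type*} [Group G] [Group D] [Fintype G] [Fintype D] (ι : D →* G)
  (hι : Function.Injective ι) (hn : ι.range.Normal)

include hι hn in
/-- With abelian quotient, two characters over `θ` differ by a linear character. -/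
theorem exists_twist_eq (hab : ∀ g h : G, g * h * g⁻¹ * h⁻¹ ∈ ι.range) {θ : Cfsg.IrrCharacter D}
    {χ χ' : Cfsg.IrrCharacter G} (h : mult ι χ θ ≠ 0) (h' : mult ι χ' θ ≠ 0) :
    ∃ l : G →* ℂˣ, (∀ d, l (ι d) = 1) ∧ χ' = CharDegree.twist χ l := by
  classical
  set N := ι.range with hN
  have := hn
  have := Fintype.ofFinite N
  have := Fintype.ofFinite (Cfsg.IrrCharacter (G ⧸ N))
  have hne := classInner_ne_zero_of_common ι h h'
  have e : Cfsg.classInner (fun c : D => (χ : G → ℂ) (ι c)) (fun c : D => (χ' : G → ℂ) (ι c)) =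
      Cfsg.classInner (fun n : N => (χ : G → ℂ) n) (fun n : N => (χ' : G → ℂ) n) :=
    Clifford.classInner_comp_equiv (MonoidHom.ofInjective hι) (fun n : N => (χ : G → ℂ) n)
      (fun n : N => (χ' : G → ℂ) n)
  rw [e, ← Char.frobenius_reciprocity N _ (Char.IsIrr.isClassFunction χ'.2),
    Gallagher.indFun_restrict_eq_sum (Char.IsIrr.isClassFunction χ.2), Char.classInner_sum_left] at hne
  obtain ⟨β, -, hβ⟩ := Finset.exists_ne_zero_of_sum_ne_zero hne
  rw [Char.classInner_smul_left] at hβ
  have hcomm : ∀ a b : G ⧸ N, a * b = b * a := fun a b =>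
    QuotientGroup.induction_on a fun g => QuotientGroup.induction_on b fun k => by
      rw [← mul_inv_eq_one, mul_inv_rev, ← mul_assoc]
      exact (QuotientGroup.eq_one_iff _).mpr (hab g k)
  obtain ⟨l, hl⟩ := Char.exists_linear_of_degree_one (Char.IsIrr.isCharacter β.2)
    (Clifford.apply_one_eq_one_of_commute hcomm β)
  let L : G →* ℂˣ := l.comp (QuotientGroup.mk' N)
  refine ⟨L, fun d => ?_, by_contra fun hne' => right_ne_zero_of_mul hβ ?_⟩
  · show l _ = 1
    rw [show QuotientGroup.mk' N (ι d) = 1 from (QuotientGroup.eq_one_iff _).mpr ⟨d, rfl⟩,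
      map_one]
  · have htw : Gallagher.twistBy (χ : G → ℂ) (β : G ⧸ N → ℂ) = (CharDegree.twist χ L : G → ℂ) :=
      funext fun g => by
        rw [Gallagher.twistBy_apply, CharDegree.twist_apply, mul_comm]
        exact congrArg _ (congrFun hl _)
    rw [htw]
    exact Char.classInner_irr_of_ne (Ne.symm hne')

theorem mult_twist {θ : Cfsg.IrrCharacter D} (χ : Cfsg.IrrCharacter G) (l : G →* ℂˣ)
    (hl : ∀ d, l (ι d) = 1) : mult ι (CharDegree.twist χ l) θ = mult ι χ θ := by
  apply Nat.cast_injective (R := ℂ)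
  rw [← classInner_eq_mult, ← classInner_eq_mult]
  congr 1
  funext d
  rw [CharDegree.twist_apply, hl, Units.val_one, mul_one]

variable {A : Type*} [Group A] [Finite A] [MulDistribMulAction A G] [MulDistribMulAction A D]

include hι hn in
/-- The abelian step. -/
theorem exists_inv_over_abelian (he : ∀ (a : A) (d : D), ι (a • d) = a • ι d)
    (hab : ∀ g h : G, g * h * g⁻¹ * h⁻¹ ∈ ι.range) (A₀ : Subgroup A) [A₀.Normal]
    (hinner : ∀ a ∈ A₀, ∃ d : D, ∀ g : G, a • g = ι d * g * (ι d)⁻¹)
    (hcop : A₀.index.Coprime ι.range.index) (θ : Cfsg.IrrCharacter D)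
    (hθ : IsInv A (θ : D → ℂ)) :
    ∃ χ : Cfsg.IrrCharacter G, IsInv A (χ : G → ℂ) ∧ mult ι χ θ ≠ 0 := by
  classical
  let : MulAction A (Cfsg.IrrCharacter G) := charAction
  let : MulAction A (Cfsg.IrrCharacter D) := charAction
  obtain ⟨χ₀, hχ₀⟩ := exists_over ι hι θ
  -- the linear characters killing the image
  let L : Subgroup (G →* ℂˣ) :=
    { carrier := {l | ∀ d, l (ι d) = 1}
      one_mem' := fun d => rfl
      mul_mem' := fun {l m} hl hm d => by simp [hl d, hm d]
      inv_mem' := fun {l} hl d => by simp [hl d] }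
  let act : A → (G →* ℂˣ) → (G →* ℂˣ) := fun a l =>
    l.comp (MulDistribMulAction.toMonoidHom G a⁻¹)
  have hact : ∀ a, ∀ l ∈ L, act a l ∈ L := fun a l hl d => by
    show l (a⁻¹ • ι d) = 1
    rw [← he]; exact hl _
  have hsm : ∀ (a : A) (χ : Cfsg.IrrCharacter G) (l : G →* ℂˣ),
      a • CharDegree.twist χ l = CharDegree.twist (a • χ) (act a l) :=
    fun a χ l => Char.irr_ext fun g => rfl
  have htt : ∀ (χ : Cfsg.IrrCharacter G) (l m : G →* ℂˣ),
      CharDegree.twist (CharDegree.twist χ l) m = CharDegree.twist χ (l * m) :=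
    fun χ l m => Char.irr_ext fun g => by simp [mul_assoc]
  have hcm : ∀ l m : G →* ℂˣ, l * m = m * l := fun l m =>
    MonoidHom.ext fun g => mul_comm (l g) (m g)
  have hinv1 : ∀ l : G →* ℂˣ, l * l⁻¹ = 1 := fun l => MonoidHom.ext fun g => mul_inv_cancel (l g)
  let D₀ : Subgroup (G →* ℂˣ) :=
    { carrier := {l | CharDegree.twist χ₀ l = χ₀}
      one_mem' := Char.irr_ext fun g => by simp
      mul_mem' := fun {l m} hl hm => by
        show CharDegree.twist χ₀ (l * m) = χ₀
        rw [← htt, hl, hm]
      inv_mem' := fun {l} hl => by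
        show CharDegree.twist χ₀ l⁻¹ = χ₀
        conv_lhs => rw [← hl, htt]
        rw [hinv1]
        exact Char.irr_ext fun g => by simp }
  have : D₀.Normal := ⟨fun l hl m => by
    rwa [show m * l * m⁻¹ = l from MonoidHom.ext fun g => mul_inv_cancel_comm (m g) (l g)]⟩
  have hEq : ∀ l m : G →* ℂˣ, CharDegree.twist χ₀ l = CharDegree.twist χ₀ m →
      (l : (G →* ℂˣ) ⧸ D₀) = m := fun l m h => by
    rw [QuotientGroup.eq]
    show CharDegree.twist χ₀ (l⁻¹ * m) = χ₀
    rw [hcm, ← htt, ← h, htt, hinv1]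
    exact Char.irr_ext fun g => by simp
  have hfix : ∀ a ∈ A₀, a • χ₀ = χ₀ := fun a ha => Char.irr_ext fun g => by
    obtain ⟨d, hd⟩ := hinner a⁻¹ (inv_mem ha)
    show (χ₀ : G → ℂ) (a⁻¹ • g) = _
    rw [hd]
    exact Char.IsIrr.isClassFunction χ₀.2 g (ι d)
  -- `a • χ₀` is a twist of `χ₀`
  have hex : ∀ a : A, ∃ l ∈ L, a • χ₀ = CharDegree.twist χ₀ l := fun a => by
    refine exists_twist_eq ι hι hn hab hχ₀ ?_
    have h := mult_smul ι he a χ₀ θ
    rw [smul_eq_self_of_isInv hθ] at h
    rwa [h]
  choose c hcL hc using hex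
  have : Fintype (A ⧸ A₀) := Fintype.ofFinite _
  let P : G →* ℂˣ := ∏ q : A ⧸ A₀, c q.out
  have hPL : P ∈ L := prod_mem fun q _ => hcL _
  have hactmul : ∀ a (l m : G →* ℂˣ), act a (l * m) = act a l * act a m := fun a l m => rfl
  let actHom : A → ((G →* ℂˣ) →* (G →* ℂˣ)) := fun a => MonoidHom.mk' (act a) (hactmul a)
  have key : ∀ a : A, (act a P * c a ^ A₀.index : G →* ℂˣ) = (P : (G →* ℂˣ) ⧸ D₀) := by
    intro a
    have h1 : act a P = ∏ q : A ⧸ A₀, act a (c q.out) := map_prod (actHom a) _ _
    have hterm : ∀ q : A ⧸ A₀, ((act a (c q.out) * c a : G →* ℂˣ) : (G →* ℂˣ) ⧸ D₀) =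
        c ((a : A ⧸ A₀) * q).out := by
      intro q
      apply hEq
      obtain ⟨a₀, ha₀, he'⟩ : ∃ a₀ ∈ A₀, a * q.out = ((a : A ⧸ A₀) * q).out * a₀ := by
        refine ⟨(((a : A ⧸ A₀) * q).out)⁻¹ * (a * q.out), ?_, (mul_inv_cancel_left _ _).symm⟩
        rw [← QuotientGroup.eq, QuotientGroup.out_eq', QuotientGroup.mk_mul, QuotientGroup.out_eq']
      calc CharDegree.twist χ₀ (act a (c q.out) * c a)
          = CharDegree.twist (CharDegree.twist χ₀ (c a)) (act a (c q.out)) := by
            rw [htt, hcm]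
        _ = (a * q.out) • χ₀ := by rw [← hc, ← hsm, ← hc, mul_smul]
        _ = CharDegree.twist χ₀ (c ((a : A ⧸ A₀) * q).out) := by
            rw [he', mul_smul, hfix _ ha₀, hc]
    have h2 : (∏ q : A ⧸ A₀, (act a (c q.out) * c a) : G →* ℂˣ) = act a P * c a ^ A₀.index := by
      rw [Finset.prod_mul_distrib, Finset.prod_const, Finset.card_univ, ← h1,
        ← Nat.card_eq_fintype_card, ← Subgroup.index_eq_card]
    rw [← h2]
    show QuotientGroup.mk' D₀ _ = QuotientGroup.mk' D₀ P
    rw [map_prod, map_prod]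
    exact Fintype.prod_equiv (Equiv.mulLeft (a : A ⧸ A₀)) _ _ hterm
  obtain ⟨e, he1⟩ : ∃ e : ℕ, ∀ l ∈ L, l ^ (A₀.index * e) = l := by
    have := hn
    have hl : ∀ l ∈ L, ∀ g, (l g) ^ ι.range.index = 1 := fun l hl g => by
      obtain ⟨d, hd⟩ := ι.range.pow_index_mem g
      rw [← map_pow, ← hd, hl]
    rcases eq_or_ne ι.range.index 1 with h1 | h1
    · exact ⟨0, fun l hl' => MonoidHom.ext fun g => by
        have := hl l hl' g
        rw [h1, pow_one] at this
        rw [MonoidHom.pow_apply, this, one_pow]⟩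
    · obtain ⟨e, he⟩ := Nat.exists_mul_mod_eq_one_of_coprime hcop
        (Nat.one_lt_iff_ne_zero_and_ne_one.mpr ⟨Subgroup.index_ne_zero_of_finite, h1⟩)
      exact ⟨e, fun l hl' => MonoidHom.ext fun g => by
        rw [MonoidHom.pow_apply, ← Nat.mod_add_div (A₀.index * e) ι.range.index, he.2, pow_add,
          pow_one, pow_mul, hl l hl' g, one_pow, mul_one]⟩
  refine ⟨CharDegree.twist χ₀ (P ^ e), isInv_of_smul_eq fun a => ?_, ?_⟩
  · show a • CharDegree.twist χ₀ (P ^ e) = CharDegree.twist χ₀ (P ^ e)
    rw [hsm, hc, htt]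
    have h := congrArg (fun x : (G →* ℂˣ) ⧸ D₀ => x ^ e) (key a)
    have hact_pow : act a (P ^ e) = act a P ^ e := map_pow (actHom a) P e
    have h' : ((c a * act a (P ^ e) : G →* ℂˣ) : (G →* ℂˣ) ⧸ D₀) = ((P ^ e : G →* ℂˣ) : _) := by
      rw [hact_pow, hcm]
      have h3 : (act a P * c a ^ A₀.index) ^ e = act a P ^ e * c a := by
        conv_rhs => rw [← he1 _ (hcL a)]
        exact MonoidHom.ext fun g => by simp [MonoidHom.pow_apply, mul_pow, pow_mul]
      rw [← h3, QuotientGroup.mk_pow, QuotientGroup.mk_pow]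
      exact h
    rw [QuotientGroup.eq] at h'
    calc CharDegree.twist χ₀ (c a * act a (P ^ e))
        = CharDegree.twist (CharDegree.twist χ₀ ((c a * act a (P ^ e))⁻¹ * P ^ e))
            (c a * act a (P ^ e)) := by rw [show CharDegree.twist χ₀ _ = χ₀ from h']
      _ = CharDegree.twist χ₀ (P ^ e) := by
          rw [htt]
          exact congrArg _ (MonoidHom.ext fun g => by simp [mul_comm, mul_left_comm])
  · rw [mult_twist ι χ₀ _ (pow_mem hPL e)]
    exact hχ₀

end Abelian

section SolvableQuotient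

universe u

/-- Invariant characters exist over invariant characters when the quotient is solvable. -/
theorem exists_inv_over_of_solvable_quotient {A : Type*} [Group A] [Finite A] (n : ℕ) :
    ∀ (G : Type u) [Group G] [Fintype G] [MulDistribMulAction A G] (N : Subgroup G) [Fintype N]
      [MulDistribMulAction A N], Nat.card G ≤ n → ∀ [hN : N.Normal],
      (∀ (a : A) (d : N), ((a • d : N) : G) = a • (d : G)) →
      Group.IsSolvable (G ⧸ N) → ∀ (A₀ : Subgroup A) [A₀.Normal],
      (∀ a ∈ A₀, ∃ d : N, ∀ g : G, a • g = (d : G) * g * (d : G)⁻¹) →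
      A₀.index.Coprime N.index → ∀ θ : Cfsg.IrrCharacter N, IsInv A (θ : N → ℂ) →
      ∃ χ : Cfsg.IrrCharacter G, IsInv A (χ : G → ℂ) ∧ mult N.subtype χ θ ≠ 0 := by
  induction n with
  | zero =>
    intro G _ _ _ N _ _ h
    exact absurd h (by have := Nat.card_pos (α := G); omega)
  | succ n ih =>
    intro G _ _ _ N _ _ hcard hN he hsolv A₀ _ hinner hcop θ hθ
    classical
    by_cases htop : N = ⊤
    · exact exists_inv_over_abelian N.subtype N.subtype_injective (by rw [N.range_subtype]; exact hN)
        he (fun g h => by rw [N.range_subtype, htop]; exact Subgroup.mem_top _) A₀ hinner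
        (by rw [N.range_subtype]; exact hcop) θ hθ
    let K : Subgroup G := commutator G ⊔ N
    have hNK : N ≤ K := le_sup_right
    have hK : K.Normal := inferInstance
    have hKne : K ≠ ⊤ := by
      intro hKtop
      have hnt : Nontrivial (G ⧸ N) := by
        rw [QuotientGroup.nontrivial_iff]
        exact htop
      have h1 : commutator (G ⧸ N) < ⊤ := Group.IsSolvable.commutator_lt_top_of_nontrivial (G ⧸ N)
      apply h1.ne
      have h2 : (commutator G).map (QuotientGroup.mk' N) = commutator (G ⧸ N) := by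
        rw [commutator_def, Subgroup.map_commutator, Subgroup.map_top_of_surjective _
          (QuotientGroup.mk'_surjective N), commutator_def]
      have h3 : K.map (QuotientGroup.mk' N) = commutator (G ⧸ N) := by
        rw [Subgroup.map_sup, h2, QuotientGroup.map_mk'_self, sup_bot_eq]
      rw [← h3, hKtop, Subgroup.map_top_of_surjective _ (QuotientGroup.mk'_surjective N)]
    have hstK : ∀ (a : A), ∀ x ∈ K, a • x ∈ K := by
      intro a
      let f : G →* G := MulDistribMulAction.toMonoidHom G a
      have h : K ≤ K.comap f := by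
        refine sup_le ?_ ?_
        · refine le_trans ?_ (Subgroup.comap_mono le_sup_left)
          rw [← Subgroup.map_le_iff_le_comap, commutator_def, Subgroup.map_commutator]
          exact Subgroup.commutator_mono le_top le_top
        · intro x hx
          exact hNK (show a • x ∈ N from he a ⟨x, hx⟩ ▸ SetLike.coe_mem _)
      exact fun x hx => h hx
    let : MulDistribMulAction A K :=
      { smul := fun a x => ⟨a • (x : G), hstK a x x.2⟩
        one_smul := fun x => Subtype.ext (one_smul A (x : G))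
        mul_smul := fun a b x => Subtype.ext (mul_smul a b (x : G))
        smul_mul := fun a x y => Subtype.ext (smul_mul' a (x : G) (y : G))
        smul_one := fun a => Subtype.ext (smul_one a) }
    let e : N.subgroupOf K ≃* N := Subgroup.subgroupOfEquivOfLe hNK
    have hstN : ∀ (a : A), ∀ x ∈ N.subgroupOf K, a • x ∈ N.subgroupOf K := fun a x hx => by
      show a • (x : G) ∈ N
      exact he a ⟨(x : G), hx⟩ ▸ SetLike.coe_mem _
    let : MulDistribMulAction A (N.subgroupOf K) :=
      { smul := fun a x => ⟨a • (x : K), hstN a x x.2⟩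
        one_smul := fun x => Subtype.ext (one_smul A (x : K))
        mul_smul := fun a b x => Subtype.ext (mul_smul a b (x : K))
        smul_mul := fun a x y => Subtype.ext (smul_mul' a (x : K) (y : K))
        smul_one := fun a => Subtype.ext (smul_one a) }
    have hlt : Nat.card K ≤ n := by
      have hne : Nat.card K ≠ Nat.card G := fun h => hKne (Subgroup.eq_top_of_card_eq K h)
      have := Subgroup.card_le_card_group K
      omega
    let θ' : Cfsg.IrrCharacter (N.subgroupOf K) :=
      ⟨fun x => (θ : N → ℂ) (e x), Char.IsIrr.comp_surjective e.toMonoidHom e.surjective θ.2⟩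
    have hsolK : Group.IsSolvable (K ⧸ N.subgroupOf K) := by
      let f : K ⧸ N.subgroupOf K →* G ⧸ N :=
        QuotientGroup.map _ N K.subtype (fun x hx => hx)
      refine solvable_of_solvable_injective (f := f) ?_
      rw [injective_iff_map_eq_one]
      intro q
      induction q using QuotientGroup.induction_on with
      | H x =>
        intro hx
        exact (QuotientGroup.eq_one_iff x).mpr ((QuotientGroup.eq_one_iff (x : G)).mp hx)
    obtain ⟨η, hη, hηθ⟩ := ih K (N.subgroupOf K) hlt (fun a d => rfl) hsolK A₀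
      (fun a ha => by
        obtain ⟨d, hd⟩ := hinner a ha
        exact ⟨⟨⟨d, hNK d.2⟩, d.2⟩, fun g => Subtype.ext (hd g)⟩)
      (hcop.coprime_dvd_right (Subgroup.relIndex_dvd_index_of_normal N K)) θ'
      (fun a x => (congrArg (θ : N → ℂ) (Subtype.ext (he a (e x)).symm : e (a • x) = a • e x)).trans
        (hθ a (e x)))
    obtain ⟨χ, hχ, hχη⟩ := exists_inv_over_abelian K.subtype K.subtype_injective
      (by rw [K.range_subtype]; exact hK) (fun a x => rfl)
      (fun g h => by
        rw [K.range_subtype]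
        refine Subgroup.mem_sup_left ?_
        rw [commutator_def]
        exact Subgroup.commutator_mem_commutator (Subgroup.mem_top g) (Subgroup.mem_top h))
      A₀ (fun a ha => by
        obtain ⟨d, hd⟩ := hinner a ha
        exact ⟨⟨d, hNK d.2⟩, hd⟩)
      (by rw [K.range_subtype]; exact hcop.coprime_dvd_right (Subgroup.index_dvd_of_le hNK)) η hη
    refine ⟨χ, hχ, ?_⟩
    have h := mult_comp_ne_zero K.subtype (N.subgroupOf K).subtype hχη hηθ
    intro h0
    apply h
    apply Nat.cast_injective (R := ℂ)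
    rw [Nat.cast_zero, ← Nat.cast_zero (R := ℂ), ← h0, ← classInner_eq_mult, ← classInner_eq_mult]
    exact Clifford.classInner_comp_equiv e (fun x : N => (χ : G → ℂ) x) (θ : N → ℂ)

end SolvableQuotient

end CfsgLib.CharAction
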