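import Cfsg.Agent.Lib.CharAction.InvariantOverCoprime
import Cfsg.Agent.Lib.CharAction.Conj
import Cfsg.Agent.Lib.Blocks.MajorSubsection
import Mathlib.GroupTheory.SchurZassenhaus

/-!
# Invariant characters over central characters
-/

namespace CfsgLib.CharAction

open scoped ComplexConjugate

/-- An element of `K`, `K` of order prime to the index of a normal `H`, lies in `H`. -/
theorem le_of_coprime_card_index {G : Type*} [Group G] [Finite G] {H K : Subgroup G} [H.Normal]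
    (h : (Nat.card K).Coprime H.index) : K ≤ H := by
  intro k hk
  rw [← QuotientGroup.eq_one_iff, ← orderOf_eq_one_iff]
  refine Nat.eq_one_of_dvd_coprimes h ?_ ?_
  · exact (orderOf_map_dvd (QuotientGroup.mk' H) k).trans (Subgroup.orderOf_dvd_natCard K hk)
  · rw [Subgroup.index_eq_card]; exact orderOf_dvd_natCard _

variable {Γ : Type*} [Group Γ] [Finite Γ]

/-- Invariant irreducible characters exist over a linear character of a central subgroup. -/
theorem exists_inv_over_central (G Z : Subgroup Γ) [hG : G.Normal] [Fintype G] (hZG : Z ≤ G)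
    (hZ : Z ≤ Subgroup.center Γ) (hcop : G.index.Coprime (Z.relIndex G))
    (hsolv : Group.IsSolvable (Γ ⧸ G)) (l : Z →* ℂˣ) :
    ∃ χ : Cfsg.IrrCharacter G,
      (∀ (x : Γ) (g g' : G), (g' : Γ) = x * g * x⁻¹ → (χ : G → ℂ) g' = (χ : G → ℂ) g) ∧
      ∀ (z : Z) (g : G),
        (χ : G → ℂ) (⟨z, hZG z.2⟩ * g) = (l z : ℂ) * (χ : G → ℂ) g := by
  classical
  set m := Z.relIndex G with hm
  have hcz : ∀ {z : Γ}, z ∈ Z → ∀ x : Γ, x * z = z * x := fun hz x =>
    Subgroup.mem_center_iff.mp (hZ hz) x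
  -- the part of `Z` of order prime to `m`
  let Z1 : Subgroup Γ :=
    { carrier := {z | z ∈ Z ∧ (orderOf z).Coprime m}
      one_mem' := ⟨one_mem Z, by rw [orderOf_one]; exact Nat.coprime_one_left m⟩
      mul_mem' := fun {a b} ha hb => ⟨mul_mem ha.1 hb.1,
        Nat.Coprime.coprime_dvd_left (Commute.orderOf_mul_dvd_lcm (hcz hb.1 a))
          ((ha.2.mul_left hb.2).coprime_dvd_left (Nat.lcm_dvd_mul _ _))⟩
      inv_mem' := fun {a} ha => ⟨inv_mem ha.1, by rw [orderOf_inv]; exact ha.2⟩ }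
  have hZ1Z : Z1 ≤ Z := fun z hz => hz.1
  have hZ1G : Z1 ≤ G := hZ1Z.trans hZG
  have hq1 : ∀ q : ℕ, q.Prime → q ∣ Nat.card Z1 → ¬ q ∣ m := fun q hq hd hqm => by
    have := Fact.mk hq
    obtain ⟨z, hz⟩ := exists_prime_orderOf_dvd_card' q hd
    have h2 : (orderOf (z : Γ)).Coprime m := z.2.2
    rw [Subgroup.orderOf_coe, hz] at h2
    exact hq.ne_one (Nat.eq_one_of_dvd_coprimes h2 dvd_rfl hqm)
  have hq2 : ∀ q : ℕ, q.Prime → ¬ q ∣ m → ¬ q ∣ Z1.relIndex Z := fun q hq hqm hd => by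
    have := Fact.mk hq
    obtain ⟨Q⟩ := (Sylow.nonempty : Nonempty (Sylow q Z))
    have hle : (Q : Subgroup Z) ≤ Z1.subgroupOf Z := fun z hz => by
      refine ⟨z.2, ?_⟩
      obtain ⟨k, hk⟩ := (IsPGroup.iff_orderOf.1 Q.isPGroup') ⟨z, hz⟩
      rw [← Subgroup.orderOf_coe] at hk
      rw [Subgroup.coe_subtype, Subgroup.orderOf_coe, hk]
      exact ((Nat.Prime.coprime_iff_not_dvd hq).2 hqm).pow_left k
    exact Q.not_dvd_index (hd.trans (Subgroup.index_dvd_of_le hle))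
  have hidx : (Z1.subgroupOf G).index = Z1.relIndex Z * m :=
    (Subgroup.relIndex_mul_relIndex Z1 Z G hZ1Z hZG).symm
  have hcard1 : Nat.card (Z1.subgroupOf G) = Nat.card Z1 :=
    Nat.card_congr (Subgroup.subgroupOfEquivOfLe hZ1G).toEquiv
  have hcop1 : (Nat.card (Z1.subgroupOf G)).Coprime (Z1.subgroupOf G).index := by
    rw [hcard1, hidx]
    refine Nat.coprime_of_dvd fun q hq h1 h2 => ?_
    rcases hq.dvd_mul.1 h2 with h3 | h3
    · exact hq2 q hq (hq1 q hq h1) h3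
    · exact hq1 q hq h1 h3
  have hZ1c : ∀ z ∈ Z1.subgroupOf G, ∀ g : G, g * z = z * g := fun z hz g =>
    Subtype.ext (hcz (hZ1Z hz) g)
  have : (Z1.subgroupOf G).Normal := ⟨fun z hz g => by
    rwa [hZ1c z hz g, mul_inv_cancel_right]⟩
  obtain ⟨H, hH⟩ := Subgroup.exists_right_complement'_of_coprime hcop1
  have hHidx : H.index = Nat.card Z1 := by rw [hH.index_eq_card, hcard1]
  have hHcard : Nat.card H = Z1.relIndex Z * m := by rw [← hidx, hH.symm.index_eq_card]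
  have hHn : H.Normal := ⟨fun h hh g => by
    obtain ⟨⟨z, k⟩, rfl⟩ := hH.2 g
    show (z : G) * (k : G) * h * ((z : G) * (k : G))⁻¹ ∈ H
    have hmem : (k : G) * h * (k : G)⁻¹ ∈ H := mul_mem (mul_mem k.2 hh) (inv_mem k.2)
    have hzc := hZ1c z z.2
    rwa [show (z : G) * (k : G) * h * ((z : G) * (k : G))⁻¹ = (k : G) * h * (k : G)⁻¹ by
      rw [mul_inv_rev, show (z : G) * (k : G) * h * ((k : G)⁻¹ * (z : G)⁻¹) =
        (z : G) * ((k : G) * h * (k : G)⁻¹) * (z : G)⁻¹ by group, ← hzc, mul_inv_cancel_right]]⟩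
  have hcopH : (Nat.card H).Coprime H.index := by
    rw [hHidx, hHcard, ← hidx, ← hcard1]
    exact hcop1.symm
  let H' : Subgroup Γ := H.map G.subtype
  have hH'card : Nat.card H' = Nat.card H :=
    (Nat.card_congr (H.equivMapOfInjective _ G.subtype_injective).toEquiv).symm
  have hH'n : H'.Normal := ⟨fun h hh x => by
    obtain ⟨h, hh, rfl⟩ := hh
    let φ : G →* G := ((MulAut.conjNormal x : MulAut G)).toMonoidHom
    have hmap : H.map φ ≤ H := le_of_coprime_card_index (by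
      rw [← Nat.card_congr (H.equivMapOfInjective φ (MulAut.conjNormal x : MulAut G).injective).toEquiv]
      exact hcopH)
    exact ⟨_, hmap ⟨h, hh, rfl⟩, rfl⟩⟩
  have hH'G : H' ≤ G := Subgroup.map_subtype_le H
  have hH'idx : H'.index = Nat.card Z1 * G.index := by
    rw [← Subgroup.relIndex_mul_index hH'G, Subgroup.relIndex, Subgroup.subgroupOf,
      Subgroup.comap_map_eq_self_of_injective G.subtype_injective, hHidx]
  have hcopA : (Nat.card H').Coprime H'.index := by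
    rw [hH'card, hH'idx, hHcard]
    refine Nat.coprime_of_dvd fun q hq h1 h2 => ?_
    have h3 : q ∣ m := by
      by_contra hqm
      rcases hq.dvd_mul.1 h1 with h4 | h4
      · exact hq2 q hq hqm h4
      · exact hqm h4
    rcases hq.dvd_mul.1 h2 with h4 | h4
    · exact hq1 q hq h4 h3
    · exact hq.ne_one (Nat.eq_one_of_dvd_coprimes hcop h4 h3)
  obtain ⟨A, hA⟩ := Subgroup.exists_right_complement'_of_coprime hcopA
  have hAcard : Nat.card A = H'.index := hA.symm.index_eq_card.symm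
  -- `A` is solvable
  have hAsolv : Group.IsSolvable A := by
    let f : A →* Γ ⧸ G := (QuotientGroup.mk' G).comp A.subtype
    have hker : Group.IsSolvable f.ker := by
      refine isSolvable_of_comm fun a b => ?_
      have hG' : ∀ c : f.ker, ((c : A) : Γ) ∈ G := fun c => (QuotientGroup.eq_one_iff _).1 c.2
      have hGcomm : ∀ g k : G, g * k * g⁻¹ * k⁻¹ ∈ H := fun g k => by
        obtain ⟨⟨z, u⟩, rfl⟩ := hH.2 g
        obtain ⟨⟨w, v⟩, rfl⟩ := hH.2 k
        have hz := hZ1c z z.2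
        have hw := hZ1c w w.2
        show (z : G) * (u : G) * ((w : G) * v) * ((z : G) * u)⁻¹ * ((w : G) * v)⁻¹ ∈ H
        have hcomm : (z : G) * (u : G) * ((w : G) * v) * ((z : G) * u)⁻¹ * ((w : G) * v)⁻¹ =
            (u : G) * v * (u : G)⁻¹ * (v : G)⁻¹ := by
          calc _ = (z : G) * ((u : G) * w) * v * (u : G)⁻¹ * (z : G)⁻¹ * (v : G)⁻¹ * (w : G)⁻¹ := by
                group
            _ = (z : G) * ((w : G) * u) * v * (u : G)⁻¹ * (z : G)⁻¹ * (v : G)⁻¹ * (w : G)⁻¹ := by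
                rw [hw]
            _ = (z : G) * ((w : G) * ((u : G) * v * (u : G)⁻¹)) * (z : G)⁻¹ * (v : G)⁻¹
                  * (w : G)⁻¹ := by group
            _ = (w : G) * ((u : G) * v * (u : G)⁻¹) * (v : G)⁻¹ * (w : G)⁻¹ := by
                rw [← hz, mul_inv_cancel_right]
            _ = (w : G) * ((u : G) * v * (u : G)⁻¹ * (v : G)⁻¹) * (w : G)⁻¹ := by group
            _ = _ := by rw [← hw, mul_inv_cancel_right]
        rw [hcomm]
        exact mul_mem (mul_mem (mul_mem u.2 v.2) (inv_mem u.2)) (inv_mem v.2)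
      have h1 : ((a : A) : Γ) * (b : A) * ((a : A) : Γ)⁻¹ * ((b : A) : Γ)⁻¹ ∈ H' :=
        ⟨_, hGcomm ⟨_, hG' a⟩ ⟨_, hG' b⟩, rfl⟩
      have h2 : ((a : A) : Γ) * (b : A) * ((a : A) : Γ)⁻¹ * ((b : A) : Γ)⁻¹ ∈ A :=
        mul_mem (mul_mem (mul_mem (a : A).2 (b : A).2) (inv_mem (a : A).2)) (inv_mem (b : A).2)
      have h3 := Subgroup.disjoint_def.1 hA.disjoint h1 h2
      exact Subtype.ext (Subtype.ext (mul_inv_eq_iff_eq_mul.1 (mul_inv_eq_one.1 h3)))
    exact solvable_of_ker_le_range f.ker.subtype f (by rw [Subgroup.range_subtype])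
  -- the character on `H'`
  have := Fintype.ofFinite H'
  let Z2 : Subgroup Γ := Z ⊓ H'
  have := Fintype.ofFinite Z2
  let θ2 : Cfsg.IrrCharacter Z2 :=
    ⟨fun z => (l ⟨z, z.2.1⟩ : ℂ),
      Char.isIrrCharacter_linear (l.comp (Subgroup.inclusion inf_le_left))⟩
  have hAH : ∀ a ∈ A, ∀ h ∈ H', a * h * a⁻¹ ∈ H' := fun a _ h hh => hH'n.conj_mem h hh a
  have hAZ : ∀ a ∈ A, ∀ z ∈ Z2, a * z * a⁻¹ ∈ Z2 := fun a _ z hz => by
    rw [hcz hz.1, mul_inv_cancel_right]; exact hz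
  let : MulDistribMulAction A H' := conjAction H' A hAH
  let : MulDistribMulAction A Z2 := conjAction Z2 A hAZ
  have hι : Function.Injective (Subgroup.inclusion (inf_le_right : Z2 ≤ H')) :=
    Subgroup.inclusion_injective _
  have hιn : (Subgroup.inclusion (inf_le_right : Z2 ≤ H')).range.Normal := ⟨by
    rintro _ ⟨z, rfl⟩ h
    refine ⟨z, Subtype.ext ?_⟩
    show (z : Γ) = (h : Γ) * z * (h : Γ)⁻¹
    rw [hcz z.2.1, mul_inv_cancel_right]⟩
  obtain ⟨β, hβ, hover⟩ := exists_inv_over_coprime (Nat.card A) A le_rfl hAsolv H' Z2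
    (Subgroup.inclusion (inf_le_right : Z2 ≤ H')) hι hιn (fun a d => rfl)
    (by rw [hAcard]; exact hcopA) θ2 (fun a z => by
      refine congrArg (θ2 : Z2 → ℂ) (Subtype.ext ?_)
      show (a : Γ) * z * (a : Γ)⁻¹ = z
      rw [hcz z.2.1, mul_inv_cancel_right])
  -- central translation of `β`
  have hβz : ∀ (z : Γ) (hz : z ∈ Z2) (h : H'),
      (β : H' → ℂ) (⟨z, hz.2⟩ * h) = (l ⟨z, hz.1⟩ : ℂ) * (β : H' → ℂ) h := by
    intro z hz h
    have hzc : ∀ g : H', g * ⟨z, hz.2⟩ = ⟨z, hz.2⟩ * g := fun g => Subtype.ext (hcz hz.1 g)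
    have hscal : ∀ w : Z2, (β : H' → ℂ) (Subgroup.inclusion inf_le_right w) =
        (β : H' → ℂ) 1 * (θ2 : Z2 → ℂ) w := by
      let W : Subgroup H' := (Subgroup.inclusion (inf_le_right : Z2 ≤ H')).range
      have := Fintype.ofFinite W
      let e : Z2 ≃* W := MonoidHom.ofInjective hι
      let θW : Cfsg.IrrCharacter W := ⟨fun w => (θ2 : Z2 → ℂ) (e.symm w),
        Char.IsIrr.comp_surjective e.symm.toMonoidHom e.symm.surjective θ2.2⟩
      have hc : Cfsg.classInner (fun w : W => (β : H' → ℂ) w) (θW : W → ℂ) ≠ 0 := by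
        intro h0
        apply hover
        apply Nat.cast_injective (R := ℂ)
        rw [Nat.cast_zero, ← h0, ← classInner_eq_mult]
        refine Eq.trans ?_ (Clifford.classInner_comp_equiv e (fun w : W => (β : H' → ℂ) w)
          (θW : W → ℂ))
        congr 1
        exact funext fun w => congrArg (θ2 : Z2 → ℂ) (e.symm_apply_apply w).symm
      have hres := Clifford.restrict_eq_smul_orbit_sum hιn β.2 θW.2 hc
      have hWc : ∀ (w : W) (g : H'), g * (w : H') = (w : H') * g := fun w g => by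
        obtain ⟨v, hv⟩ := w.2
        refine Subtype.ext ?_
        rw [← hv]
        exact hcz v.2.1 g
      have hO : Finset.univ.image (Clifford.conjFn hιn (θW : W → ℂ)) = {(θW : W → ℂ)} := by
        refine Finset.eq_singleton_iff_unique_mem.2 ⟨Finset.mem_image.2 ⟨1, Finset.mem_univ _,
          Clifford.conjFn_one hιn _⟩, fun f hf => ?_⟩
        obtain ⟨y, -, rfl⟩ := Finset.mem_image.1 hf
        funext n
        rw [Clifford.conjFn_apply]
        refine congrArg _ (Subtype.ext ?_)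
        show y * (n : H') * y⁻¹ = n
        rw [hWc, mul_inv_cancel_right]
      intro w
      have h1 := congrFun hres 1
      have hw := congrFun hres (e w)
      rw [hO, Finset.sum_singleton, Pi.smul_apply, smul_eq_mul] at h1 hw
      have hθW : (θW : W → ℂ) (e w) = (θ2 : Z2 → ℂ) w :=
        congrArg (θ2 : Z2 → ℂ) (e.symm_apply_apply w)
      have hθ1 : (θW : W → ℂ) 1 = 1 := by
        show (l ⟨((e.symm 1 : Z2) : Γ), _⟩ : ℂ) = 1
        simp only [map_one, OneMemClass.coe_one]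
        rw [show (⟨(1 : Γ), _⟩ : Z) = 1 from rfl, map_one, Units.val_one]
      rw [hθ1, mul_one] at h1
      rw [hθW, ← h1] at hw
      exact hw
    have h2 := Blocks.apply_central_mul β hzc h
    rw [show (⟨z, hz.2⟩ : H') = Subgroup.inclusion inf_le_right ⟨z, hz⟩ from rfl, hscal] at h2
    refine mul_right_cancel₀ (Char.IsIrr.apply_one_ne_zero β.2) (h2.trans ?_)
    show (β : H' → ℂ) 1 * (l ⟨z, hz.1⟩ : ℂ) * (β : H' → ℂ) h = _
    ring
  -- glue
  let ψ : (Z1.subgroupOf G) × H →* G :=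
    MonoidHom.noncommCoprod (Z1.subgroupOf G).subtype H.subtype
      fun z h => (hZ1c z z.2 h).symm
  let e : (Z1.subgroupOf G) × H ≃* G := MulEquiv.ofBijective ψ hH
  let π₁ : G →* Z1.subgroupOf G := (MonoidHom.fst _ _).comp e.symm.toMonoidHom
  let π₂ : G →* H' := (H.equivMapOfInjective G.subtype G.subtype_injective).toMonoidHom.comp
    ((MonoidHom.snd _ _).comp e.symm.toMonoidHom)
  have hπ₂ : Function.Surjective π₂ :=
    (H.equivMapOfInjective G.subtype G.subtype_injective).surjective.comp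
      (Prod.snd_surjective.comp e.symm.surjective)
  have hdec : ∀ g : G, (g : Γ) = ((π₁ g : G) : Γ) * (π₂ g : Γ) := fun g => by
    conv_lhs => rw [← e.apply_symm_apply g]
    rfl
  let L : G →* ℂˣ := l.comp
    (((Subgroup.inclusion hZ1Z).comp (Subgroup.subgroupOfEquivOfLe hZ1G).toMonoidHom).comp π₁)
  have hL : ∀ g, L g = l ⟨((π₁ g : G) : Γ), hZ1Z (π₁ g).2⟩ := fun g => rfl
  let χ₀ : Cfsg.IrrCharacter G :=
    ⟨fun g => (β : H' → ℂ) (π₂ g), Char.IsIrr.comp_surjective π₂ hπ₂ β.2⟩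
  let χ : Cfsg.IrrCharacter G := CharDegree.twist χ₀ L
  refine ⟨χ, fun x g g' hg' => ?_, fun z g => ?_⟩
  · -- invariance
    obtain ⟨⟨h, a⟩, rfl⟩ := hA.2 x
    have hgG : (a : Γ) * g * (a : Γ)⁻¹ ∈ G := hG.conj_mem _ g.2 _
    let g₁ : G := ⟨(a : Γ) * g * (a : Γ)⁻¹, hgG⟩
    have hg₁ : g' = ⟨(h : Γ), hH'G h.2⟩ * g₁ * ⟨(h : Γ), hH'G h.2⟩⁻¹ := by
      refine Subtype.ext ?_
      rw [hg']
      show (h : Γ) * (a : Γ) * (g : Γ) * ((h : Γ) * (a : Γ))⁻¹ =
        (h : Γ) * ((a : Γ) * g * (a : Γ)⁻¹) * (h : Γ)⁻¹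
      group
    rw [hg₁, Char.IsIrr.isClassFunction χ.2 g₁ _]
    let z' : Z1.subgroupOf G := π₁ g
    have hhG : (a : Γ) * (π₂ g : Γ) * (a : Γ)⁻¹ ∈ H' := hAH a a.2 _ (π₂ g).2
    obtain ⟨k, hk, hk'⟩ := hhG
    have he1 : e.symm g₁ = (z', ⟨k, hk⟩) := e.symm_apply_eq.mpr (Subtype.ext (by
      show (a : Γ) * g * (a : Γ)⁻¹ = ((z' : G) : Γ) * (k : Γ)
      rw [show (k : Γ) = (a : Γ) * (π₂ g : Γ) * (a : Γ)⁻¹ from hk', hdec g]
      show (a : Γ) * (((z' : G) : Γ) * (π₂ g : Γ)) * (a : Γ)⁻¹ = _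
      rw [← mul_assoc (a : Γ), show (a : Γ) * ((z' : G) : Γ) = ((z' : G) : Γ) * a from hcz (hZ1Z z'.2) a]
      group))
    have hp1 : π₁ g₁ = z' := by
      show (e.symm g₁).1 = z'
      rw [he1]
    have hp2 : π₂ g₁ = a • π₂ g := Subtype.ext (by
      show (((e.symm g₁).2 : G) : Γ) = _
      rw [he1]
      exact hk')
    rw [CharDegree.twist_apply, CharDegree.twist_apply]
    congr 1
    · show (β : H' → ℂ) (π₂ g₁) = (β : H' → ℂ) (π₂ g)
      rw [hp2]; exact hβ a _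
    · rw [hL, hL]
      simp only [hp1]; rfl
  · -- translation
    let zG : G := ⟨z, hZG z.2⟩
    have h2Z : (π₂ zG : Γ) ∈ Z2 := by
      refine ⟨?_, (π₂ zG).2⟩
      have h := hdec zG
      rw [show (π₂ zG : Γ) = ((π₁ zG : G) : Γ)⁻¹ * z from eq_inv_mul_of_mul_eq h.symm]
      exact Z.mul_mem (Z.inv_mem (hZ1Z (π₁ zG).2)) z.2
    show (χ₀ : G → ℂ) (zG * g) * _ = _ * ((χ₀ : G → ℂ) g * _)
    rw [map_mul, Units.val_mul]
    have h3 : (χ₀ : G → ℂ) (zG * g) = (l ⟨_, h2Z.1⟩ : ℂ) * (χ₀ : G → ℂ) g := by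
      show (β : H' → ℂ) (π₂ (zG * g)) = _
      rw [map_mul]
      exact hβz _ h2Z (π₂ g)
    have h4 : (l z : ℂ) = (L zG : ℂ) * (l ⟨_, h2Z.1⟩ : ℂ) := by
      rw [hL, ← Units.val_mul, ← map_mul]
      exact congrArg (fun w => ((l w : ℂˣ) : ℂ)) (Subtype.ext (hdec zG))
    rw [h3, h4]
    ring

end CfsgLib.CharAction
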