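import Cfsg.Agent.Lib.CharAction.Over
import Cfsg.Agent.Lib.Core.MinNormal
import Cfsg.Agent.Lib.Core.Cores
import Mathlib.GroupTheory.Solvable
import Mathlib.GroupTheory.GroupAction.Defs

/-!
# Invariant characters over invariant characters: solvable groups of operators of coprime order
-/

namespace CfsgLib.CharAction

open scoped ComplexConjugate

section Degree

variable {G D : Type*} [Group G] [Group D] [Fintype G] [Fintype D]

/-- The multiplicity of a constituent along an injective map with normal range divides the order. -/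
theorem mult_dvd_card (ι : D →* G) (hι : Function.Injective ι) (hn : ι.range.Normal)
    (χ : Cfsg.IrrCharacter G) (θ : Cfsg.IrrCharacter D) (h : mult ι χ θ ≠ 0) :
    mult ι χ θ ∣ Nat.card G := by
  classical
  have := Fintype.ofFinite ι.range
  let e : D ≃* ι.range := MonoidHom.ofInjective hι
  let θ' : Cfsg.IrrCharacter ι.range := ⟨fun x => (θ : D → ℂ) (e.symm x),
    Char.IsIrr.comp_surjective e.symm.toMonoidHom e.symm.surjective θ.2⟩
  have he : mult ι.range.subtype χ θ' = mult ι χ θ := by
    apply Nat.cast_injective (R := ℂ)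
    rw [← classInner_eq_mult, ← classInner_eq_mult]
    refine Eq.trans ?_ (Clifford.classInner_comp_equiv e.symm
      (fun c : D => (χ : G → ℂ) (ι c)) (θ : D → ℂ))
    congr 1
    funext x
    exact congrArg (χ : G → ℂ) (congrArg Subtype.val (e.apply_symm_apply x)).symm
  rw [← he] at h ⊢
  obtain ⟨d, hd, -, hdd⟩ := degree_dvd_card χ
  refine (mult_dvd_degree hn χ θ' h).trans ?_
  rwa [Cfsg.charDegree, hd, Complex.natCast_re, Nat.floor_natCast]

end Degree

section Lift

variable {A G D C CD : Type*} [Group A] [Finite A] [Group G] [Group D] [Group C] [Group CD]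
  [Fintype G] [Fintype D] [Fintype C] [Fintype CD]
  [MulDistribMulAction A G] [MulDistribMulAction A D]
  {p : ℕ} [Fact p.Prime] (hA : IsPGroup p A)
  (ι : D →* G) (hι : Function.Injective ι) (he : ∀ (a : A) (d : D), ι (a • d) = a • ι d)
  (ιC : C →* G) (hιC : Function.Injective ιC) (hC : ∀ g, g ∈ ιC.range ↔ ∀ a : A, a • g = g)
  (ιD : CD →* D) (hιD : Function.Injective ιD) (hD : ∀ d, d ∈ ιD.range ↔ ∀ a : A, a • d = d)
  (j : CD →* C) (hj : Function.Injective j) (hjn : j.range.Normal)
  (hsq : ιC.comp j = ι.comp ιD)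

include hA hι he hιC hC hιD hD hj hjn hsq in
/-- If the correspondent lies over the correspondent, the character lies over the character. -/
theorem over_of_correspondent (hp : ¬ p ∣ Nat.card G) {χ : Cfsg.IrrCharacter G}
    (hχ : IsInv A (χ : G → ℂ)) {θ : Cfsg.IrrCharacter D} (hθ : IsInv A (θ : D → ℂ))
    {β : Cfsg.IrrCharacter C} (hβ : ¬ p ∣ mult ιC χ β) {θs : Cfsg.IrrCharacter CD}
    (hθs : ¬ p ∣ mult ιD θ θs) (hover : mult j β θs ≠ 0) : mult ι χ θ ≠ 0 := by
  classical
  intro h0
  have := Fintype.ofFinite (Cfsg.IrrCharacter C)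
  have := Fintype.ofFinite (Cfsg.IrrCharacter D)
  have hpC : ¬ p ∣ Nat.card C := not_dvd_card_fixed ιC hιC hp
  have hpD : ¬ p ∣ Nat.card D := fun h => hp (h.trans (by
    rw [Nat.card_congr (MonoidHom.ofInjective hι).toEquiv]
    exact Subgroup.card_subgroup_dvd_card _))
  -- through the fixed points of `G`
  have h1 : ¬ p ∣ mult (ιC.comp j) χ θs := by
    rw [mult_comp, ← Finset.add_sum_erase _ _ (Finset.mem_univ β)]
    intro hd
    have hrest : p ∣ ∑ η ∈ Finset.univ.erase β, mult ιC χ η * mult j η θs := by
      refine Finset.dvd_sum fun η hη => Dvd.dvd.mul_right ?_ _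
      by_contra hc
      exact (Finset.ne_of_mem_erase hη) (correspondent_unique hA ιC hιC hC hp hχ hc hβ)
    rcases (Fact.out : p.Prime).dvd_mul.mp ((Nat.dvd_add_left hrest).mp hd) with h2 | h2
    · exact hβ h2
    · exact hpC (h2.trans (mult_dvd_card j hj hjn β θs hover))
  rw [hsq] at h1
  apply h1
  -- through the normal subgroup
  let : MulAction A (Cfsg.IrrCharacter D) := charAction
  rw [mult_comp]
  have hsum := congMod_sum_fixed hA
    (fun η : Cfsg.IrrCharacter D => ((mult ι χ η * mult ιD η θs : ℕ) : ℂ))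
    (fun η => by simpa using (isIntegral_algebraMap (R := ℤ) (A := ℂ)
      (x := ((mult ι χ η * mult ιD η θs : ℕ) : ℤ))))
    (fun a η => by
      congr 2
      · let : MulAction A (Cfsg.IrrCharacter G) := charAction
        conv_lhs => rw [← smul_eq_self_of_isInv hχ a]
        exact mult_smul ι he a χ η
      · apply Nat.cast_injective (R := ℂ)
        rw [← classInner_eq_mult, ← classInner_eq_mult]
        congr 1
        funext c
        exact congrArg (η : D → ℂ) ((hD (ιD c)).mp ⟨c, rfl⟩ a⁻¹))
  refine CongMod.dvd_of_natCast (Fact.out : p.Prime).ne_zero ?_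
  rw [Nat.cast_sum]
  refine hsum.trans ?_
  rw [← Finset.sum_const_zero (s := Finset.univ.filter
    (fun η : Cfsg.IrrCharacter D => ∀ a : A, a • η = η))]
  refine CongMod.sum _ fun η hη => ?_
  have hηi : IsInv A (η : D → ℂ) := isInv_of_smul_eq (Finset.mem_filter.mp hη).2
  by_cases hd : p ∣ mult ιD η θs
  · obtain ⟨k, hk⟩ := hd
    rw [hk, mul_left_comm, Nat.cast_mul]
    exact CongMod.prime_mul (by simpa using (isIntegral_algebraMap (R := ℤ) (A := ℂ)
      (x := ((mult ι χ η * k : ℕ) : ℤ))))
  · rw [correspondent_injective hA ιD hιD hD hpD hηi hθ hd hθs, h0, zero_mul, Nat.cast_zero]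
    exact CongMod.refl 0

end Lift

section Solvable

universe u v

/-- Conjugate-fixed points of a normal subgroup of the operators carry an action of the quotient. -/
@[instance_reducible]
def fixAct {A : Type v} [Group A] (T : Subgroup A) [T.Normal] (G : Type u) [Group G]
    [MulDistribMulAction A G] : MulDistribMulAction (A ⧸ T) (FixedPoints.subgroup T G) :=
  have hmem : ∀ (a : A) (c : FixedPoints.subgroup T G),
      a • (c : G) ∈ FixedPoints.subgroup T G := fun a c t => by
    have h1 : (a⁻¹ * (t : A) * a) ∈ T := by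
      simpa using ‹T.Normal›.conj_mem (t : A) t.2 a⁻¹
    have h2 : (a⁻¹ * (t : A) * a) • (c : G) = c := c.2 ⟨_, h1⟩
    show (t : A) • a • (c : G) = a • (c : G)
    calc (t : A) • a • (c : G) = a • ((a⁻¹ * (t : A) * a) • (c : G)) := by
          simp [smul_smul, mul_assoc]
      _ = a • (c : G) := by rw [h2]
  let φ : A →* MulAut (FixedPoints.subgroup T G) :=
    { toFun := fun a =>
        { toFun := fun c => ⟨a • (c : G), hmem a c⟩
          invFun := fun c => ⟨a⁻¹ • (c : G), hmem a⁻¹ c⟩
          left_inv := fun c => Subtype.ext (inv_smul_smul a (c : G))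
          right_inv := fun c => Subtype.ext (smul_inv_smul a (c : G))
          map_mul' := fun c d => Subtype.ext (smul_mul' a (c : G) (d : G)) }
      map_one' := MulEquiv.ext fun c => Subtype.ext (one_smul A (c : G))
      map_mul' := fun a b => MulEquiv.ext fun c => Subtype.ext (mul_smul a b (c : G)) }
  have hker : T ≤ φ.ker := fun t ht => MulEquiv.ext fun c => Subtype.ext (c.2 ⟨t, ht⟩)
  MulDistribMulAction.compHom _ (QuotientGroup.lift T φ hker)

/-- Invariant characters exist over invariant characters under coprime solvable action. -/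
theorem exists_inv_over_coprime (n : ℕ) : ∀ (A : Type v) [Group A] [Finite A], Nat.card A ≤ n →
    Group.IsSolvable A → ∀ (G D : Type u) [Group G] [Group D] [Fintype G] [Fintype D]
      [MulDistribMulAction A G] [MulDistribMulAction A D] (ι : D →* G),
      Function.Injective ι → ι.range.Normal → (∀ (a : A) (d : D), ι (a • d) = a • ι d) →
      (Nat.card G).Coprime (Nat.card A) → ∀ θ : Cfsg.IrrCharacter D, IsInv A (θ : D → ℂ) →
      ∃ χ : Cfsg.IrrCharacter G, IsInv A (χ : G → ℂ) ∧ mult ι χ θ ≠ 0 := by
  induction n with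
  | zero =>
    intro A _ _ h
    exact absurd h (by have := Nat.card_pos (α := A); omega)
  | succ n ih =>
    intro A _ _ hcard hsolv G D _ _ _ _ _ _ ι hι hn he hcop θ hθ
    classical
    rcases subsingleton_or_nontrivial A with hs | hnt
    · obtain ⟨χ, hχ⟩ := exists_over ι hι θ
      exact ⟨χ, fun a g => by rw [Subsingleton.elim a 1, one_smul], hχ⟩
    obtain ⟨p, hp, hT⟩ := @Core.exists_pCore_ne_bot A _ _ _ hsolv
    have : Fact p.Prime := ⟨hp⟩
    have hTp : IsPGroup p (Cfsg.pCore p A) := Core.isPGroup_pCore p A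
    generalize hTdef : Cfsg.pCore p A = T at hT hTp
    have : T.Normal := hTdef ▸ inferInstance
    let C := FixedPoints.subgroup T G
    let CD := FixedPoints.subgroup T D
    have hC : ∀ g : G, g ∈ C.subtype.range ↔ ∀ t : T, t • g = g := fun g => by
      rw [Subgroup.range_subtype]; exact Iff.rfl
    have hD : ∀ g : D, g ∈ CD.subtype.range ↔ ∀ t : T, t • g = g := fun g => by
      rw [Subgroup.range_subtype]; exact Iff.rfl
    let j : CD →* C := (ι.comp CD.subtype).codRestrict C fun c t => by
      show (t : A) • ι (c : D) = ι (c : D)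
      rw [← he]
      exact congrArg ι (c.2 t)
    have hj : Function.Injective j := fun a b h => Subtype.ext (hι (congrArg Subtype.val h))
    have hjn : j.range.Normal := by
      rw [show j.range = ι.range.comap C.subtype from by
        ext x
        constructor
        · rintro ⟨c, rfl⟩; exact ⟨c, rfl⟩
        · rintro ⟨d, hd⟩
          refine ⟨⟨d, fun t => hι ?_⟩, Subtype.ext hd⟩
          show ι ((t : A) • d) = ι d
          rw [he, hd]
          exact x.2 t]
      exact hn.comap _
    have : Nontrivial T := (Subgroup.nontrivial_iff_ne_bot T).mpr hT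
    obtain ⟨k, hk, hk'⟩ := hTp.nontrivial_iff_card.mp inferInstance
    have hpA : p ∣ Nat.card A :=
      (hk' ▸ dvd_pow_self p (by omega) : p ∣ Nat.card T).trans T.card_subgroup_dvd_card
    have hpG : ¬ p ∣ Nat.card G := fun h => hp.ne_one (Nat.eq_one_of_dvd_coprimes hcop h hpA)
    have hpD : ¬ p ∣ Nat.card D := fun h => hpG (h.trans (by
      rw [Nat.card_congr (MonoidHom.ofInjective hι).toEquiv]
      exact Subgroup.card_subgroup_dvd_card _))
    let : MulDistribMulAction (A ⧸ T) C := fixAct T G
    let : MulDistribMulAction (A ⧸ T) CD := fixAct T D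
    let : MulDistribMulAction A C := MulDistribMulAction.compHom C (QuotientGroup.mk' T)
    let : MulDistribMulAction A CD := MulDistribMulAction.compHom CD (QuotientGroup.mk' T)
    let : MulAction A (Cfsg.IrrCharacter G) := charAction
    let : MulAction A (Cfsg.IrrCharacter D) := charAction
    let : MulAction A (Cfsg.IrrCharacter C) := charAction
    let : MulAction A (Cfsg.IrrCharacter CD) := charAction
    have hθT : IsInv T (θ : D → ℂ) := fun t d => hθ (t : A) d
    obtain ⟨θs, -, hs⟩ := exists_correspondent hTp CD.subtype Subtype.val_injective hD hpD hθT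
    have hnd : ∀ m : ℕ, ((m : ℤ) ≡ 1 [ZMOD p] ∨ (m : ℤ) ≡ -1 [ZMOD p]) → ¬ p ∣ m := fun m h hd => by
      have hd' : (p : ℤ) ∣ (m : ℤ) := Int.natCast_dvd_natCast.mpr hd
      have hp1 := (Nat.prime_iff_prime_int.mp hp).not_dvd_one
      rcases h with h | h
      · exact hp1 (by simpa using dvd_add (Int.ModEq.dvd h) hd')
      · exact hp1 (dvd_neg.mp (by simpa using dvd_add (Int.ModEq.dvd h) hd'))
    have hθs : IsInv A (θs : CD → ℂ) := isInv_of_smul_eq fun a => by
      have h := mult_smul CD.subtype (fun a c => rfl) a θ θs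
      rw [smul_eq_self_of_isInv hθ] at h
      exact correspondent_unique hTp CD.subtype Subtype.val_injective hD hpD hθT
        (h ▸ hnd _ hs) (hnd _ hs)
    have hlt : Nat.card (A ⧸ T) ≤ n := by
      have h1 := Subgroup.card_eq_card_quotient_mul_card_subgroup T
      have h2 : 1 < Nat.card T := Finite.one_lt_card
      have h4 : Nat.card (A ⧸ T) * 2 ≤ Nat.card A := h1 ▸ Nat.mul_le_mul_left _ h2
      have h3 := Nat.card_pos (α := A ⧸ T)
      omega
    obtain ⟨β, hβ, hover⟩ := ih (A ⧸ T) hlt
      (solvable_of_surjective (f := QuotientGroup.mk' T) (QuotientGroup.mk'_surjective T))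
      C CD j hj hjn
      (fun q c => QuotientGroup.induction_on q fun a => Subtype.ext (he a (c : D)))
      ((hcop.coprime_dvd_left C.card_subgroup_dvd_card).coprime_dvd_right T.card_quotient_dvd_card)
      θs (fun q c => QuotientGroup.induction_on q fun a => hθs a c)
    obtain ⟨χ, hχT, hm⟩ := correspondent_surjective hTp C.subtype Subtype.val_injective hC hpG β
    refine ⟨χ, isInv_of_smul_eq fun a => ?_,
      over_of_correspondent (A := T) hTp ι hι (fun t d => he (t : A) d) C.subtype
        Subtype.val_injective hC CD.subtype Subtype.val_injective hD j hj hjn rfl hpG hχT hθT hm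
        (hnd _ hs) hover⟩
    have hχa : IsInv T ((a • χ : Cfsg.IrrCharacter G) : G → ℂ) := by
      intro t g
      show (χ : G → ℂ) (a⁻¹ • (t : A) • g) = (χ : G → ℂ) (a⁻¹ • g)
      have h1 : (a⁻¹ * (t : A) * a) ∈ T := by
        simpa using ‹T.Normal›.conj_mem (t : A) t.2 a⁻¹
      have h2 : (χ : G → ℂ) ((a⁻¹ * (t : A) * a) • a⁻¹ • g) = _ := hχT ⟨_, h1⟩ (a⁻¹ • g)
      rw [← h2]
      simp [smul_smul, mul_assoc]
    have h := mult_smul C.subtype (fun a c => rfl) a χ β
    have hβa : a • β = β := smul_eq_self_of_isInv (fun b c => hβ (b : A ⧸ T) c) a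
    rw [hβa] at h
    exact correspondent_injective hTp C.subtype Subtype.val_injective hC hpG hχa hχT (h ▸ hm) hm

end Solvable

end CfsgLib.CharAction
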