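import Cfsg.Agent.Lib.CharAction.InvariantOver
import Cfsg.Agent.Lib.CharAction.Conj
import Cfsg.Agent.Lib.CharAction.RelativeGlauberman

/-!
# Invariant characters over invariant characters: subgroups of an ambient group
-/

namespace CfsgLib.CharAction

theorem exists_inv_over_sub {Γ : Type*} [Group Γ] [Finite Γ] (G T N : Subgroup Γ) [Fintype G]
    [Fintype N] (hT : ∀ t ∈ T, ∀ g ∈ G, t * g * t⁻¹ ∈ G) (hNG : N ≤ G)
    (hNn : (N.subgroupOf G).Normal) (hTN : ∀ t ∈ T, ∀ n ∈ N, t * n * t⁻¹ ∈ N)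
    (hsolv : Group.IsSolvable (G ⧸ N.subgroupOf G)) (A₀ : Subgroup T) [A₀.Normal]
    (hA₀ : ∀ t ∈ A₀, (t : Γ) ∈ N) (hcop : A₀.index.Coprime (N.relIndex G))
    (θ : Cfsg.IrrCharacter N)
    (hinv : ∀ t ∈ T, ∀ g g' : N, (g' : Γ) = t * g * t⁻¹ → (θ : N → ℂ) g' = (θ : N → ℂ) g) :
    ∃ χ : Cfsg.IrrCharacter G,
      Cfsg.classInner (fun n : N => (χ : G → ℂ) ⟨n, hNG n.2⟩) (θ : N → ℂ) ≠ 0 ∧
      ∀ t ∈ T, ∀ g g' : G, (g' : Γ) = t * g * t⁻¹ → (χ : G → ℂ) g' = (χ : G → ℂ) g := by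
  classical
  have := hNn
  let := Fintype.ofFinite (N.subgroupOf G)
  let : MulDistribMulAction T G := conjAction G T hT
  have hst : ∀ (t : T), ∀ x ∈ N.subgroupOf G, t • x ∈ N.subgroupOf G :=
    fun t x hx => hTN t t.2 x hx
  let : MulDistribMulAction T (N.subgroupOf G) := RelGlauberman.subAct _ hst
  let e : N.subgroupOf G ≃* N := Subgroup.subgroupOfEquivOfLe hNG
  let θ' : Cfsg.IrrCharacter (N.subgroupOf G) :=
    ⟨fun x => (θ : N → ℂ) (e x), Char.IsIrr.comp_surjective e.toMonoidHom e.surjective θ.2⟩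
  obtain ⟨χ, hχ, hm⟩ := exists_inv_over_of_solvable_quotient (A := T) (Nat.card G) G
    (N.subgroupOf G) le_rfl (fun t d => rfl) hsolv A₀
    (fun t ht => ⟨⟨⟨(t : Γ), hNG (hA₀ t ht)⟩, hA₀ t ht⟩, fun g => Subtype.ext rfl⟩) hcop θ'
    (fun t x => hinv t t.2 (e x) (e (t • x)) rfl)
  refine ⟨χ, fun h0 => hm ?_, fun t ht g g' hg => ?_⟩
  · apply Nat.cast_injective (R := ℂ)
    rw [Nat.cast_zero, ← h0, ← classInner_eq_mult]
    exact Clifford.classInner_comp_equiv e (fun x : N => (χ : G → ℂ) ⟨x, hNG x.2⟩) (θ : N → ℂ)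
  · rw [show g' = (⟨t, ht⟩ : T) • g from Subtype.ext hg]
    exact hχ _ _

end CfsgLib.CharAction
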