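import Cfsg.Agent.Lib.CharAction.InvariantOverCentral
import Cfsg.Agent.Lib.CharAction.Descend
import Cfsg.Agent.Lib.Char.Gallagher

/-!
# Reduction of invariant characters over an invariant character to the central case
-/

namespace CfsgLib.CharAction

open CfsgLib.CharExt
open scoped ComplexConjugate
open Module

variable {Γ : Type*} [Group Γ] [Finite Γ]

/-- The central reduction: a solvable group above `G` fixes some character over a fixed `θ`. -/
theorem exists_inv_over_solvable_top (G N : Subgroup Γ) [hG : G.Normal] [hN : N.Normal]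
    [Fintype G] [Fintype N] (hNG : N ≤ G) (hcop : G.index.Coprime (N.relIndex G))
    (hsolv : Group.IsSolvable (Γ ⧸ G)) (θ : Cfsg.IrrCharacter N)
    (hinv : ∀ (x : Γ) (n : N), (θ : N → ℂ) ⟨x * n * x⁻¹, hN.conj_mem n n.2 x⟩ = (θ : N → ℂ) n) :
    ∃ χ : Cfsg.IrrCharacter G,
      Cfsg.classInner (fun n : N => (χ : G → ℂ) ⟨n, hNG n.2⟩) (θ : N → ℂ) ≠ 0 ∧
      ∀ (x : Γ) (g g' : G), (g' : Γ) = x * g * x⁻¹ → (χ : G → ℂ) g' = (χ : G → ℂ) g := by
  classical
  obtain ⟨d, σ, hσ, hc⟩ := θ.2
  have := hσ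
  have hinv' : ∀ g n, σ.character (cn g n) = σ.character n := fun g n => by
    rw [hc]; exact hinv g n
  have := Char.nontrivial_of_irreducible σ
  have hd : 0 < finrank ℂ (Fin d → ℂ) := finrank_pos
  set P : Subgroup (twistGroup σ) := (detTwist σ ^ Nat.card N).ker with hP
  let π : P →* Γ := (proj σ).comp P.subtype
  have hπ : Function.Surjective π := fun g => by
    obtain ⟨x₀, hx₀⟩ := exists_mem_of_invariant σ (hinv' g)
    obtain ⟨c, hcc⟩ := IsAlgClosed.exists_pow_nat_eq ((((detTwist σ x₀)⁻¹ : ℂˣ)) : ℂ) hd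
    have hc0 : c ≠ 0 := fun h => by
      rw [h, zero_pow hd.ne'] at hcc; exact ((detTwist σ x₀)⁻¹).ne_zero hcc.symm
    have hu : Units.mk0 c hc0 ^ finrank ℂ (Fin d → ℂ) = (detTwist σ x₀)⁻¹ :=
      Units.ext (by simpa using hcc)
    refine ⟨⟨scal σ (Units.mk0 c hc0) * x₀, ?_⟩, ?_⟩
    · rw [hP, MonoidHom.mem_ker, MonoidHom.pow_apply, map_mul, detTwist_scal, hu, inv_mul_cancel,
        one_pow]
    · show proj σ (scal σ (Units.mk0 c hc0) * x₀) = g
      rw [map_mul, proj_scal, one_mul, hx₀]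
  -- the kernel
  let Z : Subgroup P := π.ker
  have hZscal : ∀ z : Z, ∃ c : ℂˣ, ((z : P) : twistGroup σ) = scal σ c := fun z =>
    exists_scal_of_proj σ z.2
  choose τ hτ using hZscal
  have hscal_inj : Function.Injective (scal σ) := fun a b h =>
    scalarUnit_injective (V := Fin d → ℂ) (by rw [← op_scal σ a, ← op_scal σ b, h])
  have hZfin : Finite Z := by
    have : NeZero (finrank ℂ (Fin d → ℂ) * Nat.card N) := ⟨mul_ne_zero hd.ne' Nat.card_pos.ne'⟩
    refine Finite.of_injective (fun z : Z =>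
      (⟨τ z, ?_⟩ : rootsOfUnity (finrank ℂ (Fin d → ℂ) * Nat.card N) ℂ)) fun a b h => ?_
    · have h : (detTwist σ ^ Nat.card N) ((z : P) : twistGroup σ) = 1 := (z : P).2
      rw [hτ z, MonoidHom.pow_apply, detTwist_scal, ← pow_mul] at h
      exact h
    · exact Subtype.ext (Subtype.ext (by rw [hτ a, hτ b]; exact congrArg _ (congrArg Subtype.val h)))
  have : Finite P := by
    have h1 : Finite (P ⧸ π.ker) :=
      Finite.of_injective _ (QuotientGroup.kerLift_injective π)
    exact Nat.finite_of_card_ne_zero (by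
      rw [Subgroup.card_eq_card_quotient_mul_card_subgroup π.ker]
      exact mul_ne_zero Nat.card_pos.ne' (Nat.card_pos (α := Z)).ne')
  have := Fintype.ofFinite P
  -- the copy of `N`
  have hemb : ∀ n : N, emb σ n ∈ P := fun n => by
    rw [hP, MonoidHom.mem_ker, MonoidHom.pow_apply, ← map_pow, ← map_pow, pow_card_eq_one',
      map_one, map_one]
  let em : N →* P := (emb σ).codRestrict P hemb
  let E : Subgroup P := em.range
  have hE : E.Normal := ⟨by
    rintro _ ⟨n, rfl⟩ x
    exact ⟨cn (proj σ (x : twistGroup σ)) n, Subtype.ext (conj_emb σ (x : twistGroup σ) n).symm⟩⟩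
  let Gs : Subgroup P := G.comap π
  have hEG : E ≤ Gs := by
    rintro _ ⟨n, rfl⟩
    exact hNG n.2
  have hZG : Z ≤ Gs := fun z hz => by
    show π z ∈ G
    rw [show π z = 1 from hz]
    exact one_mem G
  let μ : P →* P ⧸ E := QuotientGroup.mk' E
  let Gq : Subgroup (P ⧸ E) := Gs.map μ
  let Zq : Subgroup (P ⧸ E) := Z.map μ
  have hGqn : Gq.Normal := Subgroup.Normal.map inferInstance μ (QuotientGroup.mk'_surjective E)
  have := Fintype.ofFinite Gq
  have hZc : Z ≤ Subgroup.center P := fun z hz => by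
    rw [Subgroup.mem_center_iff]
    intro x
    refine Subtype.ext ?_
    show (x : twistGroup σ) * (z : twistGroup σ) = z * x
    rw [hτ ⟨z, hz⟩]
    exact (scal_commute σ _ _).eq.symm
  have hZqc : Zq ≤ Subgroup.center (P ⧸ E) := by
    rintro _ ⟨z, hz, rfl⟩
    rw [Subgroup.mem_center_iff]
    intro q
    induction q using QuotientGroup.induction_on with
    | H x => exact congrArg μ (Subgroup.mem_center_iff.1 (hZc hz) x)
  have hidxG : Gq.index = G.index := by
    rw [Subgroup.index_map_eq _ (QuotientGroup.mk'_surjective E)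
      (by rw [QuotientGroup.ker_mk']; exact hEG), Subgroup.index_comap_of_surjective G hπ]
  have hcomap : Zq.comap μ = N.comap π := by
    rw [Subgroup.comap_map_eq, QuotientGroup.ker_mk']
    refine le_antisymm (sup_le (fun z hz => ?_) ?_) fun x hx => ?_
    · show π z ∈ N
      rw [show π z = 1 from hz]; exact one_mem N
    · rintro _ ⟨n, rfl⟩; exact n.2
    · rw [← inv_mul_cancel_right x (em ⟨π x, hx⟩)]
      refine mul_mem (Subgroup.mem_sup_left ?_) (Subgroup.mem_sup_right ⟨_, rfl⟩)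
      show π (x * (em ⟨π x, hx⟩)⁻¹) = 1
      rw [map_mul, map_inv]
      exact mul_inv_cancel (π x)
  have hrel : Zq.relIndex Gq = N.relIndex G := by
    rw [← Subgroup.relIndex_comap, hcomap, Subgroup.relIndex_comap,
      Subgroup.map_comap_eq_self_of_surjective hπ]
  have hsolvq : Group.IsSolvable ((P ⧸ E) ⧸ Gq) := by
    have : Gs.Normal := inferInstance
    have h1 : Group.IsSolvable (P ⧸ Gs) :=
      solvable_of_solvable_injective (f := QuotientGroup.map Gs G π le_rfl) (by
        rw [injective_iff_map_eq_one]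
        intro q
        induction q using QuotientGroup.induction_on with
        | H x => exact fun hx => (QuotientGroup.eq_one_iff x).mpr ((QuotientGroup.eq_one_iff (π x)).mp hx))
    refine solvable_of_surjective (f := QuotientGroup.map Gs Gq μ (fun x hx => ⟨x, hx, rfl⟩)) ?_
    intro q
    induction q using QuotientGroup.induction_on with
    | H q =>
      induction q using QuotientGroup.induction_on with
      | H x => exact ⟨x, rfl⟩
  -- the linear character of the kernel
  let τh : Z →* ℂˣ := MonoidHom.mk' τ fun a b => hscal_inj (by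
    rw [map_mul, ← hτ a, ← hτ b, ← hτ (a * b)]
    rfl)
  have hZinj : Function.Bijective (μ.subgroupMap Z) := by
    refine ⟨(injective_iff_map_eq_one _).2 fun z hz => ?_, μ.subgroupMap_surjective Z⟩
    obtain ⟨n, hn⟩ := (QuotientGroup.eq_one_iff (z : P)).1 (congrArg Subtype.val hz)
    have h1 : (n : Γ) = 1 := (congrArg π hn).trans z.2
    exact Subtype.ext (by
      show (z : P) = 1
      rw [← hn, show n = 1 from Subtype.ext h1, map_one])
  let eZ : Z ≃* Zq := MulEquiv.ofBijective _ hZinj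
  let lz : Zq →* ℂˣ := (τh.comp eZ.symm.toMonoidHom)⁻¹
  obtain ⟨β, hβinv, hβz⟩ := exists_inv_over_central Gq Zq (Subgroup.map_mono hZG) hZqc
    (by rw [hidxG, hrel]; exact hcop) hsolvq lz
  -- the product with the extension
  have := Fintype.ofFinite Gs
  let E' : Subgroup Gs := E.subgroupOf Gs
  have := Fintype.ofFinite E'
  let Φ : Representation ℂ P (Fin d → ℂ) := (Units.coeHom _).comp ((op σ).comp P.subtype)
  let φ : Gs → ℂ := fun x => Φ.character (x : P)
  have hφ : Cfsg.IsCharacter Gs φ :=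
    Char.IsChar.comp Gs.subtype (Char.isCharacter_rep Φ)
  let eN : N →* E' :=
    ((em.codRestrict Gs fun n => hEG ⟨n, rfl⟩)).codRestrict E' fun n => ⟨n, rfl⟩
  have heN : Function.Bijective eN := ⟨fun a b h => Subtype.ext (congrArg
      (fun y : E' => π ((y : Gs) : P)) h), fun y => by
    obtain ⟨n, hn⟩ := y.2
    exact ⟨n, Subtype.ext (Subtype.ext hn)⟩⟩
  let ee : N ≃* E' := MulEquiv.ofBijective eN heN
  have hφN : ∀ n : N, φ (ee n) = (θ : N → ℂ) n := fun n => by
    rw [← hc]
    rfl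
  have hres : Cfsg.IsIrrCharacter E' fun y : E' => φ y := by
    have h := Char.IsIrr.comp_surjective ee.symm.toMonoidHom ee.symm.surjective θ.2
    convert h using 1
    funext y
    exact (congrArg (fun w : E' => φ w) (ee.apply_symm_apply y)).symm.trans (hφN _)
  let qmap : Gs ⧸ E' →* Gq := QuotientGroup.lift E' (μ.subgroupMap Gs) fun y hy =>
    Subtype.ext ((QuotientGroup.eq_one_iff _).2 hy)
  have hqmap : Function.Surjective qmap := fun q => by
    obtain ⟨y, rfl⟩ := μ.subgroupMap_surjective Gs q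
    exact ⟨(y : Gs ⧸ E'), rfl⟩
  let β' : Cfsg.IrrCharacter (Gs ⧸ E') :=
    ⟨fun q => (β : Gq → ℂ) (qmap q), Char.IsIrr.comp_surjective qmap hqmap β.2⟩
  let ψ : Gs → ℂ := Gallagher.twistBy φ (β' : Gs ⧸ E' → ℂ)
  have hψ : Cfsg.IsIrrCharacter Gs ψ := Gallagher.isIrr_twistBy hφ hres β'
  have hψv : ∀ y : Gs, ψ y = (β : Gq → ℂ) (μ.subgroupMap Gs y) * φ y := fun y => rfl
  let πG : Gs →* G := π.subgroupComap G
  have hπG : Function.Surjective πG := fun g => by
    obtain ⟨x, hx⟩ := hπ g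
    exact ⟨⟨x, show π x ∈ G from hx ▸ g.2⟩, Subtype.ext hx⟩
  have hconst : ∀ y z, πG z = 1 → ψ (y * z) = ψ y := by
    intro y z hz
    have hzZ : (z : P) ∈ Z := congrArg Subtype.val hz
    rw [show y * z = z * y from Subtype.ext (Subgroup.mem_center_iff.1 (hZc hzZ) (y : P))]
    rw [hψv, hψv, map_mul]
    have hb : (β : Gq → ℂ) (μ.subgroupMap Gs z * μ.subgroupMap Gs y) =
        ((τ ⟨z, hzZ⟩)⁻¹ : ℂˣ) * (β : Gq → ℂ) (μ.subgroupMap Gs y) := by
      have h := hβz (eZ ⟨z, hzZ⟩) (μ.subgroupMap Gs y)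
      have hl : lz (eZ ⟨z, hzZ⟩) = (τ ⟨z, hzZ⟩)⁻¹ := by
        show (τ (eZ.symm (eZ ⟨z, hzZ⟩)))⁻¹ = _
        rw [MulEquiv.symm_apply_apply]
      rw [hl] at h
      exact h
    have hf : φ (z * y) = (τ ⟨z, hzZ⟩ : ℂ) * φ y := by
      show LinearMap.trace ℂ _ (Φ ((z : P) * (y : P))) = _ * LinearMap.trace ℂ _ (Φ (y : P))
      rw [map_mul, show Φ (z : P) = (τ ⟨z, hzZ⟩ : ℂ) • (1 : Module.End ℂ (Fin d → ℂ)) from by
        show (op σ ((z : P) : twistGroup σ) : Module.End ℂ (Fin d → ℂ)) = _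
        rw [hτ ⟨z, hzZ⟩, op_scal, scalarUnit_val], smul_mul_assoc, one_mul, map_smul, smul_eq_mul]
    rw [hb, hf, mul_mul_mul_comm, ← Units.val_mul, inv_mul_cancel, Units.val_one, one_mul]
  obtain ⟨χ, hχ⟩ := exists_irr_of_comp πG hπG hψ hconst
  refine ⟨χ, ?_, fun x g g' hg' => ?_⟩
  · have hrw : (fun n : N => (χ : G → ℂ) ⟨n, hNG n.2⟩) =
        (β : Gq → ℂ) 1 • (θ : N → ℂ) := funext fun n => by
      have h := hχ ((ee n : E') : Gs)
      rw [show πG ((ee n : E') : Gs) = ⟨n, hNG n.2⟩ from Subtype.ext rfl] at h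
      rw [h, hψv, hφN, Pi.smul_apply, smul_eq_mul]
      congr 1
      exact congrArg (β : Gq → ℂ) (Subtype.ext ((QuotientGroup.eq_one_iff _).2 ⟨n, rfl⟩))
    rw [hrw, Char.classInner_smul_left, Char.classInner_irr_self θ, mul_one]
    exact Char.IsIrr.apply_one_ne_zero β.2
  · obtain ⟨x', rfl⟩ := hπ x
    obtain ⟨y, rfl⟩ := hπG g
    let y' : Gs := ⟨x' * y * x'⁻¹, (inferInstance : Gs.Normal).conj_mem _ y.2 _⟩
    have hy' : g' = πG y' := Subtype.ext (by
      rw [hg']
      show π x' * π y * (π x')⁻¹ = π (x' * y * x'⁻¹)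
      rw [map_mul, map_mul, map_inv])
    rw [hy', hχ, hχ, hψv, hψv]
    congr 1
    · exact hβinv (μ x') _ _ (by
        show μ (x' * y * x'⁻¹) = μ x' * μ y * (μ x')⁻¹
        rw [map_mul, map_mul, map_inv])
    · show Φ.character (x' * (y : P) * x'⁻¹) = Φ.character (y : P)
      exact Φ.char_conj _ _

end CfsgLib.CharAction
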