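import Mathlib.GroupTheory.ClassEquation
import Mathlib.GroupTheory.Index
import Mathlib.GroupTheory.Subgroup.Centralizer
import Mathlib.GroupTheory.GroupAction.ConjAct
import Mathlib.Data.Rat.Floor
import Mathlib.Algebra.Order.BigOperators.Group.Finset
import Mathlib.Tactic.Ring
import Cfsg.Agent.Lib.Char.Complete

/-!
# Landau: boundedly many classes bound the order
-/

namespace CfsgLib.CharAction

/-- Sums of at most `k` unit fractions with a given value have bounded denominators. -/
theorem exists_unit_fraction_bound : ∀ (k : ℕ) (s : ℚ), ∃ N : ℕ, ∀ m : Multiset ℕ,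
    Multiset.card m ≤ k → (∀ n ∈ m, 0 < n) → (m.map fun n : ℕ => (n : ℚ)⁻¹).sum = s →
    ∀ n ∈ m, n ≤ N := by
  intro k
  induction k with
  | zero => exact fun s => ⟨0, fun m hm _ _ n hn =>
      absurd (Multiset.card_pos_iff_exists_mem.2 ⟨n, hn⟩) (by omega)⟩
  | succ k ih =>
    intro s
    choose N hN using ih
    set b := ⌊((k + 1 : ℕ) : ℚ) / s⌋₊ with hb
    refine ⟨b + (Finset.range (b + 1)).sup (fun j => N (s - (j : ℚ)⁻¹)), fun m hm hpos hsum n hn => ?_⟩
    obtain ⟨j, hj, hjb⟩ : ∃ j ∈ m, j ≤ b := by
      by_contra hcon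
      push Not at hcon
      have hs : 0 < s := by
        rw [← hsum]
        obtain ⟨m', rfl⟩ := Multiset.exists_cons_of_mem hn
        rw [Multiset.map_cons, Multiset.sum_cons]
        refine add_pos_of_pos_of_nonneg (inv_pos.2 (Nat.cast_pos.2 (hpos n hn)))
          (Multiset.sum_nonneg fun x hx => ?_)
        obtain ⟨y, -, rfl⟩ := Multiset.mem_map.1 hx
        positivity
      have h1 : (m.map fun n : ℕ => (n : ℚ)⁻¹).sum < (m.map fun _ : ℕ => s / ((k + 1 : ℕ) : ℚ)).sum := by
        refine Multiset.sum_lt_sum (fun j hj => (?_ : _ < _).le) ⟨n, hn, ?_⟩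
        all_goals
          first
          | (have h2 := Nat.lt_of_floor_lt (hcon _ hj)
             rw [inv_lt_iff_one_lt_mul₀ (Nat.cast_pos.2 (hpos _ hj)), div_mul_eq_mul_div,
               one_lt_div (by positivity)]
             rw [div_lt_iff₀ hs] at h2
             linarith)
          | (have h2 := Nat.lt_of_floor_lt (hcon _ hn)
             rw [inv_lt_iff_one_lt_mul₀ (Nat.cast_pos.2 (hpos _ hn)), div_mul_eq_mul_div,
               one_lt_div (by positivity)]
             rw [div_lt_iff₀ hs] at h2
             linarith)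
      rw [hsum, Multiset.map_const', Multiset.sum_replicate, nsmul_eq_mul] at h1
      have h3 : (Multiset.card m : ℚ) ≤ ((k + 1 : ℕ) : ℚ) := Nat.cast_le.2 hm
      rw [mul_div_assoc', lt_div_iff₀ (by positivity)] at h1
      nlinarith
    obtain ⟨m', rfl⟩ := Multiset.exists_cons_of_mem hj
    rcases Multiset.mem_cons.1 hn with rfl | hn'
    · omega
    rw [Multiset.card_cons] at hm
    rw [Multiset.map_cons, Multiset.sum_cons] at hsum
    have h4 := hN (s - (j : ℚ)⁻¹) m' (by omega) (fun x hx => hpos x (Multiset.mem_cons_of_mem hx))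
      (by rw [← hsum]; ring) n hn'
    have h5 := Finset.le_sup (f := fun j : ℕ => N (s - (j : ℚ)⁻¹))
      (Finset.mem_range.2 (show j < b + 1 by omega))
    omega

/-- A finite group with at most `k` conjugacy classes has order bounded in terms of `k`. -/
theorem exists_order_bound_of_card_classes (k : ℕ) :
    ∃ N : ℕ, ∀ (G : Type*) [Group G] [Finite G], Nat.card (ConjClasses G) ≤ k → Nat.card G ≤ N := by
  obtain ⟨N, hN⟩ := exists_unit_fraction_bound k 1
  refine ⟨N, fun G _ _ hG => ?_⟩
  classical
  have := Fintype.ofFinite G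
  have := Fintype.ofFinite (ConjClasses G)
  have hex : ∀ C : ConjClasses G, ∃ g : G, ConjClasses.mk g = C := ConjClasses.exists_rep
  choose rep hrep using hex
  refine hN ((Finset.univ : Finset (ConjClasses G)).val.map fun C =>
    Nat.card (Subgroup.centralizer ({rep C} : Set G))) ?_ ?_ ?_ _ ?_
  · rw [Multiset.card_map]
    rwa [Nat.card_eq_fintype_card] at hG
  · intro n hn
    obtain ⟨C, -, rfl⟩ := Multiset.mem_map.1 hn
    exact Nat.card_pos
  · rw [Multiset.map_map]
    show ∑ C : ConjClasses G, ((Nat.card (Subgroup.centralizer ({rep C} : Set G)) : ℕ) : ℚ)⁻¹ = 1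
    have h : ∀ C : ConjClasses G,
        ((Nat.card (Subgroup.centralizer ({rep C} : Set G)) : ℕ) : ℚ)⁻¹ =
          (Nat.card C.carrier : ℚ) / Nat.card G := fun C => by
      have hC : ConjClasses.mk (rep C) = C := hrep C
      conv_rhs => rw [← hC, CfsgLib.Char.card_carrier_eq_index,
        ← (Subgroup.centralizer ({rep C} : Set G)).index_mul_card]
      have h1 : ((Subgroup.centralizer ({rep C} : Set G)).index : ℚ) ≠ 0 :=
        Nat.cast_ne_zero.2 Subgroup.index_ne_zero_of_finite
      push_cast
      field_simp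
    rw [Finset.sum_congr rfl fun C _ => h C, ← Finset.sum_div,
      div_eq_one_iff_eq (Nat.cast_ne_zero.2 Nat.card_pos.ne')]
    norm_cast
    simp only [Nat.card_eq_fintype_card, ← Set.toFinset_card]
    exact sum_conjClasses_card_eq_card G
  · refine Multiset.mem_map.2 ⟨ConjClasses.mk 1, Finset.mem_univ_val _, ?_⟩
    have h1 : rep (ConjClasses.mk (1 : G)) = 1 := isConj_one_right.1
      (ConjClasses.mk_eq_mk_iff_isConj.1 (hrep _).symm)
    rw [h1]
    have : Subgroup.centralizer ({1} : Set G) = ⊤ := by ext; simp [Subgroup.mem_centralizer_singleton_iff]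
    rw [this, Subgroup.card_top]

end CfsgLib.CharAction
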