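import Cfsg.Agent.Lib.CharAction.PGroup
import Cfsg.Agent.Lib.Char.Gallagher
import Cfsg.Agent.Lib.Char.AbelianInertia
import Cfsg.Agent.Lib.CharDegree.Twist

/-!
# Constituents along homomorphisms, and their behaviour under automorphisms
-/

namespace CfsgLib.CharAction

open scoped ComplexConjugate

variable {G C D : Type*} [Group G] [Group C] [Group D] [Fintype G] [Fintype C] [Fintype D]

/-- Multiplicities compose. -/
theorem mult_comp [Fintype (Cfsg.IrrCharacter C)] (ι : C →* G) (κ : D →* C)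
    (χ : Cfsg.IrrCharacter G) (θ : Cfsg.IrrCharacter D) :
    mult (ι.comp κ) χ θ = ∑ η : Cfsg.IrrCharacter C, mult ι χ η * mult κ η θ := by
  apply Nat.cast_injective (R := ℂ)
  rw [Nat.cast_sum, ← classInner_eq_mult]
  have h : (fun c : D => (χ : G → ℂ) ((ι.comp κ) c)) =
      ∑ η : Cfsg.IrrCharacter C, (mult ι χ η : ℂ) • fun c : D => (η : C → ℂ) (κ c) :=
    funext fun c => by simp [apply_eq_sum_mult ι χ, Finset.sum_apply]
  rw [h, Char.classInner_sum_left]
  exact Finset.sum_congr rfl fun η _ => by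
    rw [Char.classInner_smul_left, classInner_eq_mult, Nat.cast_mul]

theorem mult_comp_ne_zero (ι : C →* G) (κ : D →* C) {χ : Cfsg.IrrCharacter G}
    {η : Cfsg.IrrCharacter C} {θ : Cfsg.IrrCharacter D} (h : mult ι χ η ≠ 0)
    (h' : mult κ η θ ≠ 0) : mult (ι.comp κ) χ θ ≠ 0 := by
  classical
  have := Fintype.ofFinite (Cfsg.IrrCharacter C)
  rw [mult_comp ι κ]
  intro h0
  exact mul_ne_zero h h' (Finset.sum_eq_zero_iff.mp h0 η (Finset.mem_univ _))

/-- Characters with a common constituent are not orthogonal. -/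
theorem classInner_ne_zero_of_common (ι : C →* G) {χ χ' : Cfsg.IrrCharacter G}
    {θ : Cfsg.IrrCharacter C} (h : mult ι χ θ ≠ 0) (h' : mult ι χ' θ ≠ 0) :
    Cfsg.classInner (fun c : C => (χ : G → ℂ) (ι c)) (fun c : C => (χ' : G → ℂ) (ι c)) ≠ 0 := by
  classical
  have := Fintype.ofFinite (Cfsg.IrrCharacter C)
  have e : (fun c : C => (χ : G → ℂ) (ι c)) =
      ∑ η : Cfsg.IrrCharacter C, (mult ι χ η : ℂ) • (η : C → ℂ) :=
    funext fun c => by simp [apply_eq_sum_mult ι χ, Finset.sum_apply]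
  rw [e, Char.classInner_sum_left]
  have hterm : ∀ η : Cfsg.IrrCharacter C,
      Cfsg.classInner ((mult ι χ η : ℂ) • (η : C → ℂ)) (fun c : C => (χ' : G → ℂ) (ι c)) =
        ((mult ι χ η * mult ι χ' η : ℕ) : ℂ) := fun η => by
    rw [Char.classInner_smul_left, ← Char.classInner_conj_symm, classInner_eq_mult,
      map_natCast, Nat.cast_mul]
  rw [Finset.sum_congr rfl fun η _ => hterm η, ← Nat.cast_sum, Nat.cast_ne_zero]
  intro h0
  exact mul_ne_zero h h' (Finset.sum_eq_zero_iff.mp h0 θ (Finset.mem_univ _))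

omit [Fintype G] in
theorem exists_over [Finite G] (ι : C →* G) (hι : Function.Injective ι)
    (θ : Cfsg.IrrCharacter C) : ∃ χ : Cfsg.IrrCharacter G, mult ι χ θ ≠ 0 := by
  classical
  have := Fintype.ofFinite G
  have := Fintype.ofFinite (Cfsg.IrrCharacter G)
  by_contra h
  push Not at h
  have hz : ∀ χ : Cfsg.IrrCharacter G,
      ∑ c : C, (χ : G → ℂ) (ι c) * conj ((θ : C → ℂ) c) = 0 := fun χ => by
    rw [sum_apply_mul_conj, h, Nat.cast_zero, mul_zero]
  have h2 : ∑ χ : Cfsg.IrrCharacter G, conj ((χ : G → ℂ) 1) *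
      ∑ c : C, (χ : G → ℂ) (ι c) * conj ((θ : C → ℂ) c) = 0 :=
    Finset.sum_eq_zero fun χ _ => by rw [hz, mul_zero]
  simp only [Finset.mul_sum] at h2
  rw [Finset.sum_comm, Finset.sum_eq_single (1 : C)] at h2
  · simp only [map_one] at h2
    rw [Finset.sum_congr rfl (g := fun χ : Cfsg.IrrCharacter G =>
      (χ : G → ℂ) 1 * conj ((χ : G → ℂ) 1) * conj ((θ : C → ℂ) 1)) fun χ _ => by ring,
      ← Finset.sum_mul, Char.column_orthogonality, if_pos (IsConj.refl 1), mul_eq_zero,
      map_eq_zero] at h2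
    rcases h2 with h2 | h2
    · exact Nat.card_pos.ne' (Nat.cast_eq_zero.mp h2)
    · exact Char.IsIrr.apply_one_ne_zero θ.2 h2
  · intro c _ hc
    rw [Finset.sum_congr rfl (g := fun χ : Cfsg.IrrCharacter G =>
      (χ : G → ℂ) (ι c) * conj ((χ : G → ℂ) 1) * conj ((θ : C → ℂ) c)) fun χ _ => by ring,
      ← Finset.sum_mul, Char.column_orthogonality, if_neg, zero_mul]
    intro hconj
    apply hc
    apply hι
    rw [map_one]
    exact isConj_one_left.mp hconj
  · exact fun h => absurd (Finset.mem_univ _) h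

section Equivariant

variable {A : Type*} [Group A] [MulDistribMulAction A G] [MulDistribMulAction A C]

/-- Multiplicities along equivariant maps are invariant. -/
theorem mult_smul (ι : C →* G) (he : ∀ (a : A) (c : C), ι (a • c) = a • ι c) (a : A)
    (χ : Cfsg.IrrCharacter G) (γ : Cfsg.IrrCharacter C) :
    letI : MulAction A (Cfsg.IrrCharacter G) := charAction
    letI : MulAction A (Cfsg.IrrCharacter C) := charAction
    mult ι (a • χ) (a • γ) = mult ι χ γ := by
  apply Nat.cast_injective (R := ℂ)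
  rw [← classInner_eq_mult, ← classInner_eq_mult, Cfsg.classInner, Cfsg.classInner]
  congr 1
  refine Fintype.sum_equiv (MulAction.toPerm (a⁻¹)) _ _ fun c => ?_
  show (χ : G → ℂ) (a⁻¹ • ι c) * conj ((γ : C → ℂ) (a⁻¹ • c)) = _
  rw [← he]
  rfl

omit [Fintype G] in
theorem smul_eq_self_of_isInv {χ : Cfsg.IrrCharacter G} (h : IsInv A (χ : G → ℂ)) (a : A) :
    letI : MulAction A (Cfsg.IrrCharacter G) := charAction
    a • χ = χ :=
  Char.irr_ext fun g => h a⁻¹ g

omit [Fintype G] in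
theorem isInv_of_smul_eq {χ : Cfsg.IrrCharacter G}
    (h : ∀ a : A, letI : MulAction A (Cfsg.IrrCharacter G) := charAction; a • χ = χ) :
    IsInv A (χ : G → ℂ) := fun a g => by
  let : MulAction A (Cfsg.IrrCharacter G) := charAction
  have h' := congrArg (fun x : Cfsg.IrrCharacter G => (x : G → ℂ) g) (h a⁻¹)
  change (χ : G → ℂ) (a⁻¹⁻¹ • g) = _ at h'
  rwa [inv_inv] at h'

end Equivariant

/-- A constituent over an invariant-degree bound: the multiplicity divides the degree. -/
theorem mult_dvd_degree {N : Subgroup G} [Fintype N] (hN : N.Normal) (χ : Cfsg.IrrCharacter G)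
    (θ : Cfsg.IrrCharacter N) : mult N.subtype χ θ ≠ 0 →
    mult N.subtype χ θ ∣ Cfsg.charDegree (χ : G → ℂ) := by
  classical
  intro h
  have he := classInner_eq_mult N.subtype χ θ
  have hne : Cfsg.classInner (fun n : N => (χ : G → ℂ) n) (θ : N → ℂ) ≠ 0 := by
    show Cfsg.classInner (fun n : N => (χ : G → ℂ) (N.subtype n)) _ ≠ 0
    rw [he]; exact Nat.cast_ne_zero.mpr h
  have h1 := congrFun (Clifford.restrict_eq_smul_orbit_sum hN χ.2 θ.2 hne) 1
  obtain ⟨d, -, hd⟩ := Char.IsIrr.exists_degree χ.2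
  obtain ⟨e, -, hθd⟩ := Char.IsIrr.exists_degree θ.2
  rw [Pi.smul_apply, Finset.sum_apply, smul_eq_mul, OneMemClass.coe_one] at h1
  have hO : ∀ f ∈ Finset.univ.image (Clifford.conjFn hN (θ : N → ℂ)), f 1 = (θ : N → ℂ) 1 := by
    intro f hf
    obtain ⟨y, -, rfl⟩ := Finset.mem_image.mp hf
    rw [Clifford.conjFn_apply]
    exact congrArg _ (Subtype.ext (by simp))
  rw [Finset.sum_congr rfl hO, Finset.sum_const, nsmul_eq_mul, hθd,
    show Cfsg.classInner (fun n : N => (χ : G → ℂ) n) (θ : N → ℂ) = (mult N.subtype χ θ : ℂ) from he]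
    at h1
  rw [hd] at h1
  have hdeg : Cfsg.charDegree (χ : G → ℂ) = d := by
    simp [Cfsg.charDegree, hd]
  rw [hdeg]
  exact ⟨_, by exact_mod_cast h1⟩

end CfsgLib.CharAction
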