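import Cfsg.Agent.Lib.Char.CliffordCorr
import Cfsg.Agent.Lib.Char.CliffordRestrict
import Cfsg.Agent.Lib.Char.PowerTwist
import Mathlib.GroupTheory.Perm.Cycle.Type

/-!
# Constituents of power-invariant characters in normal subgroups of index prime to `p`
-/

namespace CfsgLib.CharAction

open scoped ComplexConjugate
open CfsgLib.Char CfsgLib.Clifford

variable {G : Type*} [Group G] [Fintype G]

/-- If `χ` is fixed by `g ↦ g ^ k`, of `p`-power order, so are its constituents on a normal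
subgroup of index prime to `p`. -/
theorem apply_pow_of_constituent {p : ℕ} [Fact p.Prime] (N : Subgroup G) [hN : N.Normal]
    [Fintype N] (hidx : ¬ p ∣ N.index) {k e : ℕ} (hk : k.Coprime (Nat.card G))
    (hke : k ^ (p ^ e) ≡ 1 [MOD Nat.card G]) (χ : Cfsg.IrrCharacter G)
    (hχ : ∀ g : G, (χ : G → ℂ) (g ^ k) = (χ : G → ℂ) g) (θ : Cfsg.IrrCharacter N)
    (hθ : Cfsg.classInner (fun n : N => (χ : G → ℂ) n) (θ : N → ℂ) ≠ 0) (n : N) :
    (θ : N → ℂ) (n ^ k) = (θ : N → ℂ) n := by
  classical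
  have hkN : k.Coprime (Nat.card N) := hk.coprime_dvd_right N.card_subgroup_dvd_card
  set O := Finset.univ.image (conjFn hN (θ : N → ℂ))
  have hres := restrict_eq_smul_orbit_sum hN χ.2 θ.2 hθ
  have hmem : ∀ ψ ∈ O, Cfsg.IsIrrCharacter N ψ ∧ (fun m => ψ (m ^ k)) ∈ O := by
    intro ψ hψ
    obtain ⟨g, -, hg⟩ := Finset.mem_image.1 hψ
    have hψi : Cfsg.IsIrrCharacter N ψ := hg ▸ isIrrCharacter_conjFn hN θ.2 g
    refine ⟨hψi, by_contra fun hnot => ?_⟩
    let φ : Cfsg.IrrCharacter N := ⟨_, isIrrCharacter_pow hψi hkN⟩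
    have h0 : Cfsg.classInner (fun m : N => (χ : G → ℂ) m) (φ : N → ℂ) = 0 := by
      rw [hres, classInner_smul_left, classInner_sum_left, Finset.sum_eq_zero, mul_zero]
      intro η hη
      obtain ⟨x, -, hx⟩ := Finset.mem_image.1 hη
      exact classInner_irr_of_ne (χ := ⟨η, hx ▸ isIrrCharacter_conjFn hN θ.2 x⟩) (ψ := φ)
        fun h => hnot (show (φ : N → ℂ) ∈ O from
          congrArg Subtype.val h ▸ (show η ∈ O from hη))
    have h1 : Cfsg.classInner (fun m : N => (χ : G → ℂ) m) (φ : N → ℂ) =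
        Cfsg.classInner (fun m : N => (χ : G → ℂ) m) ψ := by
      simp only [Cfsg.classInner]
      congr 1
      refine Fintype.sum_equiv (powCoprime hkN.symm) _ _ fun m => ?_
      show _ = (χ : G → ℂ) ((m ^ k : N) : G) * conj (ψ (m ^ k))
      rw [SubgroupClass.coe_pow, hχ]
    apply hθ
    rw [← h0, h1, ← hg]
    simp only [Cfsg.classInner]
    congr 1
    refine (Fintype.sum_equiv ((MulAut.conjNormal g : MulAut N)).toEquiv _ _ fun m => ?_).symm
    simp only [conjFn_apply, MulEquiv.toEquiv_eq_coe, MulEquiv.coe_toEquiv,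
      MulAut.conjNormal_apply]
    rw [IsIrr.isClassFunction χ.2 (m : G) g]
    rfl
  let σ : O → O := fun ψ => ⟨fun m => ψ.1 (m ^ k), (hmem _ ψ.2).2⟩
  have hinj : Function.Injective σ := fun a b h => Subtype.ext (funext fun m => by
    obtain ⟨m', rfl⟩ := (powCoprime hkN.symm).surjective m
    exact congrFun (congrArg Subtype.val h) m')
  let π : Equiv.Perm O := Equiv.ofBijective σ (Finite.injective_iff_bijective.1 hinj)
  have hiter : ∀ (j : ℕ) (ψ : O) (m : N), ((π ^ j) ψ).1 m = ψ.1 (m ^ (k ^ j)) := by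
    intro j
    induction j with
    | zero => intro ψ m; simp
    | succ j ih =>
      intro ψ m
      rw [pow_succ, Equiv.Perm.mul_apply, ih (π ψ) m]
      show ψ.1 ((m ^ (k ^ j)) ^ k) = _
      rw [← pow_mul, ← pow_succ]
  have hπ : π ^ p ^ e = 1 := Equiv.ext fun ψ => Subtype.ext (funext fun m => by
    rw [hiter, Equiv.Perm.one_apply]
    refine congrArg ψ.1 ?_
    exact (pow_eq_pow_iff_modEq.2 ((hke.of_dvd N.card_subgroup_dvd_card).of_dvd
      (orderOf_dvd_natCard m))).trans (pow_one m))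
  have hcard : ¬ p ∣ Fintype.card O := by
    rw [Fintype.card_coe, show O.card = (inertia hN (θ : N → ℂ)).index by convert card_orbit hN (θ : N → ℂ)]
    exact fun h => hidx (h.trans (Subgroup.index_dvd_of_le
      (le_inertia hN (IsIrr.isClassFunction θ.2))))
  obtain ⟨ψ, hψ⟩ := Equiv.Perm.exists_fixed_point_of_prime hcard hπ
  obtain ⟨g, -, hg⟩ := Finset.mem_image.1 ψ.2
  have hfix : ∀ m : N, (θ : N → ℂ) ((MulAut.conjNormal g : MulAut N) m ^ k) =
      (θ : N → ℂ) ((MulAut.conjNormal g : MulAut N) m) := fun m => by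
    have h := congrFun (congrArg Subtype.val hψ) m
    have e1 : ∀ z : N, ψ.1 z = (θ : N → ℂ) ((MulAut.conjNormal g : MulAut N) z) := fun z => by
      rw [← hg, conjFn_apply]
      exact congrArg _ (Subtype.ext (MulAut.conjNormal_apply g z).symm)
    rw [← map_pow, ← e1, ← e1]
    exact h
  obtain ⟨m, rfl⟩ := (MulAut.conjNormal g : MulAut N).surjective n
  exact hfix m

end CfsgLib.CharAction
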