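import Cfsg.Agent.Lib.CharAction.PGroup
import Cfsg.Agent.Lib.CharAction.Galois
import Cfsg.Agent.Lib.Char.CyclicGlauberman
import Cfsg.Agent.Lib.Char.CliffordCorr
import Cfsg.Agent.Lib.Blocks.Covering
import Mathlib.GroupTheory.Nilpotent

/-!
# Degrees of characters under a semiregular coprime action of a p-group

`P` is a p-group acting by conjugation on the normal p'-subgroup `K`, and every nontrivial element
of `P` has the same centralizer in `K` as `P`. An irreducible character of `K` then has stabilizer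
`⊥` or `P` in `P`; in the second case, if `P` acts nontrivially modulo its kernel, its degree
squared exceeds `|P|`.
-/

namespace CfsgLib.Semiregular

open CfsgLib.Char CfsgLib.CharExt CfsgLib.CharAction
open scoped ComplexConjugate

variable {G : Type*} [Group G]

/-- Conjugation action of a subgroup on a normal subgroup. -/
@[instance_reducible]
def conjAct (K R : Subgroup G) [K.Normal] : MulDistribMulAction R K :=
  MulDistribMulAction.compHom K ((MulAut.conjNormal : G →* MulAut K).comp R.subtype)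

theorem coe_conjAct (K R : Subgroup G) [K.Normal] (a : R) (k : K) :
    letI := conjAct K R
    ((a • k : K) : G) = (a : G) * k * (a : G)⁻¹ := rfl

variable [Finite G] {p : ℕ} [Fact p.Prime] {K P : Subgroup G} [hKn : K.Normal]
  (hP : IsPGroup p P) (hK : ¬ p ∣ Nat.card K)
  (hs : ∀ x ∈ P, x ≠ 1 → ∀ k ∈ K, k * x = x * k → k ∈ Subgroup.centralizer (P : Set G))

omit [Finite G] in
include hs in
theorem fixed_iff {R : Subgroup G} (hR : R ≤ P) (hR1 : R ≠ ⊥) :
    letI := conjAct K R
    ∀ g : K, g ∈ (Subgroup.inclusion (inf_le_left : K ⊓ Subgroup.centralizer (P : Set G) ≤ K)).range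
      ↔ ∀ a : R, a • g = g := by
  let := conjAct K R
  intro g
  refine ⟨fun ⟨c, hc⟩ a => Subtype.ext ?_, fun h => ⟨⟨g, g.2, ?_⟩, rfl⟩⟩
  · rw [coe_conjAct, ← hc]
    show (a : G) * (c : G) * (a : G)⁻¹ = c
    rw [Subgroup.mem_centralizer_iff.mp c.2.2 a (hR a.2), mul_inv_cancel_right]
  · obtain ⟨⟨r, hr⟩, hr'⟩ := Subgroup.ne_bot_iff_exists_ne_one.mp hR1
    have hr1 : r ≠ 1 := fun e => hr' (Subtype.ext e)
    have h1 := congrArg Subtype.val (h ⟨r, hr⟩)
    rw [coe_conjAct] at h1
    exact hs r (hR hr) hr1 g g.2 (mul_inv_eq_iff_eq_mul.mp h1).symm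

omit [Finite G] in
theorem isInv_of_le_inertia {R : Subgroup G} {θ : K → ℂ}
    (h : R ≤ Clifford.inertia hKn θ) :
    letI := conjAct K R
    IsInv R θ := by
  let := conjAct K R
  intro a g
  exact congrFun (Clifford.mem_inertia.mp (h a.2)) g

include hP hK hs in
/-- An element normalizing a nontrivial stabilizer stabilizes. -/
theorem mem_inertia_of_normalizes (θ : Cfsg.IrrCharacter K) {R : Subgroup G} (hR : R ≤ P)
    (hR1 : R ≠ ⊥) (hfix : R ≤ Clifford.inertia hKn (θ : K → ℂ)) {a : G} (ha : a ∈ P)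
    (haR : ∀ r ∈ R, a * r * a⁻¹ ∈ R) : a ∈ Clifford.inertia hKn (θ : K → ℂ) := by
  classical
  let := conjAct K R
  have := Fintype.ofFinite K
  let C := K ⊓ Subgroup.centralizer (P : Set G)
  have := Fintype.ofFinite C
  let ι : C →* K := Subgroup.inclusion inf_le_left
  have hA : IsPGroup p R := hP.to_le hR
  have hC := fixed_iff hs hR hR1
  have hι : Function.Injective ι := Subgroup.inclusion_injective _
  set θ' := Blocks.conjIrr K a θ
  have hθ : IsInv R (θ : K → ℂ) := isInv_of_le_inertia hfix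
  have hθ' : IsInv R (θ' : K → ℂ) := fun r g => by
    rw [Blocks.conjIrr_apply, Blocks.conjIrr_apply]
    refine (congrArg _ (Subtype.ext ?_)).trans
      (hθ ⟨_, haR r r.2⟩ ⟨a * g * a⁻¹, hKn.conj_mem g g.2 a⟩)
    show a * ((r : G) * g * (r : G)⁻¹) * a⁻¹ =
      (a * r * a⁻¹) * (a * g * a⁻¹) * (a * r * a⁻¹)⁻¹
    group
  obtain ⟨β, -, hβ⟩ := exists_correspondent hA ι hι hC hK hθ
  have hmult : mult ι θ' β = mult ι θ β := by
    refine Nat.cast_injective (R := ℂ) ?_
    rw [← classInner_eq_mult, ← classInner_eq_mult]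
    congr 1
    funext c
    rw [Blocks.conjIrr_apply]
    refine congrArg _ (Subtype.ext ?_)
    show a * (c : G) * a⁻¹ = c
    rw [Subgroup.mem_centralizer_iff.mp c.2.2 a ha, mul_inv_cancel_right]
  have hnd : ¬ p ∣ mult ι θ β := fun h => by
    have h0 : (mult ι θ β : ℤ) ≡ 0 [ZMOD p] :=
      Int.modEq_zero_iff_dvd.mpr (Int.natCast_dvd_natCast.mpr h)
    have hp2 : ∀ z : ℤ, z = 1 ∨ z = -1 → ¬ (p : ℤ) ∣ z := fun z hz hd => by
      have : (p : ℤ).natAbs ∣ z.natAbs := Int.natAbs_dvd_natAbs.mpr hd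
      rcases hz with rfl | rfl <;> simp at this <;> exact (Fact.out : p.Prime).ne_one this
    rcases hβ with h1 | h1
    · exact hp2 1 (Or.inl rfl) (Int.modEq_zero_iff_dvd.mp (h1.symm.trans h0))
    · exact hp2 (-1) (Or.inr rfl) (Int.modEq_zero_iff_dvd.mp (h1.symm.trans h0))
  have he := correspondent_injective hA ι hι hC hK hθ hθ' hnd (hmult ▸ hnd)
  refine Clifford.mem_inertia.mpr (funext fun n => ?_)
  rw [Clifford.conjFn_apply, ← Blocks.conjIrr_apply]
  exact (congrFun (congrArg Subtype.val he) n).symm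

include hP hK hs in
theorem le_inertia_or_inf_eq_bot (θ : Cfsg.IrrCharacter K) :
    P ≤ Clifford.inertia hKn (θ : K → ℂ) ∨ Clifford.inertia hKn (θ : K → ℂ) ⊓ P = ⊥ := by
  by_contra! h
  obtain ⟨hnle, hne⟩ := h
  set R := Clifford.inertia hKn (θ : K → ℂ) ⊓ P
  have : Group.IsNilpotent P := hP.isNilpotent
  have hlt : R.subgroupOf P < ⊤ := lt_top_iff_ne_top.mpr fun h =>
    hnle ((Subgroup.subgroupOf_eq_top.mp h).trans inf_le_left)
  obtain ⟨a, ha, han⟩ := SetLike.exists_of_lt (normalizerCondition_of_isNilpotent _ hlt)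
  refine han (Subgroup.mem_subgroupOf.mpr ⟨mem_inertia_of_normalizes hP hK hs θ inf_le_right hne
    inf_le_left a.2 fun r hr => ?_, a.2⟩)
  exact Subgroup.mem_subgroupOf.mp ((Subgroup.mem_normalizer_iff.mp ha ⟨r, hr.2⟩).mp hr)

include hP hK hs in
/-- The degree bound. -/
theorem card_lt_degree_sq (θ : Cfsg.IrrCharacter K) (hinv : P ≤ Clifford.inertia hKn (θ : K → ℂ))
    {x₀ k₀ : G} (hx₀ : x₀ ∈ P) (hk₀ : k₀ ∈ K) (hz : x₀ * k₀ * x₀⁻¹ * k₀⁻¹ ∈ K)
    (hne : (θ : K → ℂ) ⟨_, hz⟩ ≠ (θ : K → ℂ) 1) :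
    Nat.card P < Cfsg.charDegree (θ : K → ℂ) ^ 2 := by
  classical
  have hp : p.Prime := Fact.out
  by_contra hle
  push Not at hle
  obtain ⟨m, σ, hσ, hσc⟩ := θ.2
  have := hσ
  have hdeg : Cfsg.charDegree (θ : K → ℂ) = Module.finrank ℂ (Fin m → ℂ) :=
    charDegree_eq_of_apply_one (by rw [← hσc, Representation.char_one])
  have hdpos : 0 < Module.finrank ℂ (Fin m → ℂ) :=
    CharIntegral.finrank_pos_of_irreducible σ
  set d := Module.finrank ℂ (Fin m → ℂ) with hd
  rw [hdeg] at hle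
  -- the extension to `K ⊔ P`
  let Γ := K ⊔ P
  let K' : Subgroup Γ := K.subgroupOf Γ
  have hK'n : K'.Normal := hKn.subgroupOf _
  let e : K' ≃* K := Subgroup.subgroupOfEquivOfLe le_sup_left
  let σ' : Representation ℂ K' (Fin m → ℂ) := σ.comp e.toMonoidHom
  obtain ⟨n, hn⟩ := IsPGroup.iff_card.mp hP
  have hcopKP : ∀ i : ℕ, (Nat.card K).Coprime (p ^ i) := fun i =>
    (hp.coprime_iff_not_dvd.mpr hK).symm.pow_right i
  have hinf : K ⊓ P = ⊥ := by
    rw [← Subgroup.card_eq_one]
    exact Nat.eq_one_of_dvd_coprimes (hn ▸ hcopKP n) (Subgroup.card_dvd_of_le inf_le_left)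
      (Subgroup.card_dvd_of_le inf_le_right)
  have hidx : K'.index = p ^ n := by
    rw [← hn, show K'.index = K.relIndex (K ⊔ P) from rfl, sup_comm, Subgroup.relIndex_sup_right,
      ← Subgroup.inf_relIndex_right, hinf, Subgroup.relIndex_bot_left]
  have : σ'.IsIrreducible := isIrreducible_of_restrict σ' e.symm.toMonoidHom σ fun k => by
    show σ (e (e.symm k)) = σ k
    rw [MulEquiv.apply_symm_apply]
  have hinvΓ : ∀ (g : Γ) (k : K'), σ'.character (cn g k) = σ'.character k := fun g k => by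
    have hg : (g : G) ∈ Clifford.inertia hKn (θ : K → ℂ) :=
      sup_le (Clifford.le_inertia hKn (IsIrr.isClassFunction θ.2)) hinv g.2
    have h := congrFun (Clifford.mem_inertia.mp hg) (e k)
    rw [← hσc] at h
    show σ.character (e (cn g k)) = σ.character (e k)
    rw [← h, Clifford.conjFn_apply]
    rfl
  have ho : orderOf (detHom σ') ∣ Nat.card K := by
    rw [← Nat.card_congr e.toEquiv]
    exact orderOf_dvd_of_pow_eq_one (hom_pow_card _)
  obtain ⟨ρ, hρ, hρo⟩ := exists_canonical_extension σ' hinvΓ (by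
    rw [hidx]
    exact Nat.Coprime.mul_left ((hcopKP n).coprime_dvd_left ho)
      ((hcopKP n).coprime_dvd_left (CharIntegral.finrank_dvd_card σ)))
  have hρK : ∀ (k : K), ρ ⟨k, Subgroup.mem_sup_left k.2⟩ = σ k := fun k =>
    (hρ ⟨⟨k, Subgroup.mem_sup_left k.2⟩, k.2⟩).trans rfl
  -- the correspondent for `P`
  let C := K ⊓ Subgroup.centralizer (P : Set G)
  have := Fintype.ofFinite C
  have := Fintype.ofFinite K
  let ι : C →* K := Subgroup.inclusion inf_le_left
  have hι : Function.Injective ι := Subgroup.inclusion_injective _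
  have hP1 : P ≠ ⊥ := by
    rintro rfl
    rw [Subgroup.mem_bot] at hx₀
    subst hx₀
    refine hne (congrArg _ (Subtype.ext ?_))
    simp
  let _ := conjAct K P
  have hθP : IsInv P (θ : K → ℂ) := isInv_of_le_inertia hinv
  obtain ⟨β₀, -, hβ₀⟩ := exists_correspondent hP ι hι (fixed_iff hs le_rfl hP1) hK hθP
  have hnd : ¬ p ∣ mult ι θ β₀ := fun h => by
    have h0 : (mult ι θ β₀ : ℤ) ≡ 0 [ZMOD p] :=
      Int.modEq_zero_iff_dvd.mpr (Int.natCast_dvd_natCast.mpr h)
    have hp2 : ∀ z : ℤ, z = 1 ∨ z = -1 → ¬ (p : ℤ) ∣ z := fun z hz hd => by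
      have : (p : ℤ).natAbs ∣ z.natAbs := Int.natAbs_dvd_natAbs.mpr hd
      rcases hz with rfl | rfl <;> simp at this <;> exact hp.ne_one this
    rcases hβ₀ with h1 | h1
    · exact hp2 1 (Or.inl rfl) (Int.modEq_zero_iff_dvd.mp (h1.symm.trans h0))
    · exact hp2 (-1) (Or.inr rfl) (Int.modEq_zero_iff_dvd.mp (h1.symm.trans h0))
  obtain ⟨b, hb, hbpos, -⟩ := degree_dvd_card β₀
  have hbd : b ≤ d := by
    have := Fintype.ofFinite (Cfsg.IrrCharacter C)
    have h1 := apply_eq_sum_mult ι θ 1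
    rw [map_one, ← hσc, Representation.char_one, ← hd] at h1
    choose f hf _ _ using fun γ : Cfsg.IrrCharacter C => degree_dvd_card γ
    simp only [hf] at h1
    have h2 : d = ∑ γ, mult ι θ γ * f γ := by exact_mod_cast h1
    have h3 : f β₀ = b := by exact_mod_cast (hf β₀).symm.trans hb
    calc b = 1 * f β₀ := by rw [one_mul, h3]
      _ ≤ mult ι θ β₀ * f β₀ :=
          Nat.mul_le_mul_right _ (Nat.pos_of_ne_zero fun h => hnd (h ▸ dvd_zero p))
      _ ≤ _ := h2 ▸ Finset.single_le_sum (fun γ _ => Nat.zero_le (mult ι θ γ * f γ))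
          (Finset.mem_univ β₀)
  -- the values on the nontrivial elements of `P`
  have hval : ∀ (x : G) (hx : x ∈ P), x ≠ 1 →
      ‖ρ.character ⟨x, Subgroup.mem_sup_right hx⟩‖ = (b : ℝ) := by
    intro x hx hx1
    let Δ := K ⊔ Subgroup.zpowers x
    have hxz : Subgroup.zpowers x ≤ P := Subgroup.zpowers_le.mpr hx
    have hΔ : Δ ≤ Γ := sup_le_sup_left hxz K
    have := Fintype.ofFinite Δ
    let s : Δ := ⟨x, Subgroup.mem_sup_right (Subgroup.mem_zpowers x)⟩
    let KΔ : Subgroup Δ := K.subgroupOf Δ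
    let CΔ : Subgroup Δ := C.subgroupOf Δ
    let S := Subgroup.zpowers s
    have := Fintype.ofFinite CΔ
    have := Fintype.ofFinite S
    have hcardS : Nat.card S = orderOf x := by
      rw [Nat.card_zpowers, ← Subgroup.orderOf_coe]
    obtain ⟨i, hi⟩ : ∃ i, orderOf x = p ^ i := by
      obtain ⟨i, hi⟩ := IsPGroup.iff_orderOf.mp hP ⟨x, hx⟩
      exact ⟨i, by rw [← hi, ← Subgroup.orderOf_coe]⟩
    have hcardKΔ : Nat.card KΔ = Nat.card K :=
      Nat.card_congr (Subgroup.subgroupOfEquivOfLe le_sup_left).toEquiv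
    have D : CyclicGlauberman.Setting KΔ S CΔ s := by
      refine ⟨hKn.subgroupOf _, rfl, ?_, by rw [hcardKΔ, hcardS, hi]; exact hcopKP i, ?_⟩
      · rw [show S = (Subgroup.zpowers x).subgroupOf Δ from ?_,
          ← Subgroup.subgroupOf_sup le_sup_left le_sup_right, Subgroup.subgroupOf_self]
        refine Subgroup.map_injective Δ.subtype_injective ?_
        rw [MonoidHom.map_zpowers, Subgroup.map_subgroupOf_eq_of_le le_sup_right]
        rfl
      · ext c
        constructor
        · rintro ⟨h1, h2⟩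
          refine ⟨h1, ?_⟩
          refine Subgroup.mem_centralizer_iff.mpr ?_
          rintro a ⟨j, rfl⟩
          exact Subtype.ext (by
            simpa using Subgroup.mem_centralizer_iff.mp h2 (x ^ j) (zpow_mem hx j))
        · rintro ⟨h1, h2⟩
          refine ⟨h1, hs x hx hx1 _ h1 ?_⟩
          exact (congrArg Subtype.val
            (Subgroup.mem_centralizer_iff.mp h2 s (Subgroup.mem_zpowers s))).symm
    let τ : Representation ℂ Δ (Fin m → ℂ) := ρ.comp (Subgroup.inclusion hΔ)
    let eK : KΔ ≃* K := Subgroup.subgroupOfEquivOfLe le_sup_left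
    have hτK : ∀ k : K, τ ⟨k, Subgroup.mem_sup_left k.2⟩ = σ k := hρK
    have hτ : τ.IsIrreducible := isIrreducible_of_restrict τ
      (Subgroup.inclusion le_sup_left) σ hτK
    have hcan : CyclicGlauberman.IsCanon KΔ S τ.character := by
      refine ⟨⟨_, τ, hτ, rfl⟩, ?_, ?_⟩
      · rw [show (fun g : KΔ => τ.character g) = fun g : KΔ => (θ : K → ℂ) (eK g) from
          funext fun g => by
            rw [← hσc]
            show LinearMap.trace ℂ _ (τ g) = LinearMap.trace ℂ _ (σ (eK g))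
            rw [← hτK (eK g)]
            rfl]
        exact IsIrr.comp_surjective eK.toMonoidHom eK.surjective θ.2
      · rw [detOrder_eq, hcardS, hi]
        refine (hcopKP i).coprime_dvd_left (Dvd.dvd.trans ?_ ho)
        rw [← hρo]
        refine orderOf_dvd_of_pow_eq_one (MonoidHom.ext fun g => ?_)
        rw [MonoidHom.pow_apply, show detHom τ g = detHom ρ (Subgroup.inclusion hΔ g) from
          Units.ext (by rw [detHom_apply, detHom_apply]; rfl), ← MonoidHom.pow_apply,
          pow_orderOf_eq_one]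
        rfl
    obtain ⟨β, ε, hε, hv⟩ := D.exists_sign hcan
    obtain ⟨k, T, hT⟩ := D.exists_isCharacter_inner hcan β
    have hTs : T.character ⟨s, Subgroup.mem_zpowers s⟩ = (ε : ℂ) := by
      rw [hT]
      show Cfsg.classInner (fun c : CΔ => τ.character (c * s)) (β : CΔ → ℂ) = _
      rw [show (fun c : CΔ => τ.character (c * s)) = (ε : ℂ) • (β : CΔ → ℂ) from funext hv,
        classInner_smul_left, classInner_irr_self, mul_one]
    -- `β` is the correspondent
    let eC : C ≃* CΔ := (Subgroup.subgroupOfEquivOfLe (inf_le_left.trans le_sup_left)).symm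
    let β' : Cfsg.IrrCharacter C :=
      ⟨fun c => (β : CΔ → ℂ) (eC c), IsIrr.comp_surjective eC.toMonoidHom eC.surjective β.2⟩
    have hT1 : T.character 1 = (mult ι θ β' : ℂ) := by
      rw [hT, ← classInner_eq_mult]
      show Cfsg.classInner (fun c : CΔ => τ.character ((c : Δ) * ((1 : S) : Δ))) _ = _
      simp only [OneMemClass.coe_one, mul_one, Cfsg.classInner]
      rw [Nat.card_congr eC.toEquiv]
      congr 1
      symm
      refine Fintype.sum_equiv eC.toEquiv _ _ fun c => ?_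
      congr 1
      rw [← hσc]
      show LinearMap.trace ℂ _ (σ (ι c)) = LinearMap.trace ℂ _ (τ (eC c : Δ))
      rw [← hτK (ι c)]
      rfl
    have hcong := congMod_char_pow (p := p) ⟨k, T, rfl⟩ ⟨s, Subgroup.mem_zpowers s⟩ i
    rw [hTs, show (⟨s, Subgroup.mem_zpowers s⟩ : S) ^ (p ^ i) = 1 from Subtype.ext (by
      rw [← hi, SubgroupClass.coe_pow, OneMemClass.coe_one]
      exact orderOf_dvd_iff_pow_eq_one.mp (Subgroup.orderOf_coe s).symm.dvd), hT1,
      ← Int.cast_pow, ← Int.cast_natCast] at hcong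
    have hdvd := CongMod.dvd_sub_of_intCast hp.ne_zero hcong
    have hnd' : ¬ p ∣ mult ι θ β' := fun h => by
      have h1 : (p : ℤ) ∣ ε ^ p ^ i :=
        (dvd_sub_left (Int.natCast_dvd_natCast.mpr h)).mp hdvd
      have h2 := (Nat.prime_iff_prime_int.mp hp).dvd_of_dvd_pow h1
      rcases hε with rfl | rfl
      · exact (Nat.prime_iff_prime_int.mp hp).not_dvd_one h2
      · exact (Nat.prime_iff_prime_int.mp hp).not_dvd_one ((Int.dvd_neg).mp h2)
    have heq := correspondent_unique hP ι hι (fixed_iff hs le_rfl hP1) hK hθP hnd' hnd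
    have h1 : τ.character s = (ε : ℂ) * (β : CΔ → ℂ) 1 := by
      have := hv 1
      simpa [CyclicGlauberman.Setting.value] using this
    have h2 : (β : CΔ → ℂ) 1 = (b : ℂ) := by
      rw [← hb, ← heq]
      show _ = (β : CΔ → ℂ) (eC 1)
      rw [map_one]
    show ‖τ.character s‖ = _
    rw [h1, h2, norm_mul, Complex.norm_natCast]
    rcases hε with rfl | rfl <;> simp
  -- the norm of the restriction to `P`
  have := Fintype.ofFinite P
  let ψ : Representation ℂ P (Fin m → ℂ) :=
    ρ.comp (Subgroup.inclusion (le_sup_right : P ≤ K ⊔ P))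
  obtain ⟨N, hN⟩ := IsChar.classInner_eq_natCast (G := P) ⟨m, ψ, rfl⟩ ⟨m, ψ, rfl⟩
  have hsum : (Nat.card P * N : ℕ) = d ^ 2 + (Nat.card P - 1) * b ^ 2 := by
    rw [Cfsg.classInner, inv_mul_eq_iff_eq_mul₀ (Nat.cast_ne_zero.mpr Nat.card_pos.ne'),
      ← Finset.add_sum_erase _ _ (Finset.mem_univ (1 : P))] at hN
    have hterm : ∀ x ∈ (Finset.univ : Finset P).erase 1,
        ψ.character x * conj (ψ.character x) = ((b ^ 2 : ℕ) : ℂ) := fun x hx => by
      rw [Complex.mul_conj, Complex.normSq_eq_norm_sq,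
        show ‖ψ.character x‖ = (b : ℝ) from
          hval x x.2 fun h => Finset.ne_of_mem_erase hx (Subtype.ext h)]
      push_cast
      rfl
    rw [Finset.sum_congr rfl hterm, Finset.sum_const, nsmul_eq_mul,
      Finset.card_erase_of_mem (Finset.mem_univ _), Finset.card_univ,
      Representation.char_one, ← hd, Complex.conj_natCast, ← Nat.card_eq_fintype_card] at hN
    norm_cast at hN
    rw [← hN, sq d]
  have hbd' : b = d := by
    by_contra hne'
    have hlt : b < d := lt_of_le_of_ne hbd hne'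
    have h1 : b ^ 2 < d ^ 2 := Nat.pow_lt_pow_left hlt two_ne_zero
    have hb2 : 1 ≤ b ^ 2 := Nat.one_le_pow _ _ hbpos
    have hcP : 1 ≤ Nat.card P := Nat.card_pos
    have h2 : d ^ 2 + Nat.card P * b ^ 2 = Nat.card P * N + b ^ 2 := by
      rw [hsum, Nat.sub_mul, one_mul]
      have : b ^ 2 ≤ Nat.card P * b ^ 2 := Nat.le_mul_of_pos_left _ hcP
      omega
    rcases le_or_gt N (b ^ 2) with h3 | h3
    · have := Nat.mul_le_mul_left (Nat.card P) h3
      omega
    · have := Nat.mul_le_mul_left (Nat.card P) (Nat.succ_le_iff.mpr h3)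
      rw [Nat.mul_succ] at this
      omega
  by_cases hx01 : x₀ = 1
  · subst hx01
    refine hne (congrArg _ (Subtype.ext ?_))
    simp
  have hn0 := hval x₀ hx₀ hx01
  rw [hbd'] at hn0
  obtain ⟨ω, hω⟩ := CharIntegral.exists_scalar_of_norm_character_eq ρ _ (hn0.trans (by rw [hd]))
  refine hne ?_
  rw [← hσc, Representation.char_one]
  refine (CharIntegral.character_eq_finrank_iff σ _).mpr ?_
  let X : Γ := ⟨x₀, Subgroup.mem_sup_right hx₀⟩
  let Y : Γ := ⟨k₀, Subgroup.mem_sup_left hk₀⟩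
  have hcomm : ρ X * ρ Y = ρ Y * ρ X := by
    rw [hω, ← Module.End.one_eq_id, smul_mul_assoc, mul_smul_comm, one_mul, mul_one]
  rw [← hρK, show (⟨((⟨_, hz⟩ : K) : G), Subgroup.mem_sup_left hz⟩ : Γ) = X * Y * X⁻¹ * Y⁻¹ from
    Subtype.ext rfl, map_mul, map_mul, map_mul, hcomm, mul_assoc (ρ Y), ← map_mul,
    mul_inv_cancel, map_one, mul_one, ← map_mul, mul_inv_cancel, map_one]
  rfl

end CfsgLib.Semiregular
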