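import Cfsg.Agent.Lib.CharAction.SigmaWalterPSL
import Cfsg.Agent.Lib.Recog.Walter.List
import Cfsg.Agent.Lib.Recog.Walter.Field.Five.JankoOne
import Cfsg.Agent.Lib.Recog.ReeType.Real

/-!
Owner: helper12. The simple groups with abelian Sylow 2-subgroups: no elements of order four, and a real element
whose centraliser has odd order.
-/

set_option autoImplicit false

namespace CfsgLib.CharAction.SigmaWalter

open Subgroup CfsgLib.LocalEven.GoldS CfsgLib.LocalEven.GoldS.PSLF

universe u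

/-- No elements of order four, and a real element with centraliser of odd order. -/
def Shape (G : Type u) [Group G] : Prop :=
  (∀ g : G, g * g * (g * g) = 1 → g * g = 1) ∧
    ∃ x : G, x ≠ 1 ∧ IsConj x x⁻¹ ∧ Odd (Nat.card (centralizer ({x} : Set G)))

theorem shape_of_equiv {G : Type u} [Group G] [Finite G] {H : Type*} [Group H] (e : G ≃* H)
    (hs : ∀ g : H, g * g * (g * g) = 1 → g * g = 1)
    (hx : ∃ x : H, x ≠ 1 ∧ IsConj x x⁻¹ ∧ Odd (Nat.card (centralizer ({x} : Set H)))) : Shape G := by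
  refine ⟨fun g hg => e.injective ?_, ?_⟩
  · rw [map_mul, map_one]
    refine hs _ ?_
    rw [← map_mul, ← map_mul, hg, map_one]
  obtain ⟨x, hx1, hr, ho⟩ := hx
  obtain ⟨y, rfl⟩ := e.surjective x
  refine ⟨y, fun h => hx1 (by rw [h, map_one]), ?_, ?_⟩
  · obtain ⟨w, hw⟩ := isConj_iff.1 hr
    obtain ⟨v, rfl⟩ := e.surjective w
    refine isConj_iff.2 ⟨v, e.injective ?_⟩
    rw [map_mul, map_mul, map_inv, map_inv, hw]
  · have hC : Nat.card (centralizer ({y} : Set G)) = Nat.card (centralizer ({e y} : Set H)) := by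
      refine Nat.card_congr (e.toEquiv.subtypeEquiv fun z => ?_)
      show z ∈ centralizer ({y} : Set G) ↔ e z ∈ centralizer ({e y} : Set H)
      rw [mem_centralizer_singleton_iff, mem_centralizer_singleton_iff, ← map_mul, ← map_mul, e.injective.eq_iff]
    rwa [hC]

theorem shape_PSL {G : Type u} [Group G] [Finite G] {F : Type} [Field F] [Fintype F]
    (h4 : 4 ≤ Fintype.card F)
    (hq : 2 ∣ Fintype.card F ∨ Fintype.card F % 8 = 3 ∨ Fintype.card F % 8 = 5)
    (e : G ≃* Matrix.ProjectiveSpecialLinearGroup (Fin 2) F) : Shape G :=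
  shape_of_equiv e (fun _ h => sq_eq_one_PSL hq h) (exists_real_PSL h4)

theorem shape_J1 {G : Type u} [Group G] [Finite G] (h : Cfsg.IsJ1 G) : Shape G := by
  haveI := h.1
  haveI : Fact (Nat.Prime 2) := ⟨Nat.prime_two⟩
  haveI : Fact (Nat.Prime 7) := ⟨by norm_num⟩
  refine ⟨fun g hg => ?_, ?_⟩
  · obtain ⟨k, hk, hk'⟩ := (Nat.dvd_prime_pow Nat.prime_two).1
      (orderOf_dvd_of_pow_eq_one (show g ^ 2 ^ 2 = 1 by rw [← hg]; simp [pow_succ, mul_assoc]))
    obtain ⟨P, hP⟩ := (IsPGroup.of_card (G := zpowers g) (n := k)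
      (by rw [Nat.card_zpowers, hk'])).exists_le_sylow
    exact Recog.J1FromOrder.two_square h.2 P g (hP (mem_zpowers g))
  · obtain ⟨x, hx⟩ := exists_prime_orderOf_dvd_card' (G := G) 7 (by rw [h.2]; norm_num)
    obtain ⟨g, k, e, he, he6, hgx, hk⟩ := Walter.Field.Five.exists_aut h.2 (Or.inl rfl) hx
    refine ⟨x, fun h1 => by rw [h1, orderOf_one] at hx; omega, ?_, ?_⟩
    · obtain ⟨m, hm⟩ := he
      have hiter : ∀ j : ℕ, g ^ j * x * (g ^ j)⁻¹ = x ^ (k ^ j) := fun j => by
        induction j with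
        | zero => simp
        | succ j ih =>
          calc g ^ (j + 1) * x * (g ^ (j + 1))⁻¹
              = g * (g ^ j * x * (g ^ j)⁻¹) * g⁻¹ := by rw [pow_succ']; group
            _ = x ^ (k ^ (j + 1)) := by rw [ih, ← conj_pow, hgx, ← pow_mul, pow_succ']
      have hm0 : 0 < m := by omega
      have hneg : ((k : ZMod 7) ^ m) = -1 := by
        have h1 : ((k : ZMod 7) ^ m) * ((k : ZMod 7) ^ m) = 1 := by
          rw [← pow_add, ← hm, ← hk, pow_orderOf_eq_one]
        refine (mul_self_eq_one_iff.1 h1).resolve_left fun h2 => ?_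
        have := Nat.le_of_dvd hm0 (orderOf_dvd_of_pow_eq_one h2)
        omega
      refine isConj_iff.2 ⟨g ^ m, ?_⟩
      rw [hiter]
      apply eq_inv_of_mul_eq_one_left
      rw [← pow_succ, ← orderOf_dvd_iff_pow_eq_one, hx, ← ZMod.natCast_eq_zero_iff]
      push_cast
      rw [hneg, neg_add_cancel]
    · rw [Walter.Field.Five.centralizer_eq h.2 (Or.inl rfl) hx, Nat.card_zpowers, hx]
      decide

theorem shape_ree {G : Type u} [Group G] [Finite G] {F : Type} [Field F] [Fintype F] [CharP F 3]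
    (d : Ctx G F) : Shape G := by
  obtain ⟨S⟩ := Recog.ReeType.exists_setup d
  refine ⟨fun g hg => S.c.two_sq g ⟨2, by rw [← hg]; simp [pow_succ, mul_assoc]⟩, ?_⟩
  obtain ⟨y, hy, hr, hno⟩ := Recog.ReeType.exists_real_three_no_invol d
  refine ⟨y, fun h => by rw [h, orderOf_one] at hy; omega, hr,
    odd_centralizer_of_no_involution fun z hz hz2 => ?_⟩
  by_contra h1
  exact hno z (orderOf_eq_prime (by rw [pow_two, hz2]) h1) hz.symm

/-- **The shape of the groups of the list.** -/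
theorem shape_of_list (hL : Walter.WalterList.{u}) {G : Type u} [Group G] [Finite G] [IsSimpleGroup G]
    (hna : ¬ IsMulCommutative G) (hA : AbelianSolvCent.AbSylow G) : Shape G := by
  rcases hL G hna hA with ⟨n, hn, F, iF, iFt, hF, ⟨e⟩⟩ | ⟨F, iF, iFt, h5, h8, ⟨e⟩⟩ | h | ⟨F, iF, iFt, h3, ⟨c⟩⟩
  · refine shape_PSL ?_ (Or.inl (hF ▸ dvd_pow_self 2 (by omega))) e
    rw [hF]
    exact le_trans (by norm_num) (Nat.pow_le_pow_right (by norm_num) hn)
  · exact shape_PSL (by omega) (Or.inr h8) e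
  · exact shape_J1 h
  · exact shape_ree c

end CfsgLib.CharAction.SigmaWalter
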