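import Cfsg.Agent.Lib.CharAction.SigmaWalterReal
import Cfsg.Agent.Lib.CharAction.SigmaWalterFamilies

/-!
Owner: helper12. The statement of S4523 from the list of simple groups with abelian Sylow 2-subgroups: without
elements of order four a power map fixing 2-elements and inverting odd elements is inversion, so the characters in
question are the real ones.
-/

set_option autoImplicit false

namespace CfsgLib.CharAction.SigmaWalter

open Cfsg

universe u

theorem pow_eq_inv {G : Type u} [Group G] [Finite G] (h4 : ∀ g : G, g * g * (g * g) = 1 → g * g = 1) {k : ℕ}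
    (hk₁ : ∀ g : G, (∃ j : ℕ, orderOf g = 2 ^ j) → g ^ k = g)
    (hk₂ : ∀ g : G, Odd (orderOf g) → g ^ k = g⁻¹) (g : G) : g ^ k = g⁻¹ := by
  obtain ⟨i, m, hm, hn⟩ := Nat.exists_eq_pow_mul_and_not_dvd (orderOf_pos g).ne' 2 (by norm_num)
  have hi : ∀ w : G, ∀ j : ℕ, w ^ 2 ^ j = 1 → w * w = 1 := by
    intro w j
    induction j generalizing w with
    | zero => intro hw; rw [pow_zero, pow_one] at hw; rw [hw, one_mul]
    | succ j ih =>
      intro hw
      refine h4 w ?_
      refine ih (w * w) ?_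
      rw [← pow_two, ← pow_mul, ← pow_succ', hw]
  set u := g ^ m with hu
  have hu2 : u * u = 1 := hi u i (by rw [hu, ← pow_mul, mul_comm, ← hn, pow_orderOf_eq_one])
  -- the odd part is `g * u`
  have hv : Odd (orderOf (g * u)) := by
    refine (Nat.odd_iff.2 (by omega : m % 2 = 1)).of_dvd_nat (orderOf_dvd_of_pow_eq_one ?_)
    obtain ⟨a, ha⟩ : Odd m := Nat.odd_iff.2 (by omega)
    rw [((Commute.refl g).pow_right m).mul_pow, ← hu]
    nth_rewrite 1 [ha]
    rw [pow_succ u (2 * a), pow_mul, pow_two, hu2, one_pow, one_mul, hu2]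
  have hcomm : Commute u g := (Commute.refl g).pow_left m
  have huk : u ^ k = u := hk₁ u ((Nat.dvd_prime_pow Nat.prime_two).1
    (orderOf_dvd_of_pow_eq_one (show u ^ 2 ^ 1 = 1 by rw [pow_one, pow_two, hu2])) |>.imp fun _ h => h.2)
  have hinv : u⁻¹ = u := inv_eq_of_mul_eq_one_right hu2
  have hg : g = g * u * u := by rw [mul_assoc, hu2, mul_one]
  calc g ^ k = (g * u * u) ^ k := by rw [← hg]
    _ = (g * u)⁻¹ * u := by
        rw [((hcomm.symm).mul_left (Commute.refl u)).mul_pow, hk₂ _ hv, huk]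
    _ = g⁻¹ := by
        rw [mul_inv_rev, hinv, mul_assoc, ← (hcomm.inv_right).eq, ← mul_assoc, hu2, one_mul]

/-- **S4523** from the list. -/
theorem galois_fixed_of_list (hL : Walter.WalterList.{u}) {S : Type u} [Group S] [Finite S] [IsSimpleGroup S]
    (hna : ¬ IsMulCommutative S) (P : Sylow 2 S) (hP : IsMulCommutative P) (M : Ideal AlgInt)
    (hM : IsPModular 2 M) (k : ℕ) (hk₁ : ∀ g : S, (∃ j : ℕ, orderOf g = 2 ^ j) → g ^ k = g)
    (hk₂ : ∀ g : S, Odd (orderOf g) → g ^ k = g⁻¹) :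
    (∃ χ₁ : IrrCharacter S, Even (charDegree (χ₁ : S → ℂ)) ∧
        ∀ g : S, (χ₁ : S → ℂ) (g ^ k) = (χ₁ : S → ℂ) g) ∧
      ∃ χ₂ ∈ principalBlock M S, (χ₂ : S → ℂ) ≠ (fun _ => 1) ∧
        ∀ g : S, (χ₂ : S → ℂ) (g ^ k) = (χ₂ : S → ℂ) g := by
  haveI : Fact (Nat.Prime 2) := ⟨Nat.prime_two⟩
  have hA : AbelianSolvCent.AbSylow S := fun Q => by
    let e := P.equiv Q
    exact ⟨⟨fun a b => e.symm.injective (by rw [map_mul, map_mul]; exact hP.is_comm.comm _ _)⟩⟩
  obtain ⟨h4, x, hx, hr, ho⟩ := shape_of_list hL hna hA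
  have hpow := pow_eq_inv h4 hk₁ hk₂
  have hev : 2 ∣ Nat.card S := by
    obtain ⟨g, hg⟩ := isConj_iff.1 hr
    by_contra hodd
    have hS : Odd (Nat.card S) := Nat.odd_iff.2 (by omega)
    have h2 : ∀ w : S, w * w = 1 → w = 1 := fun w hw => by
      have hd := orderOf_dvd_of_pow_eq_one (show w ^ 2 = 1 by rw [pow_two, hw])
      rcases (Nat.dvd_prime Nat.prime_two).1 hd with h | h
      · exact orderOf_eq_one_iff.1 h
      · exact absurd (h ▸ orderOf_dvd_natCard w) hodd
    obtain ⟨j, hj⟩ := hS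
    have hc : Commute (g * g) x := by
      refine mul_inv_eq_iff_eq_mul.1 ?_
      rw [mul_inv_rev, show g * g * x * (g⁻¹ * g⁻¹) = g * (g * x * g⁻¹) * g⁻¹ by group, hg,
        show g * x⁻¹ * g⁻¹ = (g * x * g⁻¹)⁻¹ by group, hg, inv_inv]
    have hgp : g = (g * g) ^ (j + 1) := by
      rw [← pow_two, ← pow_mul, show 2 * (j + 1) = Nat.card S + 1 by omega, pow_succ, pow_card_eq_one', one_mul]
    have hgc : Commute g x := hgp ▸ hc.pow_left _
    rw [hgc.eq, mul_inv_cancel_right] at hg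
    exact hx (h2 x (mul_eq_one_iff_eq_inv.2 hg))
  obtain ⟨t, ht⟩ := exists_prime_orderOf_dvd_card' (G := S) 2 hev
  obtain ⟨χ₁, h1, h1'⟩ := exists_even_real hM hx hr ho
  obtain ⟨χ₂, h2, h2', h2''⟩ := exists_real_principal hM ht
  exact ⟨⟨χ₁, h1, fun g => by rw [hpow, h1']⟩, χ₂, h2, h2', fun g => by rw [hpow, h2'']⟩

end CfsgLib.CharAction.SigmaWalter
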