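import Cfsg.Agent.Lib.LocalEven.GoldS.PSLFacts
import Mathlib.FieldTheory.Finite.Basic

/-!
Owner: helper12. `PSL(2, q)` with `q` even or `q ≡ 3, 5 (mod 8)`: no elements of order four, and a real element
whose centraliser has odd order.
-/

set_option autoImplicit false

namespace CfsgLib.CharAction.SigmaWalter

open Matrix CfsgLib.PLocal.SLTwo CfsgLib.LocalEven.GoldS.PSLF

variable {F : Type*} [Field F] [Fintype F]

theorem card_ne_two_of_four_le (h : 4 ≤ Fintype.card F) : ∃ a : F, a ≠ 0 ∧ a ≠ 1 ∧ a ≠ -1 := by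
  classical
  by_contra hno
  push Not at hno
  have hsub : (Finset.univ : Finset F) ⊆ {0, 1, -1} := fun a _ => by
    simp only [Finset.mem_insert, Finset.mem_singleton]
    by_cases h0 : a = 0
    · exact Or.inl h0
    by_cases h1 : a = 1
    · exact Or.inr (Or.inl h1)
    exact Or.inr (Or.inr (hno a h0 h1))
  have h3 := (Finset.card_le_card hsub).trans (Finset.card_le_three)
  rw [Finset.card_univ] at h3
  omega

/-- In characteristic two an element of `PSL(2, F)` killed by four is killed by two. -/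
theorem sq_eq_one_char_two (h2 : (2 : F) = 0) {g : P2 F} (hg : g * g * (g * g) = 1) : g * g = 1 := by
  obtain ⟨y, rfl⟩ := mk_surjective g
  have hneg : ∀ a : F, -a = a := fun a => by linear_combination (-a) * h2
  have e : y * y * (y * y) = 1 := by
    rw [← map_mul, ← map_mul, mk_eq_one] at hg
    rcases hg with e | e
    · exact e
    · exact e.trans (ext2 (by simp [hneg]) (by simp) (by simp) (by simp [hneg]))
  have hd := det2 y
  have e00 := congrArg (fun z : S2 F => z.1 0 0) e
  have e11 := congrArg (fun z : S2 F => z.1 1 1) e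
  have ht : y.1 0 0 + y.1 1 1 = 0 := by
    simp [m00, m01, m10, m11] at e00 e11
    have : (y.1 0 0 + y.1 1 1) ^ 4 = 0 := by
      linear_combination e00 + e11 +
        (1 + 2 * (y.1 0 0 + y.1 1 1) ^ 2 * (y.1 0 0 * y.1 1 1 - y.1 0 1 * y.1 1 0) -
          (y.1 0 0 * y.1 1 1 - y.1 0 1 * y.1 1 0) ^ 2) * h2
    exact pow_eq_zero_iff (n := 4) (by norm_num) |>.1 this
  have ht2 : y.1 1 1 = y.1 0 0 := by linear_combination ht - (y.1 0 0) * h2
  rw [← map_mul, mk_eq_one]
  left
  refine ext2 ?_ ?_ ?_ ?_ <;> simp [m00, m01, m10, m11, ht2]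
  · rw [ht2] at hd
    linear_combination hd + (y.1 0 1 * y.1 1 0) * h2
  · linear_combination (y.1 0 0 * y.1 0 1) * h2
  · linear_combination (y.1 0 0 * y.1 1 0) * h2
  · rw [ht2] at hd
    linear_combination hd + (y.1 0 1 * y.1 1 0) * h2

/-- **No elements of order four.** -/
theorem sq_eq_one_PSL (hq : 2 ∣ Fintype.card F ∨ Fintype.card F % 8 = 3 ∨ Fintype.card F % 8 = 5) {g : P2 F}
    (hg : g * g * (g * g) = 1) : g * g = 1 := by
  rcases hq with hq | hq
  · refine sq_eq_one_char_two ?_ hg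
    have hc : ringChar F = 2 := by
      by_contra h
      exact absurd hq (by have := FiniteField.odd_card_of_char_ne_two h; omega)
    haveI := ringChar.of_eq hc
    exact CharTwo.two_eq_zero
  · haveI : Fact (Nat.Prime 2) := ⟨Nat.prime_two⟩
    obtain ⟨k, hk, hk'⟩ := (Nat.dvd_prime_pow Nat.prime_two).1
      (orderOf_dvd_of_pow_eq_one (show g ^ 2 ^ 2 = 1 by rw [← hg]; simp [pow_succ, mul_assoc]))
    obtain ⟨P, hP⟩ := (IsPGroup.of_card (G := Subgroup.zpowers g) (n := k)
      (by rw [Nat.card_zpowers, hk'])).exists_le_sylow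
    have hK := CfsgLib.Classical.Two.isKleinFour_sylow_PSL (q := Fintype.card F) rfl hq P
    have h := Monoid.pow_exponent_eq_one (⟨g, hP (Subgroup.mem_zpowers g)⟩ : (P : Subgroup (P2 F)))
    rw [hK.exponent_two, pow_two] at h
    exact congrArg Subtype.val h

theorem odd_centralizer_of_no_involution {G : Type*} [Group G] [Finite G] {x : G}
    (h : ∀ z : G, z * x = x * z → z * z = 1 → z = 1) :
    Odd (Nat.card (Subgroup.centralizer ({x} : Set G))) := by
  haveI : Fact (Nat.Prime 2) := ⟨Nat.prime_two⟩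
  rw [← Nat.not_even_iff_odd, even_iff_two_dvd]
  intro hd
  obtain ⟨z, hz⟩ := exists_prime_orderOf_dvd_card' (G := Subgroup.centralizer ({x} : Set G)) 2 hd
  have hz2 : (z : G) * z = 1 := by
    rw [← pow_two, ← SubmonoidClass.coe_pow, ← hz, pow_orderOf_eq_one, OneMemClass.coe_one]
  have := h z (Subgroup.mem_centralizer_singleton_iff.1 z.2) hz2
  rw [show z = 1 from Subtype.ext this, orderOf_one] at hz
  omega

/-- A diagonal element with odd centraliser, inverted by the Weyl element. -/
theorem exists_real_torus (hsq : ∀ b : F, b * b ≠ -1 ∨ (2 : F) = 0) (h4 : 4 ≤ Fintype.card F) :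
    ∃ x : P2 F, x ≠ 1 ∧ IsConj x x⁻¹ ∧ Odd (Nat.card (Subgroup.centralizer ({x} : Set (P2 F)))) := by
  obtain ⟨a, ha0, ha1, ha2⟩ := card_ne_two_of_four_le h4
  set u : Fˣ := Units.mk0 a ha0 with hu
  refine ⟨mk (dS u), fun h => ?_, isConj_iff.2 ⟨ww F, ww_inv ⟨u, rfl⟩⟩,
    odd_centralizer_of_no_involution fun z hz hz2 => ?_⟩
  · rcases dHom_eq_one.1 h with e | e
    · exact ha1 (congrArg Units.val e)
    · exact ha2 (by simpa [hu] using congrArg Units.val e)
  obtain ⟨y, rfl⟩ := mk_surjective z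
  have hd : a - a⁻¹ ≠ 0 := fun e => by
    have : (a - 1) * (a + 1) = 0 := by
      have h1 : a * a⁻¹ = 1 := mul_inv_cancel₀ ha0
      linear_combination a * e + h1
    rcases mul_eq_zero.1 this with h1 | h1
    · exact ha1 (sub_eq_zero.1 h1)
    · exact ha2 (eq_neg_of_add_eq_zero_left h1)
  have hcase : y * dS u = dS u * y := by
    rw [← map_mul, ← map_mul] at hz
    rcases mk_eq_mk.1 hz with e | e
    · exact e.symm
    · by_cases h2 : (2 : F) = 0
      · have hneg : ∀ b : F, -b = b := fun b => by linear_combination (-b) * h2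
        rw [e]
        refine ext2 ?_ ?_ ?_ ?_ <;> simp [hneg]
      · exfalso
        have e' : dS u * y * 1 = -(y * dS u) := by rw [mul_one]; exact e
        have htr : tr (y⁻¹ * dS u * y⁻¹⁻¹) = tr (-(dS u)) := by
          rw [inv_inv, mul_assoc, e, mul_neg, inv_mul_cancel_left]
        rw [tr_conj] at htr
        simp [tr, hu] at htr
        have h3 : (2 : F) * (a + a⁻¹) = 0 := by linear_combination htr
        have h4 := (mul_eq_zero.1 h3).resolve_left h2
        have h5 : a * a = -1 := by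
          have h1 : a * a⁻¹ = 1 := mul_inv_cancel₀ ha0
          linear_combination a * h4 - h1
        exact (hsq a).elim (fun h => h h5) h2
  have e01 := congrArg (fun w : S2 F => w.1 0 1) hcase
  have e10 := congrArg (fun w : S2 F => w.1 1 0) hcase
  simp [m01, m10, hu] at e01 e10
  have hb : y.1 0 1 = 0 := (mul_eq_zero.1 (show (a - a⁻¹) * y.1 0 1 = 0 by linear_combination -e01)).resolve_left hd
  have hc : y.1 1 0 = 0 := (mul_eq_zero.1 (show (a - a⁻¹) * y.1 1 0 = 0 by linear_combination e10)).resolve_left hd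
  have hdet := det2 y
  rw [hb, hc, mul_zero, sub_zero] at hdet
  rw [← map_mul, mk_eq_one] at hz2
  have hcases : y.1 0 0 * y.1 0 0 = 1 ∨ y.1 0 0 * y.1 0 0 = -1 := by
    rcases hz2 with e | e <;> [left; right] <;>
      simpa [m00, hb] using congrArg (fun w : S2 F => w.1 0 0) e
  have hsq1 : y.1 0 0 * y.1 0 0 = 1 := by
    rcases hcases with h | h
    · exact h
    · rcases hsq (y.1 0 0) with h' | h'
      · exact absurd h h'
      · rw [h]; linear_combination -h'
  have h11 : y.1 1 1 = y.1 0 0 := by linear_combination (y.1 0 0) * hdet - (y.1 1 1) * hsq1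
  rw [mk_eq_one]
  exact scalar_cases fun hn => hn ⟨hb, hc, h11.symm⟩

/-- A root element with odd centraliser, inverted by a diagonal element. -/
theorem exists_real_unipotent (h2 : (2 : F) ≠ 0) {i : F} (hi : i * i = -1) :
    ∃ x : P2 F, x ≠ 1 ∧ IsConj x x⁻¹ ∧ Odd (Nat.card (Subgroup.centralizer ({x} : Set (P2 F)))) := by
  have hi0 : i ≠ 0 := fun e => by rw [e, mul_zero] at hi; exact one_ne_zero (by linear_combination hi)
  refine ⟨u 1, fun h => one_ne_zero (u_eq_one h), isConj_iff.2 ⟨mk (dS (Units.mk0 i hi0)), ?_⟩,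
    odd_centralizer_of_no_involution fun z hz hz2 => ?_⟩
  · rw [conj_u, u_inv, Units.val_mk0, mul_one, pow_two, hi]
  obtain ⟨y, rfl⟩ := mk_surjective z
  have hcase : y * U 1 = U 1 * y := by
    rw [u, ← map_mul, ← map_mul] at hz
    rcases mk_eq_mk.1 hz with e | e
    · exact e.symm
    · exfalso
      have htr : tr (y⁻¹ * U 1 * y⁻¹⁻¹) = tr (-(U 1 : S2 F)) := by
        rw [inv_inv, mul_assoc, e, mul_neg, inv_mul_cancel_left]
      rw [tr_conj] at htr
      simp [tr] at htr
      exact h2 ((mul_eq_zero.1 (show (2 : F) * 2 = 0 by linear_combination htr)).elim id id)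
  obtain ⟨hc, hd⟩ := commute_U_one hcase
  have hdet := det2 y
  rw [hc, hd, mul_zero, sub_zero] at hdet
  rw [← map_mul, mk_eq_one] at hz2
  have hb : y.1 0 1 = 0 := by
    have e : y.1 0 0 * y.1 0 1 + y.1 0 1 * y.1 1 1 = 0 := by
      rcases hz2 with e | e <;> simpa [m01] using congrArg (fun w : S2 F => w.1 0 1) e
    rw [hd] at e
    have h0 : y.1 0 0 ≠ 0 := left_ne_zero_of_mul_eq_one hdet
    have e' : (2 * y.1 0 0) * y.1 0 1 = 0 := by linear_combination e
    exact (mul_eq_zero.1 e').resolve_left (mul_ne_zero h2 h0)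
  rw [mk_eq_one]
  exact scalar_cases fun hn => hn ⟨hb, hc, hd.symm⟩

/-- **A real element with centraliser of odd order in `PSL(2, q)`.** -/
theorem exists_real_PSL (h4 : 4 ≤ Fintype.card F) :
    ∃ x : P2 F, x ≠ 1 ∧ IsConj x x⁻¹ ∧ Odd (Nat.card (Subgroup.centralizer ({x} : Set (P2 F)))) := by
  by_cases h : ∀ b : F, b * b ≠ -1 ∨ (2 : F) = 0
  · exact exists_real_torus h h4
  · push Not at h
    obtain ⟨i, hi, h2⟩ := h
    exact exists_real_unipotent h2 hi

end CfsgLib.CharAction.SigmaWalter
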