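import Cfsg.Agent.Lib.Blocks.Sections
import Cfsg.Agent.Lib.Blocks.KleinOrder
import Cfsg.Agent.Lib.Blocks.Kernel
import Cfsg.Agent.Lib.Char.RealOddDegree
import Cfsg.Agent.Lib.Char.Complete

/-!
Owner: helper12. Real characters modulo 2: a real element with centraliser of odd order gives a real character of
even degree; the principal 2-block of a group of even order has a real character other than the principal one.
-/

set_option autoImplicit false

namespace CfsgLib.CharAction.SigmaWalter

open Cfsg CfsgLib.Char CfsgLib.Blocks Subgroup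
open scoped ComplexConjugate Classical

universe u

variable {G : Type u} [Group G] [Finite G] {M : Ideal AlgInt}

/-- The value of an irreducible character as an algebraic integer. -/
noncomputable def valInt (χ : IrrCharacter G) (g : G) : AlgInt :=
  ⟨(χ : G → ℂ) g, IsChar.isIntegral (IsIrr.isCharacter χ.2) g⟩

theorem coe_valInt (χ : IrrCharacter G) (g : G) : ((valInt χ g : AlgInt) : ℂ) = (χ : G → ℂ) g := rfl

theorem valInt_conjIrr (χ : IrrCharacter G) (g : G) : valInt (conjIrr χ) g = valInt χ g⁻¹ :=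
  Subtype.ext (by rw [coe_valInt, coe_valInt, conjIrr_apply, IsIrr.map_inv χ.2])

theorem valInt_one (χ : IrrCharacter G) : valInt χ 1 = (charDegree (χ : G → ℂ) : AlgInt) :=
  Subtype.ext (by rw [coe_valInt, RealOdd.natCast_charDegree]; simp)

theorem charDegree_conjIrr (χ : IrrCharacter G) :
    charDegree (conjIrr χ : G → ℂ) = charDegree (χ : G → ℂ) :=
  Nat.cast_injective (R := ℂ) (by
    rw [← RealOdd.natCast_charDegree, conjIrr_apply, RealOdd.natCast_charDegree, Complex.conj_natCast])

theorem conjIrr_eq_iff_inv (χ : IrrCharacter G) :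
    conjIrr χ = χ ↔ ∀ g, (χ : G → ℂ) g⁻¹ = (χ : G → ℂ) g := by
  refine ⟨fun h g => ?_, fun h => irr_ext fun g => ?_⟩
  · rw [IsIrr.map_inv χ.2, ← conjIrr_apply, h]
  · rw [conjIrr_apply, ← IsIrr.map_inv χ.2, h]

/-- **A real element with centraliser of odd order gives a real character of even degree.** -/
theorem exists_even_real (hM : IsPModular 2 M) {x : G} (hx : x ≠ 1) (hr : IsConj x x⁻¹)
    (ho : Odd (Nat.card (centralizer ({x} : Set G)))) :
    ∃ χ : IrrCharacter G, Even (charDegree (χ : G → ℂ)) ∧ ∀ g, (χ : G → ℂ) g⁻¹ = (χ : G → ℂ) g := by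
  by_contra hno
  push Not at hno
  have hodd : ∀ χ : IrrCharacter G, conjIrr χ = χ → ¬ Even (charDegree (χ : G → ℂ)) := fun χ hc he => by
    obtain ⟨g, hg⟩ := hno χ he
    exact hg ((conjIrr_eq_iff_inv χ).1 hc g)
  letI := Fintype.ofFinite (IrrCharacter G)
  haveI hmax := hM.2.1
  have h20 : (Ideal.Quotient.mk M) (2 : AlgInt) = 0 :=
    Ideal.Quotient.eq_zero_iff_mem.2 (by simpa using hM.2.2)
  haveI : Nontrivial (AlgInt ⧸ M) := Ideal.Quotient.nontrivial_iff.2 hmax.ne_top
  haveI : CharP (AlgInt ⧸ M) 2 := CharTwo.of_one_ne_zero_of_two_eq_zero one_ne_zero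
    (by rw [← h20, map_ofNat])
  set φ := Ideal.Quotient.mk M with hφ
  have hval : ∀ χ : IrrCharacter G, (χ : G → ℂ) x⁻¹ = (χ : G → ℂ) x := fun χ =>
    (isClassFunction_iff_isConj.1 (IsIrr.isClassFunction χ.2) _ _ hr).symm
  -- the squares sum to `|C(x)|`
  have hsq : ∑ χ : IrrCharacter G, valInt χ x * valInt χ x =
      (Nat.card (centralizer ({x} : Set G)) : AlgInt) := by
    apply Subtype.ext
    have h := column_orthogonality x x
    rw [if_pos (IsConj.refl x)] at h
    rw [AddSubmonoidClass.coe_finsetSum]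
    simp only [MulMemClass.coe_mul, coe_valInt]
    rw [show ((Nat.card (centralizer ({x} : Set G)) : AlgInt) : ℂ) =
      (Nat.card (centralizer ({x} : Set G)) : ℂ) by simp, ← h]
    refine Finset.sum_congr rfl fun χ _ => ?_
    rw [← IsIrr.map_inv χ.2, hval]
  have hone : φ (∑ χ : IrrCharacter G, valInt χ x) = 1 := by
    have h := congrArg φ hsq
    rw [map_natCast, map_sum] at h
    rw [map_sum]
    have hc : ((Nat.card (centralizer ({x} : Set G)) : ℕ) : AlgInt ⧸ M) = 1 := by
      obtain ⟨m, hm⟩ := ho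
      rw [hm, Nat.cast_add, Nat.cast_mul, Nat.cast_two, Nat.cast_one, CharTwo.two_eq_zero, zero_mul, zero_add]
    simp only [map_mul, ← pow_two] at h
    simp only [map_pow] at h
    rw [← CharTwo.sum_sq, hc] at h
    have h2 : (∑ χ : IrrCharacter G, φ (valInt χ x) - 1) ^ 2 = 0 := by
      rw [CharTwo.sub_eq_add, CharTwo.add_sq, h, one_pow, CharTwo.add_self_eq_zero]
    haveI : M.IsPrime := hmax.isPrime
    exact sub_eq_zero.1 (pow_eq_zero_iff (n := 2) (by norm_num) |>.1 h2)
  -- the weighted sum vanishes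
  have hzero : φ (∑ χ : IrrCharacter G, valInt χ 1 * valInt χ x) = 0 := by
    have h0 : ∑ χ : IrrCharacter G, valInt χ 1 * valInt χ x = 0 := by
      apply Subtype.ext
      have h := column_orthogonality (1 : G) x
      rw [if_neg (fun hc => hx (isConj_one_right.1 hc))] at h
      rw [AddSubmonoidClass.coe_finsetSum, ZeroMemClass.coe_zero]
      simp only [MulMemClass.coe_mul, coe_valInt]
      rw [← h]
      refine Finset.sum_congr rfl fun χ _ => ?_
      rw [← IsIrr.map_inv χ.2, hval]
    rw [h0, map_zero]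
  -- pairs of conjugate characters cancel
  have hw : ∀ χ : IrrCharacter G, valInt (conjIrr χ) x = valInt χ x ∧ valInt (conjIrr χ) 1 = valInt χ 1 :=
    fun χ => ⟨by rw [valInt_conjIrr]; exact Subtype.ext (hval χ),
      by rw [valInt_one, valInt_one, charDegree_conjIrr]⟩
  have hsum : ∑ χ : IrrCharacter G, φ ((valInt χ 1 + 1) * valInt χ x) = 0 := by
    refine Finset.sum_involution (fun χ _ => conjIrr χ) (fun χ _ => ?_) (fun χ _ hne he => hne ?_)
      (fun χ _ => Finset.mem_univ _) (fun χ _ => conjIrr_conjIrr χ)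
    · rw [(hw χ).1, (hw χ).2]
      exact CharTwo.add_self_eq_zero _
    · obtain ⟨m, hm⟩ := Nat.not_even_iff_odd.1 (hodd χ he)
      rw [map_mul, map_add, map_one, valInt_one, map_natCast, hm, Nat.cast_add, Nat.cast_mul, Nat.cast_two,
        Nat.cast_one, CharTwo.two_eq_zero, zero_mul, zero_add, CharTwo.add_self_eq_zero, zero_mul]
  simp only [add_mul, one_mul, map_add, Finset.sum_add_distrib, ← map_sum, hzero, hone, zero_add] at hsum
  exact one_ne_zero hsum

/-- A character value at an involution is an integer of the parity of the degree. -/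
theorem exists_int_parity (χ : IrrCharacter G) {z : G} (hz : orderOf z = 2) :
    ∃ k : ℤ, (χ : G → ℂ) z = (k : ℂ) ∧ (Even k ↔ Even (charDegree (χ : G → ℂ))) := by
  letI := Fintype.ofFinite G
  obtain ⟨χ, n, ρ, hρ, rfl⟩ := χ
  obtain ⟨b, μ, -, hpow, -, hsum, -⟩ := CfsgLib.CharIntegral.exists_eigenbasis_apply ρ z
  have h : ∀ i, ∃ k : ℤ, μ i = (k : ℂ) ∧ Odd k := fun i => by
    have h2 := hpow i
    rw [hz, pow_two, mul_self_eq_one_iff] at h2
    rcases h2 with h2 | h2
    · exact ⟨1, by rw [h2, Int.cast_one], odd_one⟩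
    · exact ⟨-1, by rw [h2, Int.cast_neg, Int.cast_one], odd_one.neg⟩
  choose k hk ho using h
  refine ⟨∑ i, k i, ?_, ?_⟩
  · show ρ.character z = _
    rw [hsum, Int.cast_sum]
    exact Finset.sum_congr rfl fun i _ => hk i
  · have hn : charDegree ρ.character = Module.finrank ℂ (Fin n → ℂ) := by
      rw [charDegree, Representation.char_one, Complex.natCast_re, Nat.floor_natCast]
    show _ ↔ Even (charDegree ρ.character)
    rw [hn, ← Int.even_coe_nat, ← ZMod.intCast_eq_zero_iff_even, ← ZMod.intCast_eq_zero_iff_even,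
      Int.cast_sum, Int.cast_natCast]
    have : ∀ i, ((k i : ℤ) : ZMod 2) = 1 := fun i => by
      obtain ⟨m, hm⟩ := ho i
      rw [hm, Int.cast_add, Int.cast_mul, Int.cast_one]
      simp [CharTwo.two_eq_zero (R := ZMod 2)]
    simp [this]

/-- **A real character in the principal 2-block besides the principal one.** -/
theorem exists_real_principal (hM : IsPModular 2 M) {t : G} (ht : orderOf t = 2) :
    ∃ χ ∈ principalBlock M G, (χ : G → ℂ) ≠ (fun _ => 1) ∧ ∀ g, (χ : G → ℂ) g⁻¹ = (χ : G → ℂ) g := by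
  letI := Fintype.ofFinite G
  letI := Fintype.ofFinite (IrrCharacter G)
  haveI : M.IsPrime := hM.2.1.isPrime
  choose k hk hpar using fun χ : IrrCharacter G => exists_int_parity χ ht
  set B := principalBlock M G with hB
  have h0 : ∑ᶠ χ ∈ B, (χ : G → ℂ) t * (χ : G → ℂ) (1 : G)⁻¹ = 0 := by
    refine sum_block_apply_mul_eq_zero (p := 2) hM isPBlock_principalBlock (g := t) (h := 1) (u := t) (v := 1)
      ⟨1, mul_one t, Commute.one_right t, ⟨1, by rw [ht, pow_one]⟩, by simp⟩
      ⟨1, mul_one 1, Commute.one_right 1, ⟨0, by simp⟩, by simp⟩ fun hc => ?_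
    rw [isConj_one_left.1 hc, orderOf_one] at ht
    omega
  rw [finsum_mem_eq_finite_toFinset_sum _ (Set.toFinite B)] at h0
  set S := (Set.toFinite B).toFinset with hS
  have hmem : ∀ χ, χ ∈ S ↔ χ ∈ B := fun χ => (Set.toFinite B).mem_toFinset
  have hz : ∑ χ ∈ S, k χ * (charDegree (χ : G → ℂ) : ℤ) = 0 := by
    apply Int.cast_injective (α := ℂ)
    rw [Int.cast_sum, Int.cast_zero, ← h0]
    refine Finset.sum_congr rfl fun χ _ => ?_
    rw [inv_one, Int.cast_mul, Int.cast_natCast, ← hk, ← RealOdd.natCast_charDegree]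
  have hpar2 : ∀ χ : IrrCharacter G, (k χ : ZMod 2) = (charDegree (χ : G → ℂ) : ZMod 2) := fun χ => by
    rcases Nat.even_or_odd (charDegree (χ : G → ℂ)) with he | he
    · rw [ZMod.natCast_eq_zero_iff_even.2 he, ZMod.intCast_eq_zero_iff_even.2 ((hpar χ).2 he)]
    · have hk' : Odd (k χ) := by
        rw [← Int.not_even_iff_odd, hpar χ, Nat.not_even_iff_odd]; exact he
      obtain ⟨a, ha⟩ := he
      obtain ⟨b, hb⟩ := hk'
      rw [ha, hb]
      simp [CharTwo.two_eq_zero (R := ZMod 2)]
  by_contra hno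
  push Not at hno
  have htriv : trivChar G ∈ S := (hmem _).2 trivChar_mem_principalBlock
  have hfix : ∀ χ ∈ S, conjIrr χ = χ → χ = trivChar G := fun χ hχ hc => by
    by_contra hne
    obtain ⟨g, hg⟩ := hno χ ((hmem _).1 hχ) (fun h => hne (irr_ext fun g => by rw [h, trivChar_apply]))
    exact hg ((conjIrr_eq_iff_inv χ).1 hc g)
  have hsum : ∑ χ ∈ S.erase (trivChar G), ((charDegree (χ : G → ℂ) : ZMod 2) * charDegree (χ : G → ℂ)) = 0 := by
    refine Finset.sum_involution (fun χ _ => conjIrr χ) (fun χ _ => ?_) (fun χ hχ _ hc => ?_)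
      (fun χ hχ => ?_) (fun χ _ => conjIrr_conjIrr χ)
    · rw [charDegree_conjIrr]
      exact CharTwo.add_self_eq_zero _
    · rw [Finset.mem_erase] at hχ
      exact hχ.1 (hfix χ hχ.2 hc)
    · rw [Finset.mem_erase] at hχ
      rw [Finset.mem_erase, hmem]
      refine ⟨fun h => hχ.1 ?_, conjIrr_mem_principalBlock ((hmem _).1 hχ.2)⟩
      rw [← conjIrr_conjIrr χ, h]
      exact irr_ext fun g => by simp [trivChar_apply]
  have h1 := congrArg (fun n : ℤ => (n : ZMod 2)) hz
  simp only [Int.cast_sum, Int.cast_mul, Int.cast_natCast, Int.cast_zero, hpar2] at h1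
  rw [← Finset.add_sum_erase _ _ htriv, hsum, add_zero] at h1
  have hd1 : charDegree ((trivChar G : IrrCharacter G) : G → ℂ) = 1 := by
    have h := RealOdd.natCast_charDegree (trivChar G)
    rw [trivChar_apply] at h
    exact_mod_cast h.symm
  rw [hd1] at h1
  simp at h1

end CfsgLib.CharAction.SigmaWalter
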