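import Cfsg.Agent.Lib.CharAction.PGroup
import Cfsg.Agent.Lib.Core.MinNormal
import Mathlib.GroupTheory.Solvable
import Mathlib.GroupTheory.GroupAction.Defs

/-!
# Coprime action of a solvable group: invariant characters and invariant classes

For a solvable group `A` acting coprimely on `G`, the invariant irreducible characters and the
invariant conjugacy classes of `G` are both counted by the classes of the fixed point subgroup.
-/

namespace CfsgLib.CharAction

open scoped ComplexConjugate

/-- A class of `G` fixed by the action of `A`. -/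
def IsInvClass (A : Type*) {G : Type*} [Group A] [Group G] [MulDistribMulAction A G]
    (K : ConjClasses G) : Prop :=
  ∀ (a : A) (g : G), ConjClasses.mk g = K → ConjClasses.mk (a • g) = K

/-- Isomorphic groups have as many classes. -/
theorem card_conjClasses_congr {G H : Type*} [Group G] [Group H] (e : G ≃* H) :
    Nat.card (ConjClasses G) = Nat.card (ConjClasses H) := by
  refine Nat.card_congr
    { toFun := ConjClasses.map e.toMonoidHom
      invFun := ConjClasses.map e.symm.toMonoidHom
      left_inv := fun K => ?_
      right_inv := fun K => ?_ }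
  · induction K using Quotient.inductionOn with
    | h g => exact congrArg ConjClasses.mk (e.symm_apply_apply g)
  · induction K using Quotient.inductionOn with
    | h g => exact congrArg ConjClasses.mk (e.apply_symm_apply g)

section PStep

variable {A G C : Type*} [Group A] [Group G] [Group C] [MulDistribMulAction A G] [Finite A]
  [Fintype G] [Fintype C] {p : ℕ} [Fact p.Prime] (hA : IsPGroup p A)
  (ι : C →* G) (hι : Function.Injective ι) (hC : ∀ g : G, g ∈ ι.range ↔ ∀ a : A, a • g = g)

include hA hι hC

/-- An invariant subset of size prime to `p` contains a fixed point. -/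
theorem exists_fixed_mem (P : G → Prop) (hinv : ∀ (a : A) g, P g → P (a • g))
    (hcard : ¬ p ∣ Nat.card {g // P g}) : ∃ c : C, P (ι c) := by
  classical
  by_contra hne
  push Not at hne
  have hiff : ∀ (a : A) g, P (a • g) ↔ P g :=
    fun a g => ⟨fun h => by simpa using hinv a⁻¹ _ h, hinv a g⟩
  have h := congMod_sum hA ι hι hC (fun g => if P g then (1 : ℂ) else 0)
    (fun g => by split_ifs <;> first | exact isIntegral_one | exact isIntegral_zero)
    (fun a g => if_congr (hiff a g) rfl rfl)
  simp only [hne, if_false, Finset.sum_const_zero, Finset.sum_boole] at h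
  refine hcard (CongMod.dvd_of_natCast (Fact.out : p.Prime).ne_zero ?_)
  rwa [Nat.card_eq_fintype_card, Fintype.card_subtype]

variable (hp : ¬ p ∣ Nat.card G)
include hp

theorem classMap_injective : Function.Injective (ConjClasses.map ι) := by
  intro K L h
  induction K using Quotient.inductionOn with
  | h c =>
    induction L using Quotient.inductionOn with
    | h d =>
      have h' : IsConj (ι c) (ι d) := ConjClasses.mk_eq_mk_iff_isConj.mp h
      obtain ⟨g₀, hg₀⟩ := isConj_iff.mp h'
      obtain ⟨x, hx⟩ := exists_fixed_mem hA ι hι hC (fun g : G => g * ι c * g⁻¹ = ι d)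
        (fun a g hg => by
          have := congrArg (a • ·) hg
          simp only [smul_mul', smul_inv', (hC _).mp ⟨c, rfl⟩ a, (hC _).mp ⟨d, rfl⟩ a] at this
          exact this)
        (fun hd => hp (hd.trans (by
          have e : {g : G // g * ι c * g⁻¹ = ι d} ≃ Subgroup.centralizer ({ι c} : Set G) :=
            { toFun := fun g => ⟨g₀⁻¹ * g, Subgroup.mem_centralizer_singleton_iff.mpr (by
                have h1 := g.2.trans hg₀.symm
                calc g₀⁻¹ * (g : G) * ι c = g₀⁻¹ * ((g : G) * ι c * (g : G)⁻¹) * (g : G) := by group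
                  _ = g₀⁻¹ * (g₀ * ι c * g₀⁻¹) * (g : G) := by rw [h1]
                  _ = ι c * (g₀⁻¹ * (g : G)) := by group)⟩
              invFun := fun z => ⟨g₀ * z, by
                have hz := Subgroup.mem_centralizer_singleton_iff.mp z.2
                calc g₀ * (z : G) * ι c * (g₀ * (z : G))⁻¹
                    = g₀ * ((z : G) * ι c) * (z : G)⁻¹ * g₀⁻¹ := by group
                  _ = g₀ * (ι c * (z : G)) * (z : G)⁻¹ * g₀⁻¹ := by rw [hz]
                  _ = ι d := by rw [← hg₀]; group⟩
              left_inv := fun g => Subtype.ext (by simp)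
              right_inv := fun z => Subtype.ext (by simp) }
          rw [Nat.card_congr e]
          exact Subgroup.card_subgroup_dvd_card _)))
      refine ConjClasses.mk_eq_mk_iff_isConj.mpr (isConj_iff.mpr ⟨x, hι ?_⟩)
      rw [map_mul, map_mul, map_inv]
      exact hx

theorem classMap_surjective {K : ConjClasses G} (hK : IsInvClass A K) :
    ∃ L, ConjClasses.map ι L = K := by
  induction K using Quotient.inductionOn with
  | h g₀ =>
    obtain ⟨c, hc⟩ := exists_fixed_mem hA ι hι hC
      (fun g => ConjClasses.mk g = ConjClasses.mk g₀) (fun a g hg => hK a g hg)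
      (fun hd => hp (hd.trans (by
        have e : Nat.card {g // ConjClasses.mk g = ConjClasses.mk g₀} =
            Nat.card (ConjClasses.mk g₀).carrier :=
          Nat.card_congr (Equiv.subtypeEquivRight fun g => ConjClasses.mem_carrier_iff_mk_eq.symm)
        rw [e, Char.card_carrier_eq_index]
        exact Subgroup.index_dvd_card _)))
    exact ⟨ConjClasses.mk c, hc⟩

omit hA hι hp in
theorem isInvClass_map (L : ConjClasses C) : IsInvClass A (ConjClasses.map ι L) := by
  induction L using Quotient.inductionOn with
  | h c =>
    intro a g hg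
    have hg' : ConjClasses.mk g = ConjClasses.mk (ι c) := hg
    obtain ⟨x, hx⟩ := isConj_iff.mp (ConjClasses.mk_eq_mk_iff_isConj.mp hg')
    show ConjClasses.mk (a • g) = ConjClasses.mk (ι c)
    refine ConjClasses.mk_eq_mk_iff_isConj.mpr (isConj_iff.mpr ⟨a • x, ?_⟩)
    rw [← smul_inv', ← smul_mul', ← smul_mul', hx, (hC _).mp ⟨c, rfl⟩ a]

end PStep

section Count

universe u v

/-- The counting theorem, in both forms. -/
theorem card_inv_eq_aux (n : ℕ) : ∀ (A : Type v) [Group A] [Finite A], Nat.card A ≤ n →
    Group.IsSolvable A → ∀ (G : Type u) [Group G] [Finite G] [MulDistribMulAction A G],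
      (Nat.card G).Coprime (Nat.card A) →
      Nat.card {χ : Cfsg.IrrCharacter G // IsInv A (χ : G → ℂ)} =
          Nat.card (ConjClasses (FixedPoints.subgroup A G)) ∧
        Nat.card {K : ConjClasses G // IsInvClass A K} =
          Nat.card (ConjClasses (FixedPoints.subgroup A G)) := by
  induction n with
  | zero =>
    intro A _ _ h
    exact absurd h (by have := Nat.card_pos (α := A); omega)
  | succ n ih =>
    intro A _ _ hcard hsolv G _ _ _ hcop
    classical
    rcases subsingleton_or_nontrivial A with hs | hnt
    · have htriv : ∀ (a : A) (g : G), a • g = g := fun a g => by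
        rw [Subsingleton.elim a 1, one_smul]
      have e : (FixedPoints.subgroup A G : Subgroup G) = ⊤ :=
        eq_top_iff.mpr fun g _ a => htriv a g
      rw [card_conjClasses_congr ((MulEquiv.subgroupCongr e).trans Subgroup.topEquiv)]
      refine ⟨?_, Nat.card_congr (Equiv.subtypeUnivEquiv fun K a g hg => by rw [htriv]; exact hg)⟩
      rw [← Char.card_irrCharacter]
      exact Nat.card_congr (Equiv.subtypeUnivEquiv fun χ a g => by rw [htriv])
    · obtain ⟨p, hp, hT⟩ := @Core.exists_pCore_ne_bot A _ _ _ hsolv
      haveI : Fact p.Prime := ⟨hp⟩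
      have hTp : IsPGroup p (Cfsg.pCore p A) := Core.isPGroup_pCore p A
      generalize hTdef : Cfsg.pCore p A = T at hT hTp
      haveI : T.Normal := hTdef ▸ inferInstance
      -- the action of `T` and its fixed points
      let C := FixedPoints.subgroup T G
      let ι : C →* G := C.subtype
      have hι : Function.Injective ι := Subtype.val_injective
      have hC : ∀ g : G, g ∈ ι.range ↔ ∀ t : T, t • g = g := fun g => by
        rw [Subgroup.range_subtype]; exact Iff.rfl
      haveI : Nontrivial T := (Subgroup.nontrivial_iff_ne_bot T).mpr hT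
      have hpG : ¬ p ∣ Nat.card G := fun h => by
        obtain ⟨k, hk, hk'⟩ := hTp.nontrivial_iff_card.mp inferInstance
        have : p ∣ Nat.card A :=
          (hk' ▸ dvd_pow_self p (by omega) : p ∣ Nat.card T).trans T.card_subgroup_dvd_card
        exact hp.ne_one (Nat.eq_one_of_dvd_coprimes hcop h this)
      -- the action of `A ⧸ T` on the fixed points
      have hmem : ∀ (a : A) (c : C), a • (c : G) ∈ C := fun a c t => by
        have h1 : (a⁻¹ * (t : A) * a) ∈ T := by
          simpa using ‹T.Normal›.conj_mem (t : A) t.2 a⁻¹
        have h2 : (a⁻¹ * (t : A) * a) • (c : G) = c := c.2 ⟨_, h1⟩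
        show (t : A) • a • (c : G) = a • (c : G)
        calc (t : A) • a • (c : G) = a • ((a⁻¹ * (t : A) * a) • (c : G)) := by
              simp [smul_smul, mul_assoc]
          _ = a • (c : G) := by rw [h2]
      let φ : A →* MulAut C :=
        { toFun := fun a =>
            { toFun := fun c => ⟨a • (c : G), hmem a c⟩
              invFun := fun c => ⟨a⁻¹ • (c : G), hmem a⁻¹ c⟩
              left_inv := fun c => Subtype.ext (inv_smul_smul a (c : G))
              right_inv := fun c => Subtype.ext (smul_inv_smul a (c : G))
              map_mul' := fun c d => Subtype.ext (smul_mul' a (c : G) (d : G)) }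
          map_one' := MulEquiv.ext fun c => Subtype.ext (one_smul A (c : G))
          map_mul' := fun a b => MulEquiv.ext fun c => Subtype.ext (mul_smul a b (c : G)) }
      have hker : T ≤ φ.ker := fun t ht => MulEquiv.ext fun c => Subtype.ext (c.2 ⟨t, ht⟩)
      letI : MulDistribMulAction (A ⧸ T) C :=
        MulDistribMulAction.compHom C (QuotientGroup.lift T φ hker)
      have hsmul : ∀ (a : A) (c : C), (((a : A ⧸ T) • c : C) : G) = a • (c : G) := fun a c => rfl
      -- induction hypothesis
      have hlt : Nat.card (A ⧸ T) ≤ n := by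
        have h1 := Subgroup.card_eq_card_quotient_mul_card_subgroup T
        have h2 : 1 < Nat.card T := Finite.one_lt_card
        have h3 := Nat.card_pos (α := A ⧸ T)
        have h4 : Nat.card (A ⧸ T) * 2 ≤ Nat.card A := h1 ▸ Nat.mul_le_mul_left _ h2
        omega
      have hcop' : (Nat.card C).Coprime (Nat.card (A ⧸ T)) :=
        (hcop.coprime_dvd_left C.card_subgroup_dvd_card).coprime_dvd_right
          T.card_quotient_dvd_card
      have hsolv' : Group.IsSolvable (A ⧸ T) :=
        solvable_of_surjective (f := QuotientGroup.mk' T) (QuotientGroup.mk'_surjective T)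
      obtain ⟨ih1, ih2⟩ := ih (A ⧸ T) hlt hsolv' C hcop'
      -- fixed points agree
      let eF : FixedPoints.subgroup (A ⧸ T) C ≃* FixedPoints.subgroup A G :=
        { toFun := fun c => ⟨((c : C) : G), fun a =>
            (hsmul a c).symm.trans (congrArg Subtype.val (c.2 a))⟩
          invFun := fun g => ⟨⟨(g : G), fun t => g.2 t⟩, fun q =>
            QuotientGroup.induction_on q fun a => Subtype.ext ((hsmul a _).trans (g.2 a))⟩
          left_inv := fun c => rfl
          right_inv := fun g => rfl
          map_mul' := fun c d => rfl }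
      rw [← card_conjClasses_congr eF]
      haveI := Fintype.ofFinite G
      haveI := Fintype.ofFinite C
      refine ⟨?_, ?_⟩
      · rw [← ih1]
        -- characters
        have hinvT : ∀ χ : Cfsg.IrrCharacter G, IsInv A (χ : G → ℂ) → IsInv T (χ : G → ℂ) :=
          fun χ h t g => h (t : A) g
        let f : {χ : Cfsg.IrrCharacter G // IsInv T (χ : G → ℂ)} → Cfsg.IrrCharacter C :=
          fun χ => (exists_correspondent hTp ι hι hC hpG χ.2).choose
        have hf : ∀ χ, ¬ p ∣ mult ι χ.1 (f χ) := fun χ hd => by
          have hs : (mult ι χ.1 (f χ) : ℤ) ≡ 1 [ZMOD p] ∨ (mult ι χ.1 (f χ) : ℤ) ≡ -1 [ZMOD p] :=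
            (exists_correspondent hTp ι hι hC hpG χ.2).choose_spec.2
          have hd' : (p : ℤ) ∣ (mult ι χ.1 (f χ) : ℤ) := Int.natCast_dvd_natCast.mpr hd
          have hp1 := (Nat.prime_iff_prime_int.mp hp).not_dvd_one
          rcases hs with h | h
          · exact hp1 (by simpa using dvd_add (Int.ModEq.dvd h) hd')
          · exact hp1 (dvd_neg.mp (by simpa using dvd_add (Int.ModEq.dvd h) hd'))
        have hf' : ∀ χ γ, ¬ p ∣ mult ι χ.1 γ → γ = f χ := fun χ γ h => by
          by_contra hne
          exact h ((exists_correspondent hTp ι hι hC hpG χ.2).choose_spec.1 γ hne)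
        -- equivariance
        letI : MulAction A (Cfsg.IrrCharacter G) := charAction
        letI : MulAction (A ⧸ T) (Cfsg.IrrCharacter C) := charAction
        have hmult : ∀ (a : A) (χ : Cfsg.IrrCharacter G) (γ : Cfsg.IrrCharacter C),
            mult ι (a • χ) ((a : A ⧸ T) • γ) = mult ι χ γ := by
          intro a χ γ
          apply Nat.cast_injective (R := ℂ)
          rw [← classInner_eq_mult, ← classInner_eq_mult, Cfsg.classInner, Cfsg.classInner]
          congr 1
          refine Fintype.sum_equiv (MulAction.toPerm ((a : A ⧸ T)⁻¹)) _ _ fun c => ?_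
          show (χ : G → ℂ) (a⁻¹ • (c : G)) * conj ((γ : C → ℂ) ((a : A ⧸ T)⁻¹ • c)) = _
          rfl
        have hinvT' : ∀ (a : A) (χ : Cfsg.IrrCharacter G), IsInv T (χ : G → ℂ) →
            IsInv T ((a • χ : Cfsg.IrrCharacter G) : G → ℂ) := by
          intro a χ h t g
          show (χ : G → ℂ) (a⁻¹ • (t : A) • g) = (χ : G → ℂ) (a⁻¹ • g)
          have h1 : (a⁻¹ * (t : A) * a) ∈ T := by
            simpa using ‹T.Normal›.conj_mem (t : A) t.2 a⁻¹
          have h2 : (χ : G → ℂ) ((a⁻¹ * (t : A) * a) • a⁻¹ • g) = _ := h ⟨_, h1⟩ (a⁻¹ • g)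
          rw [← h2]
          simp [smul_smul, mul_assoc]
        have hfix : ∀ (χ : {χ : Cfsg.IrrCharacter G // IsInv T (χ : G → ℂ)}),
            IsInv A (χ.1 : G → ℂ) ↔ IsInv (A ⧸ T) (f χ : C → ℂ) := by
          intro χ
          have key : ∀ a : A, a • χ.1 = χ.1 ↔ (a : A ⧸ T) • f χ = f χ := fun a => by
            constructor
            · intro h
              apply hf' χ
              have := hmult a χ.1 (f χ)
              rw [h] at this
              rw [this]; exact hf χ
            · intro h
              have h1 : ¬ p ∣ mult ι (a • χ.1) (f χ) := by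
                have := hmult a χ.1 (f χ)
                rw [h] at this
                rw [this]; exact hf χ
              exact correspondent_injective hTp ι hι hC hpG (hinvT' a χ.1 χ.2) χ.2 h1 (hf χ)
          constructor
          · intro h q c
            induction q using QuotientGroup.induction_on with
            | H a =>
              have h1 : a⁻¹ • χ.1 = χ.1 := Char.irr_ext fun g => h a⁻¹⁻¹ g
              have h2 := congrArg (fun η : Cfsg.IrrCharacter C => (η : C → ℂ) c)
                ((key a⁻¹).mp h1)
              change (f χ : C → ℂ) ((((a⁻¹ : A) : A ⧸ T))⁻¹ • c) = _ at h2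
              rwa [QuotientGroup.mk_inv, inv_inv] at h2
          · intro h a g
            have h1 : ((a⁻¹ : A) : A ⧸ T) • f χ = f χ :=
              Char.irr_ext fun c => h _ c
            have h2 := congrArg (fun η : Cfsg.IrrCharacter G => (η : G → ℂ) g)
              ((key a⁻¹).mpr h1)
            change (χ.1 : G → ℂ) ((a⁻¹)⁻¹ • g) = _ at h2
            rwa [inv_inv] at h2
        refine Nat.card_eq_of_bijective
          (fun χ : {χ : Cfsg.IrrCharacter G // IsInv A (χ : G → ℂ)} =>
            (⟨f ⟨χ.1, hinvT _ χ.2⟩, (hfix ⟨χ.1, hinvT _ χ.2⟩).mp χ.2⟩ :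
              {β : Cfsg.IrrCharacter C // IsInv (A ⧸ T) (β : C → ℂ)})) ⟨?_, ?_⟩
        · intro χ χ' h
          have h' : f ⟨χ.1, hinvT _ χ.2⟩ = f ⟨χ'.1, hinvT _ χ'.2⟩ := congrArg Subtype.val h
          exact Subtype.ext (correspondent_injective hTp ι hι hC hpG (hinvT _ χ.2) (hinvT _ χ'.2)
            (h' ▸ hf ⟨χ.1, hinvT _ χ.2⟩) (hf ⟨χ'.1, hinvT _ χ'.2⟩))
        · rintro ⟨β, hβ⟩
          obtain ⟨χ, hχ, hd⟩ := correspondent_surjective hTp ι hι hC hpG β
          have hfe : f ⟨χ, hχ⟩ = β := (hf' ⟨χ, hχ⟩ β hd).symm
          have hA : IsInv A (χ : G → ℂ) := (hfix ⟨χ, hχ⟩).mpr (by rw [hfe]; exact hβ)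
          exact ⟨⟨χ, hA⟩, Subtype.ext hfe⟩
      · rw [← ih2]
        -- classes
        have hfix : ∀ L : ConjClasses C,
            IsInvClass A (ConjClasses.map ι L) ↔ IsInvClass (A ⧸ T) L := by
          intro L
          induction L using Quotient.inductionOn with
          | h c =>
            constructor
            · intro h q d hd
              induction q using QuotientGroup.induction_on with
              | H a =>
                apply classMap_injective hTp ι hι hC hpG
                exact h a (d : G) (congrArg (ConjClasses.map ι) hd)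
            · intro h a g hg
              have hg' : ConjClasses.mk g = ConjClasses.mk (c : G) := hg
              obtain ⟨x, hx⟩ := isConj_iff.mp (ConjClasses.mk_eq_mk_iff_isConj.mp hg')
              have h1 : ConjClasses.mk (a • g) = ConjClasses.mk (a • (c : G)) :=
                ConjClasses.mk_eq_mk_iff_isConj.mpr (isConj_iff.mpr ⟨a • x, by
                  rw [← smul_inv', ← smul_mul', ← smul_mul', hx]⟩)
              have h2 : ConjClasses.mk ((a : A ⧸ T) • c) = ConjClasses.mk c := h (a : A ⧸ T) c rfl
              exact h1.trans (congrArg (ConjClasses.map ι) h2)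
        refine (Nat.card_eq_of_bijective
          (fun L : {L : ConjClasses C // IsInvClass (A ⧸ T) L} =>
            (⟨ConjClasses.map ι L.1, (hfix L.1).mpr L.2⟩ :
              {K : ConjClasses G // IsInvClass A K})) ⟨?_, ?_⟩).symm
        · intro L L' h
          exact Subtype.ext (classMap_injective hTp ι hι hC hpG (congrArg Subtype.val h))
        · rintro ⟨K, hK⟩
          obtain ⟨L, hL⟩ := classMap_surjective hTp ι hι hC hpG (K := K) fun t g hg => hK (t : A) g hg
          subst hL
          exact ⟨⟨L, (hfix L).mp hK⟩, rfl⟩

/-- Invariant characters and invariant classes are equinumerous. -/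
theorem card_inv_eq_card_inv_classes {A : Type v} [Group A] [Finite A] (hsolv : Group.IsSolvable A)
    {G : Type u} [Group G] [Finite G] [MulDistribMulAction A G]
    (hcop : (Nat.card G).Coprime (Nat.card A)) :
    Nat.card {χ : Cfsg.IrrCharacter G // IsInv A (χ : G → ℂ)} =
      Nat.card {K : ConjClasses G // IsInvClass A K} :=
  ((card_inv_eq_aux _ A le_rfl hsolv G hcop).1).trans
    ((card_inv_eq_aux _ A le_rfl hsolv G hcop).2).symm

end Count

end CfsgLib.CharAction
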